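import Groth.Agent.Lib.FibDesc.Flasque
import Groth.Agent.Lib.CohDelta.RAcyc
import Mathlib.Topology.Sheaves.Flasque
import Mathlib.CategoryTheory.Abelian.RightDerived
import Mathlib.CategoryTheory.Sites.EpiMono
import Mathlib.CategoryTheory.Abelian.GrothendieckCategory.EnoughInjectives
import Mathlib.CategoryTheory.Generator.Sheaf

/-!
# Levelwise flasque sheaves with exact rows are acyclic for `θ̄_*`
-/

set_option autoImplicit false

universe u

open CategoryTheory Limits Opposite TopologicalSpace Pseudofunctor.CoGrothendieck Simplicial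

namespace Groth.Agent.Lib.FibDesc.Acyclic

open Site Flasque Groth.Agent.FibSiteLib

variable {Y : AugSp.{u}}

/-- Exactness of sections in the middle and injectivity on the left. -/
lemma sections_exact {T : ShortComplex (Sh Y)} (hT : T.ShortExact) (X : Pt Y) :
    Function.Injective (T.f.hom.app (op X)) ∧
      ∀ x, T.g.hom.app (op X) x = 0 → ∃ w, T.f.hom.app (op X) w = x := by
  let E : Sh Y ⥤ AddCommGrpCat.{u} :=
    sheafToPresheaf _ _ ⋙ (evaluation _ _).obj (op X)
  haveI : E.Additive := ⟨fun {_ _ _ _} => rfl⟩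
  haveI : PreservesFiniteLimits E := comp_preservesFiniteLimits _ _
  have := hT.mono_f
  have hmono : Mono (E.map T.f) := E.map_mono _
  have hex : (T.map E).Exact := hT.exact.map_of_mono_of_preservesKernel _ inferInstance inferInstance
  exact ⟨(AddCommGrpCat.mono_iff_injective _).1 hmono, (ShortComplex.ab_exact_iff _).1 hex⟩

/-- Surjectivity on sections. -/
lemma sections_surjective {T : ShortComplex (Sh Y)} (hT : T.ShortExact) (h₁ : LvlFlasque T.X₁)
    (X : Pt Y) : Function.Surjective (T.g.hom.app (op X)) := by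
  let P := _root_.FibDesc.part (Fam Y)
  let JP := _root_.FibDesc.partTop (Fam Y) (Top Y)
  haveI := isContinuous_ι (isPreFibSite_part Y) X.base
  haveI := isCocontinuous_ι (isPreFibSite_part Y) X.base
  let L : Sh Y ⥤ Sheaf (Opens.grothendieckTopology (Sp Y (deg X))) AddCommGrpCat.{u} :=
    (ι P X.base).sheafPushforwardContinuous AddCommGrpCat.{u} (JP X.base) _
  haveI : L.Additive := ⟨fun {_ _ _ _} => rfl⟩
  haveI : L.IsLeftAdjoint :=
    ((ι P X.base).sheafAdjunctionCocontinuous AddCommGrpCat.{u} (JP X.base) _).isLeftAdjoint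
  haveI : L.IsRightAdjoint :=
    ((ι P X.base).sheafAdjunctionContinuous AddCommGrpCat.{u} (JP X.base) _).isRightAdjoint
  haveI : PreservesFiniteLimits L := PreservesLimitsOfSize.preservesFiniteLimits.{0, 0} _
  haveI : PreservesFiniteColimits L := PreservesColimitsOfSize.preservesFiniteColimits.{0, 0} _
  have hL : (T.map L).ShortExact := hT.map_of_exact L
  haveI : TopCat.Sheaf.IsFlasque (T.map L).X₁ := ⟨fun {U V} i =>
    (AddCommGrpCat.epi_iff_surjective _).2 (h₁ (deg X) V.unop U.unop i.unop.le)⟩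
  exact (AddCommGrpCat.epi_iff_surjective _).1
    (TopCat.Sheaf.IsFlasque.epi_of_shortExact (U := opn X) hL)

lemma rowD_rowD (G : Sh Y) (U : Opens (S Y)) (p : ℕ) (c : G.obj.obj (op ((above U) _⦋p⦌))) :
    rowD G U (p + 1) (rowD G U p c) = 0 := by
  have e := toSection_d U (p + 1) ((freeCx U).d (p + 1) p ≫ ofSection G.obj c)
  have e' := toSection_d U p (ofSection G.obj c)
  rw [toSection_ofSection] at e'
  rw [← Category.assoc, HomologicalComplex.d_comp_d, zero_comp, e'] at e
  exact e.symm

lemma lvlFlasque_X₃ {T : ShortComplex (Sh Y)} (hT : T.ShortExact) (h₁ : LvlFlasque T.X₁)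
    (h₂ : LvlFlasque T.X₂) : LvlFlasque T.X₃ := by
  intro p U V h x
  obtain ⟨y, rfl⟩ := sections_surjective hT h₁ _ x
  obtain ⟨z, rfl⟩ := h₂ p U V h y
  exact ⟨T.g.hom.app _ z, (NatTrans.naturality_apply T.g.hom _ z).symm⟩

lemma rowEx_X₃ {T : ShortComplex (Sh Y)} (hT : T.ShortExact) (h₁ : LvlFlasque T.X₁)
    (r₁ : RowEx T.X₁) (r₂ : RowEx T.X₂) : RowEx T.X₃ := by
  intro U p c hc
  obtain ⟨y, rfl⟩ := sections_surjective hT h₁ _ c
  rw [← rowD_naturality] at hc
  obtain ⟨t, ht⟩ := (sections_exact hT _).2 _ hc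
  have ht' : rowD T.X₁ U (p + 1 + 1) t = 0 := by
    refine (sections_exact hT _).1 ?_
    rw [rowD_naturality, ht, rowD_rowD, map_zero]
  obtain ⟨b, rfl⟩ := r₁ U (p + 1) t ht'
  rw [rowD_naturality] at ht
  obtain ⟨e, he⟩ := r₂ U p (y - T.f.hom.app _ b) (by rw [map_sub, ht, sub_self])
  refine ⟨T.g.hom.app _ e, ?_⟩
  rw [← rowD_naturality, he, map_sub]
  refine sub_eq_self.2 ?_
  exact ConcreteCategory.congr_hom (congrArg (fun φ : T.X₁ ⟶ T.X₃ => φ.hom.app _) T.zero) b

section Push

variable [(_root_.FibDesc.incl (Fam Y)).IsContinuous (_root_.FibDesc.totPart (Fam Y) (Top Y))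
    (_root_.FibDesc.totAug (Fam Y) (Top Y))]
  [(_root_.FibDesc.incl (Fam Y)).IsCocontinuous (_root_.FibDesc.totPart (Fam Y) (Top Y))
    (_root_.FibDesc.totAug (Fam Y) (Top Y))]
  [(_root_.FibDesc.eps (Fam Y)).IsContinuous (Top Y (_root_.FibDesc.bot _))
    (_root_.FibDesc.totAug (Fam Y) (Top Y))]

instance preservesFiniteLimits_push : PreservesFiniteLimits (push (Y := Y)) := by
  haveI : ((_root_.FibDesc.incl (Fam Y)).sheafPushforwardCocontinuous AddCommGrpCat.{u}
      (_root_.FibDesc.totPart (Fam Y) (Top Y)) (_root_.FibDesc.totAug (Fam Y) (Top Y))).IsRightAdjoint :=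
    ((_root_.FibDesc.incl (Fam Y)).sheafAdjunctionCocontinuous _ _ _).isRightAdjoint
  haveI := fun (J : Type) (_ : SmallCategory J) (_ : FinCategory J) =>
    (inferInstance : PreservesLimitsOfShape J ((_root_.FibDesc.incl (Fam Y)).sheafPushforwardCocontinuous
      AddCommGrpCat.{u} (_root_.FibDesc.totPart (Fam Y) (Top Y)) (_root_.FibDesc.totAug (Fam Y) (Top Y))))
  haveI : PreservesFiniteLimits ((_root_.FibDesc.incl (Fam Y)).sheafPushforwardCocontinuous
      AddCommGrpCat.{u} (_root_.FibDesc.totPart (Fam Y) (Top Y)) (_root_.FibDesc.totAug (Fam Y) (Top Y))) :=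
    PreservesLimitsOfSize.preservesFiniteLimits.{0, 0} _
  exact comp_preservesFiniteLimits _ _

lemma push_surjective {T : ShortComplex (Sh Y)} (hT : T.ShortExact) (h₁ : LvlFlasque T.X₁)
    (r₁ : RowEx T.X₁) (U : Opens (S Y)) :
    Function.Surjective (((push (Y := Y)).map T.g).hom.app (op U)) := by
  intro a
  obtain ⟨y, hy⟩ := sections_surjective hT h₁ _ (ev T.X₃ (above_below U (op ⦋0⦌)) a)
  have h0 : T.g.hom.app _ (rowD T.X₂ U 0 y) = 0 := by
    rw [rowD_naturality, hy, rowD_zero_apply, sub_eq_zero]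
    exact eqCond_ev T.X₃ a
  obtain ⟨t, ht⟩ := (sections_exact hT _).2 _ h0
  have ht' : rowD T.X₁ U 1 t = 0 := by
    refine (sections_exact hT _).1 ?_
    rw [rowD_naturality, ht, rowD_rowD, map_zero]
  obtain ⟨b, rfl⟩ := r₁ U 0 t ht'
  rw [rowD_naturality] at ht
  have hz : EqCond T.X₂ U (y - T.f.hom.app _ b) := by
    have := congrArg (fun w => w) (show rowD T.X₂ U 0 (y - T.f.hom.app _ b) = 0 by
      rw [map_sub, ht, sub_self])
    rw [rowD_zero_apply, sub_eq_zero] at this
    exact this
  obtain ⟨x, hx⟩ := exists_ev₀ T.X₂ hz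
  refine ⟨x, ev₀_injective T.X₃ ?_⟩
  refine (ConcreteCategory.congr_hom (ev_naturality T.g (above_below U (op ⦋0⦌))) x).trans ?_
  change T.g.hom.app _ (ev T.X₂ (above_below U (op ⦋0⦌)) x) = _
  rw [hx, map_sub, hy]
  refine sub_eq_self.2 ?_
  exact ConcreteCategory.congr_hom (congrArg (fun φ : T.X₁ ⟶ T.X₃ => φ.hom.app _) T.zero) b

/-- Levelwise flasque sheaves with exact rows are acyclic for the direct image. -/
theorem isZero_rightDerived : ∀ (i : ℕ) (G : Sh Y), LvlFlasque G → RowEx G →
    IsZero (((push (Y := Y)).rightDerived (i + 1)).obj G) := by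
  intro i
  induction i with
  | zero =>
    intro G h r
    let T : ShortComplex (Sh Y) := ShortComplex.mk (Injective.ι G) (cokernel.π _) (cokernel.condition _)
    have hT : T.ShortExact :=
      { exact := ShortComplex.exact_of_g_is_cokernel _ (cokernelIsCokernel _)
        mono_f := inferInstanceAs (Mono (Injective.ι G))
        epi_g := inferInstanceAs (Epi (cokernel.π _)) }
    obtain ⟨e⟩ := CohDelta.RAcyc.nonempty_one_iso (push (Y := Y)) hT
      (Functor.isZero_rightDerived_obj_injective_succ _ 0 _)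
    have : Epi ((push (Y := Y)).map T.g) := by
      haveI : ∀ U, Epi (((push (Y := Y)).map T.g).hom.app U) := fun U =>
        (AddCommGrpCat.epi_iff_surjective _).2 (push_surjective hT h r U.unop)
      haveI : Epi ((sheafToPresheaf _ _).map ((push (Y := Y)).map T.g)) :=
        NatTrans.epi_of_epi_app ((push (Y := Y)).map T.g).hom
      exact (sheafToPresheaf _ _).epi_of_epi_map inferInstance
    exact (isZero_cokernel_of_epi _).of_iso e
  | succ i ih =>
    intro G h r
    let T : ShortComplex (Sh Y) := ShortComplex.mk (Injective.ι G) (cokernel.π _) (cokernel.condition _)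
    have hT : T.ShortExact :=
      { exact := ShortComplex.exact_of_g_is_cokernel _ (cokernelIsCokernel _)
        mono_f := inferInstanceAs (Mono (Injective.ι G))
        epi_g := inferInstanceAs (Epi (cokernel.π _)) }
    obtain ⟨e⟩ := CohDelta.RAcyc.nonempty_shift_iso (push (Y := Y)) hT
      (fun q => Functor.isZero_rightDerived_obj_injective_succ _ q _) i
    exact (ih _ (lvlFlasque_X₃ hT h (lvlFlasque_of_injective _))
      (rowEx_X₃ hT h r (rowEx_of_injective _))).of_iso e.symm

end Push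

end Groth.Agent.Lib.FibDesc.Acyclic
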