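import Groth.Agent.H30.Gode.PullSec
import Groth.Agent.H30.Gode.Rows

/-!
# The tower of levels and change of the base

For `g : S' ⟶ S` the families of values of `F` on spaces over `S'` are those of `g⁻¹ F`.
-/

set_option autoImplicit false

universe u

open CategoryTheory Limits Filter Topology TopologicalSpace Opposite

namespace Groth.Agent.Lib.FibDesc.BaseChangeLv

open Groth.Agent.H30.Gode

section Generic

variable {Y Y' : TopCat.{u}} {h : Y' ⟶ Y} {A : Lv Y} {B : Lv Y'} (M : LvHom h A B)

/-- Membership is reflected. -/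
def Reflects : Prop := ∀ y' φ, M.fn φ ∈ B.N y' → φ ∈ A.N (h y')

variable {M}

lemma next_injective (hr : Reflects M) (y' : Y') : Function.Injective (M.next.m y') := by
  rw [injective_iff_map_eq_zero]
  intro x hx
  obtain ⟨φ, rfl⟩ := QuotientAddGroup.mk'_surjective (A.N (h y')) x
  exact (QuotientAddGroup.eq_zero_iff φ).2 (hr y' φ
    ((QuotientAddGroup.eq_zero_iff _).1 ((M.next_m_mk y' φ).symm.trans hx)))

lemma next_surjective (hs : Function.Surjective M.fn) (y' : Y') :
    Function.Surjective (M.next.m y') := by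
  intro x
  obtain ⟨φ', rfl⟩ := QuotientAddGroup.mk'_surjective (B.N y') x
  obtain ⟨φ, rfl⟩ := hs φ'
  exact ⟨A.d φ (h y'), M.next_m_mk y' φ⟩

end Generic

section Same

variable {Y : TopCat.{u}} {A B : Lv Y} {M : LvHom (𝟙 Y) A B}

lemma fn_surjective_of (hs : ∀ y, Function.Surjective (M.m y)) : Function.Surjective M.fn :=
  fun φ => ⟨fun y => (hs y (φ y)).choose, funext fun y => (hs y (φ y)).choose_spec⟩

lemma next_reflects (hi : ∀ y, Function.Injective (M.next.m y))
    (hs : Function.Surjective M.fn) : Reflects M.next := by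
  rintro y ψ ⟨φ', hφ'⟩
  obtain ⟨φ, rfl⟩ := hs φ'
  refine ⟨φ, hφ'.mono fun z hz => hi z ?_⟩
  exact hz.trans (M.next_m_mk z φ).symm

end Same

variable {S S' : TopCat.{u}} (g : S' ⟶ S) (F : CohTop.Ab S)

/-- The inverse image. -/
noncomputable abbrev F' : CohTop.Ab S' := (CohTop.pull g).obj F

/-- The unit on stalks. -/
noncomputable def toPull (y : S') : stk F (g y) ⟶ stk (F' g F) y :=
  (TopCat.Presheaf.stalkFunctor AddCommGrpCat.{u} (g y)).map
      ((TopCat.Sheaf.pullbackPushforwardAdjunction AddCommGrpCat.{u} g).unit.app F).hom ≫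
    TopCat.Presheaf.stalkPushforward AddCommGrpCat.{u} g (F' g F).obj y

variable {g F}

lemma toPull_germ (T : Opens S) (t : F.obj.obj (op T)) (y : S') (hy : g y ∈ T) :
    toPull g F y (germ F hy t) = germ (F' g F) (show y ∈ (Opens.map g).obj T from hy)
      (((TopCat.Sheaf.pullbackPushforwardAdjunction AddCommGrpCat.{u} g).unit.app F).hom.app (op T) t) := by
  refine (congrArg (TopCat.Presheaf.stalkPushforward AddCommGrpCat.{u} g (F' g F).obj y)
    (TopCat.Presheaf.stalkFunctor_map_germ_apply T (g y) hy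
      ((TopCat.Sheaf.pullbackPushforwardAdjunction AddCommGrpCat.{u} g).unit.app F).hom t)).trans ?_
  exact ConcreteCategory.congr_hom
    (TopCat.Presheaf.stalkPushforward_germ AddCommGrpCat.{u} g (F' g F).obj T y hy) _

lemma toPull_secVal {V : Opens S'} (x : (F' g F).obj.obj (op V)) (y : S') (hy : y ∈ V) :
    toPull g F y (secVal F g V x y) = germ (F' g F) hy x := by
  obtain ⟨T, hT, t, ht⟩ := TopCat.Presheaf.germ_exist F.obj (x := g y) (secVal F g V x y)
  refine ((congrArg (toPull g F y) ht.symm).trans (toPull_germ T t y hT)).trans ?_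
  exact germ_eq_of_secVal _ x y hT hy ((secVal_unit T t y hT).trans ht)

lemma toPull_bijective (y : S') : Function.Bijective (toPull g F y) := by
  refine ⟨(injective_iff_map_eq_zero _).2 fun e he => ?_, fun e => ?_⟩
  · obtain ⟨T, hT, t, rfl⟩ := TopCat.Presheaf.germ_exist F.obj (x := g y) e
    have h0 := (toPull_germ T t y hT).symm.trans he
    obtain ⟨W, hW, i₁, i₂, e'⟩ := TopCat.Presheaf.germ_eq (F' g F).obj y
      (show y ∈ (Opens.map g).obj T from hT) (show y ∈ (Opens.map g).obj T from hT) _ 0
      (h0.trans (map_zero _).symm)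
    refine (secVal_unit T t y hT).symm.trans ?_
    refine (secVal_res i₁.le _ y hW).symm.trans ?_
    refine (congrArg (fun w => secVal F g W w y) (e'.trans (map_zero _))).trans ?_
    exact congrFun (map_zero (secVal F g W)) y
  · obtain ⟨V, hV, x, rfl⟩ := TopCat.Presheaf.germ_exist (F' g F).obj (x := y) e
    exact ⟨secVal F g V x y, toPull_secVal x y hV⟩

variable (g F)

/-- The comparison of the first levels. -/
noncomputable def bcBase (T : Over S') :
    LvHom (𝟙 T.left) (lv F (T.hom ≫ g) 0) (lv (F' g F) T.hom 0) where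
  m z := toPull g F (T.hom z)
  compat y φ := by
    rintro ⟨W, hW, t, ht⟩
    refine ⟨(Opens.map g).obj W, hW,
      ((TopCat.Sheaf.pullbackPushforwardAdjunction AddCommGrpCat.{u} g).unit.app F).hom.app (op W) t, ?_⟩
    filter_upwards [ht, ((T.hom ≫ g).hom.continuous.tendsto y).eventually (W.isOpen.mem_nhds hW)]
      with z hz hzW
    refine ((congrArg (toPull g F (T.hom z)) (hz.trans (germFam_of_mem F _ t z hzW))).trans
      (toPull_germ W t (T.hom z) hzW)).trans ?_
    exact (germFam_of_mem (F' g F) T.hom _ z hzW).symm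

/-- The comparison of the levels. -/
noncomputable def bcHom (T : Over S') :
    ∀ q, LvHom (𝟙 T.left) (lv F (T.hom ≫ g) q) (lv (F' g F) T.hom q)
  | 0 => bcBase g F T
  | q + 1 => (bcHom T q).next

lemma bcBase_reflects (T : Over S') : Reflects (bcBase g F T) := by
  rintro y φ ⟨V, hV, x, hx⟩
  obtain ⟨W, hW, t, ht⟩ := secVal_mem_N x (T.hom y) hV
  refine ⟨W, hW, t, ?_⟩
  filter_upwards [hx, (T.hom.hom.continuous.tendsto y).eventually ht,
    (T.hom.hom.continuous.tendsto y).eventually (V.isOpen.mem_nhds hV),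
    ((T.hom ≫ g).hom.continuous.tendsto y).eventually (W.isOpen.mem_nhds hW)] with z hz hzt hzV hzW
  have e1 : φ z = secVal F g V x (T.hom z) := (toPull_bijective (T.hom z)).1
    ((hz.trans (germFam_of_mem (F' g F) T.hom x z hzV)).trans (toPull_secVal x _ hzV).symm)
  refine e1.trans ((hzt.trans (germFam_of_mem F g t (T.hom z) hzW)).trans ?_)
  exact (germFam_of_mem F (T.hom ≫ g) t z hzW).symm

theorem bcHom_bijective (T : Over S') : ∀ q, Reflects (bcHom g F T q) ∧
    ∀ z, Function.Bijective ((bcHom g F T q).m z)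
  | 0 => ⟨bcBase_reflects g F T, fun z => toPull_bijective _⟩
  | q + 1 => by
    obtain ⟨hr, hb⟩ := bcHom_bijective T q
    have hs : Function.Surjective (bcHom g F T q).fn := fn_surjective_of fun z => (hb z).2
    exact ⟨next_reflects (next_injective hr) hs,
      fun z => ⟨next_injective hr z, next_surjective hs z⟩⟩

/-- Families of values of `F` and of its inverse image. -/
noncomputable def bc (T : Over S') (q : ℕ) :
    (lv F ((Over.map g).obj T).hom q).Fn →+ (lv (F' g F) T.hom q).Fn :=
  (bcHom g F T q).fn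

lemma bc_apply (T : Over S') (q : ℕ) (φ : (lv F ((Over.map g).obj T).hom q).Fn) (z : T.left) :
    bc g F T q φ z = (bcHom g F T q).m z (φ z) := rfl

theorem bc_bijective (T : Over S') (q : ℕ) : Function.Bijective (bc g F T q) :=
  ⟨fun _ _ e => funext fun z => ((bcHom_bijective g F T q).2 z).1 (congrFun e z),
    fn_surjective_of fun z => ((bcHom_bijective g F T q).2 z).2⟩

lemma bc_apply_eq_zero_iff (T : Over S') (q : ℕ) (φ : (lv F ((Over.map g).obj T).hom q).Fn)
    (z : T.left) : bc g F T q φ z = 0 ↔ φ z = 0 :=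
  ⟨fun h => ((bcHom_bijective g F T q).2 z).1 (h.trans (map_zero _).symm),
    fun h => (congrArg ((bcHom g F T q).m z) h).trans (map_zero _)⟩

lemma bc_d (T : Over S') (q : ℕ) (φ : (lv F ((Over.map g).obj T).hom q).Fn) :
    bc g F T (q + 1) ((lv F ((Over.map g).obj T).hom q).d' φ) =
      (lv (F' g F) T.hom q).d' (bc g F T q φ) :=
  (bcHom g F T q).next_fn_d' φ

lemma bc_pb {T T' : Over S'} (j : T' ⟶ T) : ∀ (q : ℕ) (φ : (lv F ((Over.map g).obj T).hom q).Fn),
    bc g F T' q (pb F q ((Over.map g).map j) φ) = pb (F' g F) q j (bc g F T q φ)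
  | 0, φ => by
    funext z
    have key : ∀ {s s' : S'} (e : s = s') (a : stk F (g s)),
        toPull g F s' (eqToHom (congrArg (fun r => stk F (g r)) e) a) =
          eqToHom (congrArg (stk (F' g F)) e) (toPull g F s a) := by
      intro s s' e a
      subst e
      rfl
    exact key (ConcreteCategory.congr_hom (Over.w j) z) (φ (j.left z))
  | q + 1, ψ => by
    funext z
    obtain ⟨φ, hφ⟩ := QuotientAddGroup.mk'_surjective
      ((lv F ((Over.map g).obj T).hom q).N (j.left z)) (ψ (j.left z))
    rw [pb_apply, bc_apply, bc_apply, pb_apply]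
    erw [← hφ]
    refine ((congrArg ((bcHom g F T' (q + 1)).m z)
      ((hom F ((Over.map g).map j).left (Over.w ((Over.map g).map j)) q).next_m_mk z φ))).trans ?_
    refine ((bcHom g F T' q).next_m_mk z _).trans ?_
    refine Eq.trans ?_ (congrArg ((hom (F' g F) j.left (Over.w j) (q + 1)).m z)
      ((bcHom g F T q).next_m_mk (j.left z) φ).symm)
    refine Eq.trans ?_ ((hom (F' g F) j.left (Over.w j) q).next_m_mk z _).symm
    exact congrArg (fun χ => (lv (F' g F) T'.hom q).d χ z) (bc_pb j q φ)

end Groth.Agent.Lib.FibDesc.BaseChangeLv
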