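import Groth.Agent.Lib.FibDesc.Transfer

/-!
# Cohomological descent of maps is local on the base
-/

set_option autoImplicit false
set_option linter.style.haveILetI false

universe u

open CategoryTheory Limits TopologicalSpace Opposite Simplicial Topology

namespace Groth.Agent.Lib.FibDesc.BaseLocal

open Groth.Agent.H30.Gode Transfer

variable {S S' : TopCat.{u}} (g : S' ⟶ S) (K : SimplicialObject (Over S))

/-- The projection of the base change. -/
noncomputable def proj : over g (K ⋙ Over.pullback g) ⟶ K where
  app n := Over.homMk (pullback.fst (K.obj n).hom g) pullback.condition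
  naturality n m f := Over.OverMorphism.ext (by
    exact pullback.lift_fst _ _ _)

/-- Exactness above opens in the image of an open embedding. -/
theorem te_iff_pullback (F : CohTop.Ab S) (hg : IsOpenEmbedding g) (U : Opens S)
    (hU : (U : Set S) ⊆ Set.range g) :
    TE F K U ↔ TE (BaseChangeLv.F' g F) (K ⋙ Over.pullback g) ((Opens.map g).obj U) := by
  refine Iff.trans ?_ (exactTot_iff_base F g (K ⋙ Over.pullback g) (Over.mk (𝟙 S'))
    (Groth.Agent.H30.Gode.toBase _) (toBase_cond _) U)
  refine exactTot_iff_map (toBase_cond K) _ (proj g K)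
    (Over.homMk g ((Category.comp_id g).trans (Category.id_comp g).symm)) ?_ U (fun p => ?_)
    fun p y hy => ?_
  · exact Over.OverMorphism.ext pullback.condition
  · cases p with
    | zero => exact hg
    | succ p => exact TopCat.fst_isOpenEmbedding_of_right _ hg
  · cases p with
    | zero => exact hU hy
    | succ p =>
      have e := TopCat.pullback_fst_range (K _⦋p⦌).hom g
      obtain ⟨z, hz⟩ := hU hy
      exact (Set.ext_iff.1 e y).2 ⟨z, hz.symm⟩

/-- **Cohomological descent is local on the base.** -/
theorem isCohDescentMap {X S : TopCat.{u}} (u : X ⟶ S) {ι : Type u} (V : ι → Opens S)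
    (hV : iSup V = ⊤)
    (h : ∀ i, _root_.FibDesc.IsCohDescentMap
      (pullback.snd u (TopCat.ofHom ⟨Subtype.val, continuous_subtype_val⟩ : TopCat.of (V i) ⟶ S))) :
    _root_.FibDesc.IsCohDescentMap u := by
  refine TotExactIff.isCohDescentTop_iff.2 fun F => TotExactIff.totExact_of_locExact F ?_
  intro U s hs
  obtain ⟨i, hi⟩ := Opens.mem_iSup.1 (show s ∈ iSup V from hV.symm ▸ trivial)
  let g : TopCat.of (V i) ⟶ S := TopCat.ofHom ⟨Subtype.val, continuous_subtype_val⟩
  let W : Opens S := U ⊓ V i
  have hW : TE F (nerve u) W := (te_iff_pullback g (nerve u) F (V i).isOpenEmbedding' W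
    (fun x hx => ⟨⟨x, hx.2⟩, rfl⟩)).2 ((te_iff_of_iso (BaseChangeLv.F' g F) (nerve u ⋙ Over.pullback g)
      (nervePullbackIso u g).symm ((Opens.map g).obj W)).2
        ((isCohDescentMap_iff (pullback.snd u g)).1 (h i) (BaseChangeLv.F' g F) _))
  refine ⟨fun c hc hd => ⟨W, inf_le_left, ⟨hs, hi⟩,
      hW.1 _ ((TotExactIff.resD F inf_le_left).map_mem_W hc)
        (((TotExactIff.resD F inf_le_left).map_tot c).symm.trans
          ((congrArg _ hd).trans (map_zero _)))⟩, fun n c hc hd => ?_⟩
  obtain ⟨b, hb, e⟩ := hW.2 n _ ((TotExactIff.resD F inf_le_left).map_mem_W hc)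
    (((TotExactIff.resD F (inf_le_left : W ≤ U)).map_tot c).symm.trans
      ((congrArg _ hd).trans (map_zero _)))
  exact ⟨W, inf_le_left, b, ⟨hs, hi⟩, hb, e⟩

end Groth.Agent.Lib.FibDesc.BaseLocal
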