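import Groth.Agent.Lib.FibDesc.Descent

/-!
# Maps with local sections are of universal cohomological descent
-/

set_option autoImplicit false

universe u

open CategoryTheory Limits TopologicalSpace Opposite Simplicial

namespace Groth.Agent.Lib.FibDesc.LocalSections

open Groth.Agent.H30.Gode

/-- Sections exist near each point of the base. -/
def HasLocalSections {X S : TopCat.{u}} (f : X ⟶ S) : Prop :=
  ∀ s : S, ∃ (U : Opens S) (σ : TopCat.of U ⟶ X), s ∈ U ∧ σ ≫ f = incU U

/-- Exact rows of the Čech nerve give descent of a map. -/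
theorem isCohDescentMap_of_rowsExact {X S : TopCat.{u}} (f : X ⟶ S)
    (H : ∀ F : CohTop.Ab S, RowsExact F (nerve f)) : _root_.FibDesc.IsCohDescentMap f :=
  Descent.isCohDescentTop (Y := _root_.FibDesc.cechAug f) fun F => H F

theorem isCohDescentMap {X S : TopCat.{u}} (f : X ⟶ S) (h : HasLocalSections f) :
    _root_.FibDesc.IsCohDescentMap f := by
  choose U σ hs hσ using h
  exact isCohDescentMap_of_rowsExact f fun F =>
    rowsExact_of_contr F fun s => nerveContr f (U s) (σ s) (hσ s) s (hs s)

theorem hasLocalSections_baseChange {X S S' : TopCat.{u}} (f : X ⟶ S) (g : S' ⟶ S)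
    (h : HasLocalSections f) : HasLocalSections (pullback.snd f g) := by
  intro s'
  obtain ⟨U, σ, hs, hσ⟩ := h (g s')
  let V : Opens S' := (Opens.map g).obj U
  let gV : TopCat.of V ⟶ TopCat.of U :=
    TopCat.ofHom ⟨fun z => ⟨g z.1, z.2⟩, (g.hom.continuous.comp continuous_subtype_val).subtype_mk _⟩
  refine ⟨V, pullback.lift (gV ≫ σ) (incU V) ?_, hs, pullback.lift_snd _ _ _⟩
  rw [Category.assoc, hσ]
  rfl

theorem isUnivCohDescentMap {X S : TopCat.{u}} (f : X ⟶ S) (h : HasLocalSections f) :
    _root_.FibDesc.IsUnivCohDescentMap f :=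
  fun _ g => isCohDescentMap _ (hasLocalSections_baseChange f g h)

end Groth.Agent.Lib.FibDesc.LocalSections
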