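import Groth.Agent.Lib.FibDesc.Cech
import Groth.Agent.Lib.FibDesc.LocalSections
import Mathlib.CategoryTheory.Limits.Shapes.Pullback.Pasting

/-!
# Formal properties of maps of universal cohomological descent
-/

set_option autoImplicit false
set_option linter.style.haveILetI false

universe u

open CategoryTheory Limits TopologicalSpace Opposite Simplicial Topology

namespace Groth.Agent.Lib.FibDesc.Univ

open Groth.Agent.H30.Gode Transfer

variable {X X' Y Y' S : TopCat.{u}}

/-- The map of fibre powers. -/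
noncomputable def pwMap {u : X ⟶ S} {u' : X' ⟶ S} (e : X ⟶ X') (he : e ≫ u' = u) (m : ℕ) :
    Pw u m ⟶ Pw u' m :=
  WidePullback.lift (pwBase u m) (fun i => pwπ u m i ≫ e)
    (fun i => by rw [Category.assoc, he]; exact WidePullback.π_arrow _ i)

lemma pwMap_π {u : X ⟶ S} {u' : X' ⟶ S} (e : X ⟶ X') (he : e ≫ u' = u) (m : ℕ) (i : Fin (m + 1)) :
    pwMap e he m ≫ pwπ u' m i = pwπ u m i ≫ e :=
  WidePullback.lift_π _ _ _ _ _

lemma pwMap_base {u : X ⟶ S} {u' : X' ⟶ S} (e : X ⟶ X') (he : e ≫ u' = u) (m : ℕ) :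
    pwMap e he m ≫ pwBase u' m = pwBase u m :=
  WidePullback.lift_base _ _ _ _

lemma pwMap_id {u : X ⟶ S} {u' : X' ⟶ S} (e : X ≅ X') (he : e.hom ≫ u' = u) (m : ℕ) :
    pwMap e.hom he m ≫ pwMap e.inv (by rw [← he, e.inv_hom_id_assoc]) m = 𝟙 (Pw u m) := by
  apply WidePullback.hom_ext
  · intro j
    rw [Category.assoc, pwMap_π, ← Category.assoc, pwMap_π, Category.assoc, e.hom_inv_id,
      Category.comp_id, Category.id_comp]
  · rw [Category.assoc, pwMap_base, pwMap_base, Category.id_comp]

/-- Isomorphic maps have isomorphic nerves. -/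
noncomputable def nerveCongr {u : X ⟶ S} {u' : X' ⟶ S} (e : X ≅ X') (he : e.hom ≫ u' = u) :
    nerve u ≅ nerve u' :=
  NatIso.ofComponents (fun n => Over.isoMk
    { hom := pwMap e.hom he n.unop.len
      inv := pwMap e.inv (by rw [← he, e.inv_hom_id_assoc]) n.unop.len
      hom_inv_id := pwMap_id e he n.unop.len
      inv_hom_id := pwMap_id e.symm (by simp [← he]) n.unop.len }
      (pwMap_base e.hom he n.unop.len))
    fun {n k} f => by
      apply Over.OverMorphism.ext
      let θ : Pw u n.unop.len ⟶ Pw u k.unop.len := ((nerve u).map f).left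
      let θ' : Pw u' n.unop.len ⟶ Pw u' k.unop.len := ((nerve u').map f).left
      change θ ≫ pwMap e.hom he k.unop.len = pwMap e.hom he n.unop.len ≫ θ'
      have hθ : ∀ j, θ ≫ pwπ u k.unop.len j = pwπ u n.unop.len (f.unop.toOrderHom j) := fun j =>
        WidePullback.lift_π _ _ _ _ _
      have hθ' : ∀ j, θ' ≫ pwπ u' k.unop.len j = pwπ u' n.unop.len (f.unop.toOrderHom j) := fun j =>
        WidePullback.lift_π _ _ _ _ _
      apply WidePullback.hom_ext
      · intro j
        rw [Category.assoc, pwMap_π, Category.assoc, hθ', pwMap_π, ← Category.assoc, hθ]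
      · rw [Category.assoc, pwMap_base, Category.assoc, show θ' ≫ pwBase u' k.unop.len =
          pwBase u' n.unop.len from WidePullback.lift_base _ _ _ _, pwMap_base,
          show θ ≫ pwBase u k.unop.len = pwBase u n.unop.len from WidePullback.lift_base _ _ _ _]

/-- Descent is invariant under isomorphisms of the source. -/
theorem isCohDescentMap_of_iso {u : X ⟶ S} {u' : X' ⟶ S} (e : X ≅ X') (he : e.hom ≫ u' = u)
    (h : _root_.FibDesc.IsCohDescentMap u') : _root_.FibDesc.IsCohDescentMap u :=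
  (isCohDescentMap_iff u).2 fun F U =>
    (te_iff_of_iso F (nerve u') (nerveCongr e he) U).1 ((isCohDescentMap_iff u').1 h F U)

theorem isUniv_of_iso {u : X ⟶ S} {u' : X' ⟶ S} (e : X ≅ X') (he : e.hom ≫ u' = u)
    (h : _root_.FibDesc.IsUnivCohDescentMap u') : _root_.FibDesc.IsUnivCohDescentMap u := by
  intro T g
  refine isCohDescentMap_of_iso (asIso (pullback.map u g u' g e.hom (𝟙 T) (𝟙 S)
    (by rw [Category.comp_id, he]) (by simp))) ?_ (h T g)
  exact (pullback.lift_snd _ _ _).trans (Category.comp_id _)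

theorem isUniv_baseChange {S' : TopCat.{u}} (f : X ⟶ S) (g : S' ⟶ S)
    (h : _root_.FibDesc.IsUnivCohDescentMap f) :
    _root_.FibDesc.IsUnivCohDescentMap (pullback.snd f g) := fun T t =>
  isCohDescentMap_of_iso (pullbackLeftPullbackSndIso f g t)
    (pullbackLeftPullbackSndIso_hom_snd f g t) (h T (t ≫ g))

/-- Descent of a map with descent after base change along the nerve. -/
theorem isCohDescentMap_of_pw (u : X ⟶ S) (v : Y ⟶ S) (hv : _root_.FibDesc.IsUnivCohDescentMap v)
    (h : ∀ (m : ℕ), _root_.FibDesc.IsCohDescentMap (pullback.snd u (pwBase v m))) :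
    _root_.FibDesc.IsCohDescentMap u :=
  Cech.isCohDescentMap u v hv h

theorem isUniv_of_comp (f : X ⟶ Y) (g : Y ⟶ S)
    (h : _root_.FibDesc.IsUnivCohDescentMap (f ≫ g)) : _root_.FibDesc.IsUnivCohDescentMap g := by
  intro T t
  let u := pullback.snd g t
  let v := pullback.snd (f ≫ g) t
  refine isCohDescentMap_of_pw u v (isUniv_baseChange (f ≫ g) t h) fun m =>
    LocalSections.isCohDescentMap _ fun s => ?_
  let w : Pw v m ⟶ pullback g t :=
    pullback.lift (pwπ v m 0 ≫ pullback.fst (f ≫ g) t ≫ f) (pwBase v m) (by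
      rw [Category.assoc, Category.assoc, pullback.condition, ← Category.assoc,
        show pwπ v m 0 ≫ pullback.snd (f ≫ g) t = pwBase v m from WidePullback.π_arrow _ 0])
  let σ : Pw v m ⟶ pullback u (pwBase v m) :=
    pullback.lift w (𝟙 _) ((pullback.lift_snd _ _ _).trans (Category.id_comp _).symm)
  refine ⟨⊤, incU ⊤ ≫ σ, trivial, ?_⟩
  rw [Category.assoc, pullback.lift_snd, Category.comp_id]

theorem isUniv_iff_baseChange {S' : TopCat.{u}} (f : X ⟶ S) (g : S' ⟶ S)
    (hg : _root_.FibDesc.IsUnivCohDescentMap g) :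
    _root_.FibDesc.IsUnivCohDescentMap f ↔ _root_.FibDesc.IsUnivCohDescentMap (pullback.snd f g) := by
  refine ⟨isUniv_baseChange f g, fun hf T t => ?_⟩
  let u := pullback.snd f t
  let v := pullback.snd g t
  refine isCohDescentMap_of_pw u v (isUniv_baseChange g t hg) fun m => ?_
  let r : Pw v m ⟶ S' := pwπ v m 0 ≫ pullback.fst g t
  have hr : pwBase v m ≫ t = r ≫ g := by
    rw [Category.assoc, pullback.condition, ← Category.assoc,
      show pwπ v m 0 ≫ pullback.snd g t = pwBase v m from WidePullback.π_arrow _ 0]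
  refine isCohDescentMap_of_iso (pullbackLeftPullbackSndIso f t (pwBase v m) ≪≫
    pullback.congrHom rfl hr ≪≫ (pullbackLeftPullbackSndIso f g r).symm) ?_ (hf _ r)
  simp only [u, Iso.trans_hom, Iso.symm_hom, Category.assoc, pullback.congrHom_hom,
    pullbackLeftPullbackSndIso_inv_snd_snd, pullback.map]
  erw [pullback.lift_snd]
  exact pullbackLeftPullbackSndIso_hom_snd _ _ _

theorem isUniv_comp_of_section (f : X ⟶ Y) (g : Y ⟶ S) (s : S ⟶ Y) (hs : s ≫ g = 𝟙 S)
    (hf : _root_.FibDesc.IsUnivCohDescentMap f) : _root_.FibDesc.IsUnivCohDescentMap (f ≫ g) := by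
  refine isUniv_of_comp (pullback.fst f s) (f ≫ g) ?_
  have e : pullback.fst f s ≫ f ≫ g = pullback.snd f s := by
    rw [← Category.assoc, pullback.condition, Category.assoc, hs, Category.comp_id]
  rw [e]
  exact isUniv_baseChange f s hf

theorem isUniv_comp (f : X ⟶ Y) (g : Y ⟶ S) (hf : _root_.FibDesc.IsUnivCohDescentMap f)
    (hg : _root_.FibDesc.IsUnivCohDescentMap g) : _root_.FibDesc.IsUnivCohDescentMap (f ≫ g) := by
  intro T t
  let u := pullback.snd (f ≫ g) t
  let v := pullback.snd g t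
  refine isCohDescentMap_of_pw u v (isUniv_baseChange g t hg) fun m => ?_
  let r : Pw v m ⟶ S := pwBase v m ≫ t
  let σ : Pw v m ⟶ pullback g r :=
    pullback.lift (pwπ v m 0 ≫ pullback.fst g t) (𝟙 _) (by
      rw [Category.id_comp, Category.assoc, pullback.condition, ← Category.assoc,
        show pwπ v m 0 ≫ pullback.snd g t = pwBase v m from WidePullback.π_arrow _ 0])
  have h2 : _root_.FibDesc.IsUnivCohDescentMap
      (pullback.snd f (pullback.fst g r) ≫ pullback.snd g r) :=
    isUniv_comp_of_section _ _ σ (pullback.lift_snd _ _ _) (isUniv_baseChange f _ hf)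
  have h3 : _root_.FibDesc.IsUnivCohDescentMap (pullback.snd (f ≫ g) r) :=
    isUniv_of_iso (pullbackRightPullbackFstIso g r f).symm (by simp) h2
  refine isCohDescentMap_of_iso (pullbackLeftPullbackSndIso (f ≫ g) t (pwBase v m) ≪≫
    (asIso (pullback.fst (pullback.snd (f ≫ g) r) (𝟙 _))).symm) ?_ (h3 _ (𝟙 _))
  have e : inv (pullback.fst (pullback.snd (f ≫ g) r) (𝟙 _)) ≫
      pullback.snd (pullback.snd (f ≫ g) r) (𝟙 _) = pullback.snd (f ≫ g) r := by
    rw [IsIso.inv_comp_eq]
    exact (Category.comp_id _).symm.trans pullback.condition.symm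
  simp [u, e, r]

/-- The fibre product of maps of universal descent. -/
theorem isUniv_pullback_map {X X' Y Y' S : TopCat.{u}} (pX : X' ⟶ S) (pY : Y' ⟶ S) (f : X ⟶ X')
    (g : Y ⟶ Y') (hf : _root_.FibDesc.IsUnivCohDescentMap f)
    (hg : _root_.FibDesc.IsUnivCohDescentMap g) :
    _root_.FibDesc.IsUnivCohDescentMap
      (pullback.map (f ≫ pX) (g ≫ pY) pX pY f g (𝟙 S) (Category.comp_id _) (Category.comp_id _)) := by
  let q := pullback.snd f (pullback.fst pX (g ≫ pY))
  let e₁ := (pullbackRightPullbackFstIso pX (g ≫ pY) f).symm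
  let e₂ : pullback pX (g ≫ pY) ≅ pullback g (pullback.snd pX pY) :=
    pullbackSymmetry pX (g ≫ pY) ≪≫ (pullbackRightPullbackFstIso pY pX g).symm ≪≫
      asIso (pullback.map g (pullback.fst pY pX) g (pullback.snd pX pY) (𝟙 _)
        (pullbackSymmetry pY pX).hom (𝟙 _) (by simp) (by simp))
  have h := isUniv_comp q (e₂.hom ≫ pullback.snd g (pullback.snd pX pY))
    (isUniv_baseChange f _ hf) (isUniv_of_iso e₂ rfl (isUniv_baseChange g _ hg))
  refine isUniv_of_iso e₁ ?_ h
  apply pullback.hom_ext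
  all_goals
    simp [e₁, e₂, q, pullback.map]
    repeat first
      | erw [pullback.lift_fst] | erw [pullback.lift_snd]
      | erw [pullback.lift_fst_assoc] | erw [pullback.lift_snd_assoc]
    simp [pullback.condition]

end Groth.Agent.Lib.FibDesc.Univ
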