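import Groth.Agent.Lib.Cosk.Homotopy
import Groth.Agent.Lib.FibDesc.Univ
import Mathlib.AlgebraicTopology.SimplicialObject.Coskeletal

/-!
# Coskeletal simplicial spaces through their functor of points
-/

set_option autoImplicit false
set_option linter.style.haveILetI false

universe u v w

open CategoryTheory CategoryTheory.Limits Opposite Simplicial

namespace Groth.Agent.Lib.FibDesc.CoskExt

section General

variable {E : Type w} [Category.{v} E]

/-- Maps into the simplices of every dimension are compatible families of maps into the simplices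
of dimension at most `N`. -/
def Ext (N : ℕ) (X : SimplicialObject E) : Prop :=
  ∀ (m : ℕ) (T : E) (c : ∀ k, k ≤ N → ((⦋k⦌ : SimplexCategory) ⟶ ⦋m⦌) → (T ⟶ X _⦋k⦌)),
    (∀ k l (hk : k ≤ N) (hl : l ≤ N) (ψ : (⦋l⦌ : SimplexCategory) ⟶ ⦋k⦌) φ,
      c k hk φ ≫ X.map ψ.op = c l hl (ψ ≫ φ)) →
    ∃! a : T ⟶ X _⦋m⦌, ∀ k hk (φ : (⦋k⦌ : SimplexCategory) ⟶ ⦋m⦌), a ≫ X.map φ.op = c k hk φ

lemma Ext.hom_ext {N : ℕ} {X : SimplicialObject E} (hX : Ext N X) {m : ℕ} {T : E}
    {a a' : T ⟶ X _⦋m⦌}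
    (h : ∀ k, k ≤ N → ∀ φ : (⦋k⦌ : SimplexCategory) ⟶ ⦋m⦌, a ≫ X.map φ.op = a' ≫ X.map φ.op) :
    a = a' :=
  (hX m T (fun _ _ φ => a ≫ X.map φ.op) (fun k l _ _ ψ φ => by
    rw [Category.assoc, ← Functor.map_comp, ← op_comp])).unique (fun _ _ _ => rfl)
    fun k hk φ => (h k hk φ).symm

/-- A larger dimension will do. -/
lemma Ext.succ {N : ℕ} {X : SimplicialObject E} (hX : Ext N X) : Ext (N + 1) X := by
  intro m T c hc
  obtain ⟨a, ha, hu⟩ := hX m T (fun k hk φ => c k (hk.trans (Nat.le_succ N)) φ)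
    fun k l hk hl ψ φ => hc k l _ _ ψ φ
  refine ⟨a, fun k hk φ => hX.hom_ext fun l hl ψ => ?_, fun a' ha' => hu a' fun k _ φ => ha' k _ φ⟩
  rw [Category.assoc, ← Functor.map_comp, ← op_comp]
  exact (ha l hl (ψ ≫ φ)).trans (hc k l hk _ ψ φ).symm

variable {N : ℕ} [∀ (F : (SimplexCategory.Truncated N)ᵒᵖ ⥤ E),
    (SimplexCategory.Truncated.inclusion N).op.HasRightKanExtension F]

lemma unit_eps (X : SimplicialObject E) (j : (SimplexCategory.Truncated N)ᵒᵖ) :
    ((SimplicialObject.coskAdj N).unit.app X).app ((SimplexCategory.Truncated.inclusion N).op.obj j) ≫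
      Groth.Cosk.eps X j = 𝟙 _ := by
  have e := congr_app ((SimplicialObject.coskAdj N).left_triangle_components X) j
  have h : (SimplicialObject.coskAdj (C := E) N).counit =
      (SimplexCategory.Truncated.inclusion N).op.ranCounit := Functor.ranAdjunction_counit _ _
  rw [h] at e
  exact e

variable [HasFiniteLimits E]

lemma isIso_eps (X : SimplicialObject E) (j : (SimplexCategory.Truncated N)ᵒᵖ) :
    IsIso (Groth.Cosk.eps X j) := by
  have := Groth.Cosk.hasPointwise (n := N) (E := E)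
  exact inferInstanceAs (IsIso (((SimplexCategory.Truncated.inclusion N).op.ranCounit.app
    ((SimplicialObject.truncation N).obj X)).app j))

theorem isIso_unit_app (X : SimplicialObject E) {k : ℕ} (hk : k ≤ N) :
    IsIso (((SimplicialObject.coskAdj N).unit.app X).app (op ⦋k⦌)) := by
  have := isIso_eps (N := N) X (op ⟨⦋k⦌, hk⟩)
  have e := unit_eps (N := N) X (op ⟨⦋k⦌, hk⟩)
  rw [← IsIso.eq_comp_inv, Category.id_comp] at e
  change IsIso (((SimplicialObject.coskAdj N).unit.app X).app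
    ((SimplexCategory.Truncated.inclusion N).op.obj (op ⟨⦋k⦌, hk⟩)))
  rw [e]
  infer_instance

/-- Coskeleta have this property. -/
theorem ext_cosk (K : SimplicialObject E) : Ext N ((SimplicialObject.cosk N).obj K) := by
  have := Groth.Cosk.hasPointwise (n := N) (E := E)
  let ι := (SimplexCategory.Truncated.inclusion N).op
  let X := (SimplicialObject.cosk N).obj K
  intro m T c hc
  let hY := ι.isPointwiseRightKanExtensionRanCounit ((SimplicialObject.truncation N).obj K) (op ⦋m⦌)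
  let s : Cone (StructuredArrow.proj (op ⦋m⦌) ι ⋙ (SimplicialObject.truncation N).obj K) :=
    { pt := T
      π :=
        { app := fun a => c a.right.unop.1.len a.right.unop.2 a.hom.unop ≫ Groth.Cosk.eps K a.right
          naturality := fun a b φ => by
            change 𝟙 _ ≫ _ = (_ ≫ Groth.Cosk.eps K a.right) ≫ K.map (ι.map φ.right)
            rw [Category.id_comp, Category.assoc, ← Groth.Cosk.eps_nat K φ.right, ← Category.assoc]
            refine congrArg (· ≫ _) ?_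
            refine Eq.trans ?_ (hc _ _ a.right.unop.2 b.right.unop.2 φ.right.unop.hom a.hom.unop).symm
            exact congrArg (c _ _) (congrArg Quiver.Hom.unop (StructuredArrow.w φ).symm) } }
  refine ⟨hY.lift s, fun k hk φ => ?_, fun a' ha' => hY.hom_ext fun j => ?_⟩
  · have := isIso_eps (N := N) K (op ⟨⦋k⦌, hk⟩)
    rw [← cancel_mono (Groth.Cosk.eps K (op ⟨⦋k⦌, hk⟩)), Category.assoc]
    exact hY.fac s (StructuredArrow.mk (Y := op (⟨⦋k⦌, hk⟩ : SimplexCategory.Truncated N)) φ.op)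
  · refine Eq.trans ?_ (hY.fac s j).symm
    change a' ≫ X.map j.hom ≫ Groth.Cosk.eps K j.right = _ ≫ Groth.Cosk.eps K j.right
    rw [← Category.assoc]
    exact congrArg (· ≫ _) (ha' _ j.right.unop.2 j.hom.unop)

/-- Objects with this property are coskeletal. -/
theorem isIso_unit {X : SimplicialObject E} (hX : Ext N X) :
    IsIso ((SimplicialObject.coskAdj N).unit.app X) := by
  let u := (SimplicialObject.coskAdj N).unit.app X
  suffices ∀ m : ℕ, IsIso (u.app (op ⦋m⦌)) by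
    have : ∀ j, IsIso (u.app j) := fun j => this j.unop.len
    exact NatIso.isIso_of_isIso_app u
  intro m
  let C := (SimplicialObject.cosk N).obj X
  obtain ⟨a, ha, -⟩ := hX m (C _⦋m⦌)
    (fun k hk φ => C.map φ.op ≫ Groth.Cosk.eps X (op ⟨⦋k⦌, hk⟩)) (fun k l hk hl ψ φ => by
      rw [op_comp, Functor.map_comp, Category.assoc, Category.assoc]
      exact congrArg (C.map φ.op ≫ ·) (Groth.Cosk.eps_nat X
        (i := op ⟨⦋k⦌, hk⟩) (j := op ⟨⦋l⦌, hl⟩) (SimplexCategory.Truncated.Hom.tr ψ).op).symm)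
  refine ⟨a, hX.hom_ext fun k hk φ => ?_, (ext_cosk X).hom_ext fun k hk φ => ?_⟩
  · rw [Category.assoc, ha, ← Category.assoc, Category.id_comp]
    have hn : u.app (op ⦋m⦌) ≫ C.map φ.op = X.map φ.op ≫ u.app (op ⦋k⦌) := (u.naturality φ.op).symm
    rw [hn, Category.assoc]
    exact (congrArg (X.map φ.op ≫ ·) (unit_eps X (op ⟨⦋k⦌, hk⟩))).trans (Category.comp_id _)
  · have hn : u.app (op ⦋m⦌) ≫ C.map φ.op = X.map φ.op ≫ u.app (op ⦋k⦌) := (u.naturality φ.op).symm
    have := isIso_eps (N := N) X (op ⟨⦋k⦌, hk⟩)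
    rw [Category.assoc, Category.id_comp]
    refine (congrArg (a ≫ ·) hn).trans ?_
    rw [← Category.assoc, ha, ← cancel_mono (Groth.Cosk.eps X (op ⟨⦋k⦌, hk⟩)), Category.assoc]
    erw [unit_eps X (op ⟨⦋k⦌, hk⟩)]
    exact Category.comp_id _

/-- Maps into such an object agreeing below `N` become homotopic after the coskeleton. -/
theorem nonempty_homotopy {X Y : SimplicialObject E} (f g : X ⟶ Y)
    (h : ∀ i : ℕ, i < N → f.app (op ⦋i⦌) = g.app (op ⦋i⦌)) :
    Nonempty (SimplicialObject.Homotopy ((SimplicialObject.cosk N).map f)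
      ((SimplicialObject.cosk N).map g)) :=
  Groth.Cosk.nonempty_homotopy_cosk f g h

end General

section Factor

variable {S : TopCat.{u}}

/-- The fibre product over a finite family of maps of universal descent. -/
theorem exists_fibreProd {P W Z : TopCat.{u}} (π : Z ⟶ W)
    (hπ : _root_.FibDesc.IsUnivCohDescentMap π) {ι : Type} (g : ι → (P ⟶ W)) (s : Finset ι) :
    ∃ (R : TopCat.{u}) (r : R ⟶ P) (pr : ∀ i ∈ s, R ⟶ Z),
      _root_.FibDesc.IsUnivCohDescentMap r ∧ (∀ i hi, pr i hi ≫ π = r ≫ g i) ∧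
      (∀ (T : TopCat.{u}) (a : T ⟶ P) (b : ∀ i ∈ s, T ⟶ Z), (∀ i hi, b i hi ≫ π = a ≫ g i) →
        ∃ c : T ⟶ R, c ≫ r = a ∧ ∀ i hi, c ≫ pr i hi = b i hi) ∧
      ∀ (T : TopCat.{u}) (c c' : T ⟶ R), c ≫ r = c' ≫ r →
        (∀ i hi, c ≫ pr i hi = c' ≫ pr i hi) → c = c' := by
  classical
  induction s using Finset.induction with
  | empty =>
    refine ⟨P, 𝟙 P, fun i hi => absurd hi (Finset.notMem_empty i),
      LocalSections.isUnivCohDescentMap _ fun s => ⟨⊤, Groth.Agent.H30.Gode.incU ⊤, trivial, Category.comp_id _⟩,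
      fun i hi => absurd hi (Finset.notMem_empty i),
      fun T a b _ => ⟨a, Category.comp_id a, fun i hi => absurd hi (Finset.notMem_empty i)⟩,
      fun T c c' e _ => by simpa using e⟩
  | insert i₀ s hi₀ ih =>
    obtain ⟨R, r, pr, hr, hpr, hex, huniq⟩ := ih
    let R' := pullback π (r ≫ g i₀)
    let q : R' ⟶ R := pullback.snd π (r ≫ g i₀)
    let pr' : ∀ i ∈ insert i₀ s, R' ⟶ Z := fun i hi =>
      if h : i = i₀ then pullback.fst π (r ≫ g i₀)
      else q ≫ pr i ((Finset.mem_insert.1 hi).resolve_left h)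
    refine ⟨R', q ≫ r, pr', Univ.isUniv_comp q r (Univ.isUniv_baseChange π _ hπ) hr, fun i hi => ?_,
      fun T a b hb => ?_, fun T c c' e he => ?_⟩
    · simp only [pr']
      split_ifs with h
      · subst h; exact pullback.condition.trans (Category.assoc _ _ _).symm
      · rw [Category.assoc, hpr, Category.assoc]
    · obtain ⟨c, hc, hc'⟩ := hex T a (fun i hi => b i (Finset.mem_insert_of_mem hi)) fun i hi => hb i _
      refine ⟨pullback.lift (b i₀ (Finset.mem_insert_self i₀ s)) c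
        (by rw [hb, ← Category.assoc, hc]), ?_, fun i hi => ?_⟩
      · rw [pullback.lift_snd_assoc, hc]
      · simp only [pr']
        split_ifs with h
        · subst h; exact pullback.lift_fst _ _ _
        · rw [pullback.lift_snd_assoc, hc']
    · apply pullback.hom_ext
      · have := he i₀ (Finset.mem_insert_self i₀ s)
        simpa [pr'] using this
      · refine huniq T _ _ (by simpa [q] using e) fun i hi => ?_
        have := he i (Finset.mem_insert_of_mem hi)
        simpa [pr', show i ≠ i₀ from fun h => hi₀ (h ▸ hi), q] using this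

variable {n : ℕ} {P Q : SimplicialObject (Over S)} (π : Q ⟶ P)
  [∀ Δ : {Δ : SimplexCategory // Δ.len ≤ n}, IsIso (π.app (op Δ.1))]
  {m : ℕ} {T : Over S} (a : T ⟶ P _⦋m⦌)

/-- The values in low dimension. -/
noncomputable def low (Δ : {Δ : SimplexCategory // Δ.len ≤ n}) (φ : Δ.1 ⟶ ⦋m⦌) :
    T ⟶ Q.obj (op Δ.1) :=
  a ≫ P.map φ.op ≫ inv (π.app (op Δ.1))

lemma low_nat (Δ Δ' : {Δ : SimplexCategory // Δ.len ≤ n}) (ψ : Δ'.1 ⟶ Δ.1) (φ : Δ.1 ⟶ ⦋m⦌) :
    low π a Δ φ ≫ Q.map ψ.op = low π a Δ' (ψ ≫ φ) := by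
  simp only [low, Category.assoc, op_comp, Functor.map_comp]
  refine congrArg (fun z => a ≫ P.map φ.op ≫ z) ?_
  rw [IsIso.inv_comp_eq, ← Category.assoc, ← π.naturality, Category.assoc, IsIso.hom_inv_id,
    Category.comp_id]

lemma low_π (Δ : {Δ : SimplexCategory // Δ.len ≤ n}) (φ : Δ.1 ⟶ ⦋m⦌) :
    low π a Δ φ ≫ π.app (op Δ.1) = a ≫ P.map φ.op := by
  simp [low]

lemma image_len_le {Δ : SimplexCategory} (r : {Δ : SimplexCategory // Δ.len ≤ n}) (p : Δ ⟶ r.1)
    (q : r.1 ⟶ ⦋m⦌) : (image (p ≫ q)).len ≤ n := by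
  let e₀ := p ≫ factorThruImage q
  have : image (p ≫ q) = image e₀ :=
    SimplexCategory.image_eq (e := factorThruImage e₀) (i := image.ι e₀ ≫ image.ι q)
      (by simp [e₀])
  rw [this]
  exact ((SimplexCategory.len_le_of_mono (image.ι e₀)).trans
    (SimplexCategory.len_le_of_epi (factorThruImage q))).trans r.2

lemma low_key {Δ : SimplexCategory} (φ : Δ ⟶ ⦋m⦌) (hi : (image φ).len ≤ n)
    (r : {Δ : SimplexCategory // Δ.len ≤ n}) (p : Δ ⟶ r.1) (q : r.1 ⟶ ⦋m⦌) (e : p ≫ q = φ) :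
    low π a r q ≫ Q.map p.op = low π a ⟨image φ, hi⟩ (image.ι φ) ≫ Q.map (factorThruImage φ).op := by
  suffices key : ∀ (r : {Δ : SimplexCategory // Δ.len ≤ n}) (p : Δ ⟶ r.1) (q : r.1 ⟶ ⦋m⦌)
      [Epi p] [Mono q], p ≫ q = φ →
      low π a r q ≫ Q.map p.op =
        low π a ⟨image φ, hi⟩ (image.ι φ) ≫ Q.map (factorThruImage φ).op by
    let e₀ := p ≫ factorThruImage q
    let r₀ : {Δ : SimplexCategory // Δ.len ≤ n} :=
      ⟨image q, (SimplexCategory.len_le_of_epi (factorThruImage q)).trans r.2⟩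
    let r₁ : {Δ : SimplexCategory // Δ.len ≤ n} :=
      ⟨image e₀, (SimplexCategory.len_le_of_mono (image.ι e₀)).trans r₀.2⟩
    refine Eq.trans ?_ (key r₁ (factorThruImage e₀) (image.ι e₀ ≫ image.ι q) (by simp [e₀, e]))
    rw [show low π a r q = low π a r (factorThruImage q ≫ image.ι q) by rw [image.fac],
      ← low_nat π a r₀ r (factorThruImage q) (image.ι q), Category.assoc, ← Functor.map_comp, ← op_comp,
      show p ≫ factorThruImage q = factorThruImage e₀ ≫ image.ι e₀ from (image.fac e₀).symm, op_comp,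
      Functor.map_comp, ← low_nat π a r₀ r₁ (image.ι e₀) (image.ι q), Category.assoc]
  rintro ⟨r, hr⟩ p q _ _ e
  obtain rfl : image φ = r := SimplexCategory.image_eq e
  rw [SimplexCategory.image_ι_eq e, SimplexCategory.factorThruImage_eq e]

lemma mono_image_len {k : ℕ} (φ : (⦋k⦌ : SimplexCategory) ⟶ ⦋m⦌) (hφ : ¬ Mono φ) :
    (image φ).len < k := by
  refine lt_of_le_of_ne (SimplexCategory.len_le_of_epi (factorThruImage φ)) fun e => hφ ?_
  have : IsIso (factorThruImage φ) :=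
    (SimplexCategory.isIso_iff_of_epi _).2 e.symm
  rw [← image.fac φ]
  infer_instance

variable (hQ : Ext (n + 1) Q) (hP : Ext (n + 1) P)

include hQ hP in
/-- Maps into the higher simplices of the source. -/
theorem exists_lift (b : ∀ θ : (⦋n + 1⦌ : SimplexCategory) ⟶ ⦋m⦌, Mono θ → (T ⟶ Q _⦋n + 1⦌))
    (hb : ∀ θ hθ, b θ hθ ≫ π.app (op ⦋n + 1⦌) = a ≫ P.map θ.op) :
    ∃ x : T ⟶ Q _⦋m⦌, x ≫ π.app (op ⦋m⦌) = a ∧ ∀ θ hθ, x ≫ Q.map θ.op = b θ hθ := by
  classical
  let c : ∀ k, k ≤ n + 1 → ((⦋k⦌ : SimplexCategory) ⟶ ⦋m⦌) → (T ⟶ Q _⦋k⦌) := fun k hk φ =>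
    if h : k ≤ n then low π a ⟨⦋k⦌, h⟩ φ
    else if h' : Mono φ then
      (show k = n + 1 by omega) ▸ (fun φ' (hφ' : Mono φ') => b φ' hφ') ((show k = n + 1 by omega) ▸ φ)
        (by obtain rfl : k = n + 1 := by omega
            exact h')
    else low π a (⟨image φ, by have := mono_image_len φ h'; omega⟩ : {Δ : SimplexCategory // Δ.len ≤ n}) (image.ι φ) ≫
      Q.map (factorThruImage φ).op
  have cb : ∀ hk θ (hθ : Mono θ), c (n + 1) hk θ = b θ hθ := fun hk θ hθ => by
    simp only [c, dif_neg (Nat.not_succ_le_self n), dif_pos hθ]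
  have cl : ∀ k hk (h : k ≤ n) φ, c k hk φ = low π a ⟨⦋k⦌, h⟩ φ := fun k hk h φ => dif_pos h
  have cq : ∀ k hk (r : {Δ : SimplexCategory // Δ.len ≤ n}) (p : ⦋k⦌ ⟶ r.1) (q : r.1 ⟶ ⦋m⦌),
      c k hk (p ≫ q) = low π a r q ≫ Q.map p.op := by
    intro k hk r p q
    by_cases h : k ≤ n
    · rw [cl k hk h]; exact (low_nat π a r ⟨⦋k⦌, h⟩ p q).symm
    · have h' : ¬ Mono (p ≫ q) := fun _ => by
        have := mono_of_mono p q
        exact h ((SimplexCategory.len_le_of_mono p).trans r.2)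
      simp only [c, dif_neg h, dif_neg h']
      exact (low_key π a _ _ r p q rfl).symm
  have hc : ∀ k l (hk : k ≤ n + 1) (hl : l ≤ n + 1) (ψ : (⦋l⦌ : SimplexCategory) ⟶ ⦋k⦌) φ,
      c k hk φ ≫ Q.map ψ.op = c l hl (ψ ≫ φ) := by
    intro k l hk hl ψ φ
    by_cases h : k ≤ n
    · rw [cl k hk h, cq l hl ⟨⦋k⦌, h⟩ ψ φ]
    obtain rfl : k = n + 1 := by omega
    by_cases h' : Mono φ
    · rw [cb hk φ h']
      by_cases hl' : l ≤ n
      · have : IsIso (π.app (op ⦋l⦌)) :=
          inferInstanceAs (IsIso (π.app (op (⟨⦋l⦌, hl'⟩ : {Δ : SimplexCategory // Δ.len ≤ n}).1)))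
        rw [cl l hl hl', ← cancel_mono (π.app (op ⦋l⦌)), Category.assoc, π.naturality,
          ← Category.assoc, hb, low_π π a ⟨⦋l⦌, hl'⟩, Category.assoc, ← Functor.map_comp, ← op_comp]
      · obtain rfl : l = n + 1 := by omega
        by_cases hψ : Mono ψ
        · rw [SimplexCategory.eq_id_of_mono ψ]
          simp [cb hl φ h']
        · rw [SimplexCategory.mono_iff_injective] at hψ
          obtain ⟨i, ψ', rfl⟩ := SimplexCategory.eq_σ_comp_of_not_injective ψ hψ
          rw [Category.assoc, cq _ hl ⟨⦋n⦌, le_rfl⟩ (SimplexCategory.σ i) (ψ' ≫ φ), op_comp,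
            Functor.map_comp, ← Category.assoc]
          congr 1
          have : IsIso (π.app (op ⦋n⦌)) :=
            inferInstanceAs (IsIso (π.app (op (⟨⦋n⦌, le_rfl⟩ : {Δ : SimplexCategory // Δ.len ≤ n}).1)))
          rw [← cancel_mono (π.app (op ⦋n⦌)), Category.assoc, π.naturality, ← Category.assoc, hb,
            low_π π a ⟨⦋n⦌, le_rfl⟩, Category.assoc, ← Functor.map_comp, ← op_comp]
    · have e := cq (n + 1) hk (⟨image φ, by have := mono_image_len φ h'; omega⟩ : {Δ : SimplexCategory // Δ.len ≤ n}) (factorThruImage φ)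
        (image.ι φ)
      rw [image.fac] at e
      rw [e, Category.assoc, ← Functor.map_comp, ← op_comp]
      refine ((cq l hl _ _ _).symm.trans (congrArg (c l hl) ?_))
      rw [Category.assoc, image.fac]
  obtain ⟨x, hx, -⟩ := hQ m T c hc
  have hxπ : x ≫ π.app (op ⦋m⦌) = a := by
    refine hP.hom_ext fun k hk φ => ?_
    rw [Category.assoc, ← π.naturality, ← Category.assoc, hx k hk φ]
    by_cases h : k ≤ n
    · rw [cl k hk h]; exact low_π π a ⟨⦋k⦌, h⟩ φ
    obtain rfl : k = n + 1 := by omega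
    by_cases h' : Mono φ
    · rw [cb hk φ h', hb]
    · simp only [c, dif_neg h, dif_neg h']
      rw [Category.assoc, π.naturality, ← Category.assoc]
      refine (congrArg (· ≫ _) (low_π π a
        (⟨image φ, by have := mono_image_len φ h'; omega⟩ : {Δ : SimplexCategory // Δ.len ≤ n}) (image.ι φ))).trans ?_
      rw [Category.assoc, ← Functor.map_comp, ← op_comp, image.fac]
  exact ⟨x, hxπ, fun θ hθ => (hx (n + 1) le_rfl θ).trans (cb le_rfl θ hθ)⟩

include π hQ in
omit a in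
/-- Maps into the higher simplices of the source are determined by their images and top values. -/
theorem hom_ext_π {x y : T ⟶ Q _⦋m⦌} (h : x ≫ π.app (op ⦋m⦌) = y ≫ π.app (op ⦋m⦌))
    (h' : ∀ θ : (⦋n + 1⦌ : SimplexCategory) ⟶ ⦋m⦌, Mono θ → x ≫ Q.map θ.op = y ≫ Q.map θ.op) :
    x = y := by
  have hlow : ∀ (Δ : {Δ : SimplexCategory // Δ.len ≤ n}) (φ : Δ.1 ⟶ ⦋m⦌),
      x ≫ Q.map φ.op = y ≫ Q.map φ.op := fun Δ φ => by
    rw [← cancel_mono (π.app (op Δ.1)), Category.assoc, Category.assoc, π.naturality,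
      ← Category.assoc, ← Category.assoc, h]
  refine hQ.hom_ext fun k hk φ => ?_
  by_cases hk' : k ≤ n
  · exact hlow ⟨⦋k⦌, hk'⟩ φ
  obtain rfl : k = n + 1 := by omega
  by_cases hφ : Mono φ
  · exact h' φ hφ
  · rw [← image.fac φ, op_comp, Functor.map_comp, ← Category.assoc, ← Category.assoc,
      hlow ⟨image φ, by have := mono_image_len φ hφ; omega⟩]

include hQ hP in
omit a T m in
/-- The map is of universal descent in every dimension if it is in dimension `n + 1`. -/
theorem isUniv_app (hπ : _root_.FibDesc.IsUnivCohDescentMap (π.app (op ⦋n + 1⦌)).left) (m : ℕ) :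
    _root_.FibDesc.IsUnivCohDescentMap (π.app (op ⦋m⦌)).left := by
  classical
  let I := {θ : (⦋n + 1⦌ : SimplexCategory) ⟶ ⦋m⦌ // Mono θ}
  have : Finite I := Finite.of_injective (fun θ : I => ⇑θ.1.toOrderHom)
    fun θ θ' e => Subtype.ext (SimplexCategory.Hom.ext _ _ (DFunLike.coe_injective e))
  have : Fintype I := Fintype.ofFinite I
  obtain ⟨R, r, pr, hr, hpr, hex, huniq⟩ := exists_fibreProd (π.app (op ⦋n + 1⦌)).left hπ
    (fun θ : I => (P.map θ.1.op).left) Finset.univ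
  let T' : Over S := Over.mk (r ≫ (P _⦋m⦌).hom)
  obtain ⟨x, hx, hx'⟩ := exists_lift π (Over.homMk r rfl : T' ⟶ P _⦋m⦌) hQ hP
    (fun θ hθ => Over.homMk (pr ⟨θ, hθ⟩ (Finset.mem_univ _)) (by
      change pr _ _ ≫ _ = r ≫ _
      rw [← Over.w (π.app (op ⦋n + 1⦌)), ← Category.assoc, hpr, Category.assoc, Over.w]))
    fun θ hθ => Over.OverMorphism.ext (hpr ⟨θ, hθ⟩ _)
  obtain ⟨y, hy, hy'⟩ := hex (Q _⦋m⦌).left (π.app (op ⦋m⦌)).left (fun θ _ => (Q.map θ.1.op).left)
    fun θ _ => congrArg CommaMorphism.left (π.naturality θ.1.op)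
  let y₁ : Q _⦋m⦌ ⟶ T' := Over.homMk y (by
    change y ≫ r ≫ _ = _
    rw [← Category.assoc, hy, Over.w])
  have e₁ : y₁ ≫ x = 𝟙 _ := by
    refine hom_ext_π π hQ ?_ fun θ hθ => ?_
    · rw [Category.assoc, hx, Category.id_comp]
      exact Over.OverMorphism.ext hy
    · rw [Category.assoc, hx' θ hθ, Category.id_comp]
      exact Over.OverMorphism.ext (hy' ⟨θ, hθ⟩ _)
  have e₂ : x.left ≫ y = 𝟙 R := by
    refine huniq R _ _ ?_ fun θ hθ => ?_
    · rw [Category.assoc, hy, Category.id_comp]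
      exact congrArg CommaMorphism.left hx
    · rw [Category.assoc, hy', Category.id_comp]
      exact congrArg CommaMorphism.left (hx' θ.1 θ.2)
  exact Univ.isUniv_of_iso ⟨y, x.left, congrArg CommaMorphism.left e₁, e₂⟩ hy hr

end Factor

end Groth.Agent.Lib.FibDesc.CoskExt
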