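import Groth.Agent.Lib.FibDesc.Transfer
import Mathlib.AlgebraicTopology.SimplicialObject.Homotopy

/-!
# Homotopic maps of simplicial spaces on the bicomplexes above an open; comparison in low degrees
-/

set_option autoImplicit false
set_option linter.style.haveILetI false

universe u

open CategoryTheory Limits TopologicalSpace Opposite Simplicial

namespace Groth.Agent.Lib.FibDesc.Htpy

open Groth.Agent.H30.Gode Groth.Agent.H30.E1 Transfer

variable {S : TopCat.{u}}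

theorem sum_homotopy {X Y : SimplicialObject (Over S)} {f g : X ⟶ Y}
    (H : SimplicialObject.Homotopy f g) {m : ℕ} {M : Type*} [AddCommGroup M]
    (Φ : (X _⦋m + 1⦌ ⟶ Y _⦋m + 1⦌) → M) :
    (∑ i : Fin (m + 2), ((-1 : ℤ) ^ (i : ℕ)) •
        ∑ j : Fin (m + 1), ((-1 : ℤ) ^ (j : ℕ)) • Φ (X.δ i ≫ H.h j)) +
      (∑ j : Fin (m + 2), ((-1 : ℤ) ^ (j : ℕ)) •
        ∑ i : Fin (m + 3), ((-1 : ℤ) ^ (i : ℕ)) • Φ (H.h j ≫ Y.δ i)) =
      Φ (g.app (op ⦋m + 1⦌)) - Φ (f.app (op ⦋m + 1⦌)) := by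
  let α (x : Fin (m + 1) × Fin (m + 2)) : M :=
    ((-1 : ℤ) ^ ((x.1 + x.2 : ℕ))) • Φ (X.δ x.2 ≫ H.h x.1)
  let β (x : Fin (m + 3) × Fin (m + 2)) : M :=
    ((-1 : ℤ) ^ ((x.1 + x.2 : ℕ))) • Φ (H.h x.2 ≫ Y.δ x.1)
  have hα : (∑ i : Fin (m + 2), ((-1 : ℤ) ^ (i : ℕ)) •
      ∑ j : Fin (m + 1), ((-1 : ℤ) ^ (j : ℕ)) • Φ (X.δ i ≫ H.h j)) = ∑ x, α x := by
    simp only [Finset.smul_sum, smul_smul, ← pow_add]
    rw [Finset.sum_comm, ← Finset.univ_product_univ, Finset.sum_product]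
    refine Finset.sum_congr rfl fun j _ => Finset.sum_congr rfl fun i _ => ?_
    simp only [α, add_comm (i : ℕ)]
  have hβ : (∑ j : Fin (m + 2), ((-1 : ℤ) ^ (j : ℕ)) •
      ∑ i : Fin (m + 3), ((-1 : ℤ) ^ (i : ℕ)) • Φ (H.h j ≫ Y.δ i)) = ∑ x, β x := by
    simp only [Finset.smul_sum, smul_smul, ← pow_add]
    rw [Finset.sum_comm, ← Finset.univ_product_univ, Finset.sum_product]
    refine Finset.sum_congr rfl fun i _ => Finset.sum_congr rfl fun j _ => ?_
    simp only [β, add_comm (j : ℕ)]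
  rw [hα, hβ]
  have h₂ (x : Fin (m + 1) × Fin (m + 2)) (hx : x.1.castSucc < x.2) :
      α x = -β ⟨x.2.succ, x.1.castSucc⟩ := by
    simp only [α, β, Fin.val_succ, Fin.val_castSucc, H.h_castSucc_comp_δ_succ_of_lt x.2 x.1 hx,
      ← neg_smul]
    congr 1
    ring
  have h₁' (x : Fin (m + 1) × Fin (m + 2)) (hx : x.2 ≤ x.1.castSucc) :
      α x = -β ⟨x.2.castSucc, x.1.succ⟩ := by
    simp only [α, β, Fin.val_succ, Fin.val_castSucc, H.h_succ_comp_δ_castSucc_of_lt x.2 x.1 hx,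
      ← neg_smul]
    congr 1
    ring
  let T : Finset (Fin (m + 1) × Fin (m + 2)) := { x | x.1.castSucc < x.2 }
  let γ₁ (x : Fin (m + 1) × Fin (m + 2)) := (x.2.castSucc, x.1.succ)
  let γ₂ (x : Fin (m + 1) × Fin (m + 2)) := (x.2.succ, x.1.castSucc)
  let γ₃ (i : Fin (m + 1)) := (i.castSucc.succ, i.succ)
  let γ₄ (i : Fin (m + 1)) := (i.castSucc.succ, i.castSucc)
  have hγ₁ : Function.Injective γ₁ := fun _ _ ↦ by aesop
  have hγ₂ : Function.Injective γ₂ := fun _ _ ↦ by aesop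
  have hγ₃ : Function.Injective γ₃ := fun _ _ ↦ by aesop
  have hγ₄ : Function.Injective γ₄ := fun _ _ ↦ by aesop
  have eq₁ : Φ (g.app (op ⦋m + 1⦌)) = β ⟨0, 0⟩ := by
    simp [β, H.h_zero_comp_δ_zero]
  have eq₂ : Φ (f.app (op ⦋m + 1⦌)) = - β ⟨Fin.last _, Fin.last _⟩ := by
    simp only [β, H.h_last_comp_δ_last, Fin.val_last, ← neg_smul]
    rw [show m + 2 + (m + 1) = 2 * (m + 1) + 1 by ring, pow_succ, pow_mul]
    simp
  have eq₃ : ∑ x ∈ Tᶜ, α x = - ∑ y ∈ Finset.image γ₁ Tᶜ, β y := by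
    rw [← Finset.sum_neg_distrib, Finset.sum_image hγ₁.injOn]
    exact Finset.sum_congr rfl fun x hx => h₁' x (by simpa [T] using hx)
  have eq₄ : ∑ x ∈ T, α x = - ∑ y ∈ Finset.image γ₂ T, β y := by
    rw [← Finset.sum_neg_distrib, Finset.sum_image hγ₂.injOn]
    exact Finset.sum_congr rfl fun x hx => h₂ x (by simpa [T] using hx)
  have eq₅ : ∑ x, β (γ₄ x) = - ∑ x, β (γ₃ x) := by
    rw [← Finset.sum_neg_distrib]
    refine Finset.sum_congr rfl fun x _ => ?_
    simp only [β, γ₃, γ₄, Fin.val_succ, Fin.val_castSucc, H.h_succ_comp_δ_castSucc_succ, ← neg_smul]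
    congr 1
    ring
  have h₁ : Disjoint (Finset.image γ₁ Tᶜ) (Finset.image γ₂ T) := by
    rw [Finset.disjoint_iff_ne]
    grind [Finset.mem_compl]
  have h₂ : Disjoint (Finset.image γ₃ .univ) (Finset.image γ₄ .univ) := by
    rw [Finset.disjoint_iff_ne]
    grind
  have h₃ : Disjoint (Finset.disjUnion _ _ h₂) {(0, 0), (Fin.last _, Fin.last _)} := by
    rw [Finset.disjoint_iff_ne]
    simp only [Finset.mem_insert, forall_eq_or_imp, Prod.forall]
    rintro ⟨a, _⟩ ⟨b, _⟩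
    simp
    grind
  have h₄ : Disjoint (Finset.disjUnion _ _ h₁) (Finset.disjUnion _ _ h₃) := by
    rw [Finset.disjoint_iff_ne]
    simp only [Finset.compl_filter, not_lt, Finset.disjUnion_eq_union, Finset.mem_union,
      Finset.mem_image, Finset.mem_filter, Finset.mem_univ, true_and, Prod.exists, ne_eq,
      Finset.mem_insert, Finset.mem_singleton, Prod.forall, Prod.mk.injEq, not_and,
      T, γ₁, γ₂, γ₃, γ₄]
    rintro ⟨a, _⟩ ⟨b, _⟩ (⟨⟨j, _⟩, ⟨k, _⟩, h₁, h₂, h₃⟩ | ⟨⟨j, _⟩, ⟨k, _⟩, h₁, h₂, h₃⟩) _ _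
      ((⟨⟨i, _⟩, h₄, h₅⟩ | ⟨⟨i, _⟩, h₄, h₅⟩) | (⟨rfl, rfl⟩ | ⟨rfl, rfl⟩)) <;>
        simp [Fin.ext_iff] at h₁ h₂ h₃ ⊢ <;> grind
  have H' : (Finset.disjUnion _ _ h₁)ᶜ = Finset.disjUnion _ _ h₃ :=
    Finset.compl_eq_of_disjoint_of_card_add_eq h₄ (by
      rw [Finset.card_disjUnion, Finset.card_disjUnion, Finset.card_disjUnion,
        Finset.card_image_of_injective _ hγ₁, Finset.card_image_of_injective _ hγ₂,
        Finset.card_image_of_injective _ hγ₃, Finset.card_image_of_injective _ hγ₄]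
      simp
      lia)
  rw [eq₁, eq₂, ← T.sum_add_sum_compl, eq₃, eq₄, sub_neg_eq_add,
    ← (Finset.disjUnion _ _ h₁).sum_add_sum_compl, Finset.sum_disjUnion, H',
    Finset.sum_disjUnion, Finset.sum_disjUnion,
    Finset.sum_image hγ₃.injOn, Finset.sum_image hγ₄.injOn,
    Finset.sum_insert (by simp [Fin.ext_iff]), Finset.sum_singleton, eq₅]
  abel

section Abstract

variable {D D' : Bicx.{u}} (φ ψ : Bicx.Hom D D')

/-- Homotopic morphisms of bicomplexes, compatibly with the vertical differentials. -/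
structure HOp where
  k : ∀ p q, D.X (p + 1) q →+ D'.X p q
  kv : ∀ p q x, k p (q + 1) (D.v (p + 1) q x) = D'.v p q (k p q x)
  zero : ∀ q x, φ.f 0 q x - ψ.f 0 q x = k 0 q (D.h 0 q x)
  succ : ∀ p q x, φ.f (p + 1) q x - ψ.f (p + 1) q x =
    k (p + 1) q (D.h (p + 1) q x) + D'.h p q (k p q x)

variable {φ ψ} (H : HOp φ ψ)

/-- The homotopy on families. -/
def HOp.map : D.G →+ D'.G where
  toFun c p q := H.k p q (c (p + 1) q)
  map_zero' := by funext p q; simp
  map_add' c c' := by funext p q; simp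

lemma HOp.map_mem_W {c : D.G} {n : ℕ} (hc : c ∈ D.W (n + 1)) : H.map c ∈ D'.W n := fun p q h => by
  change H.k p q (c (p + 1) q) = 0
  rw [hc (p + 1) q (by omega), map_zero]

lemma HOp.map_eq_zero {c : D.G} (hc : c ∈ D.W 0) : H.map c = 0 := by
  funext p q
  change H.k p q (c (p + 1) q) = 0
  rw [hc (p + 1) q (by omega), map_zero]

/-- The homotopy identity on the total complexes. -/
theorem HOp.tot_map (c : D.G) :
    D'.tot (H.map c) + H.map (D.tot c) = φ.map c - ψ.map c := by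
  funext p q
  have e : H.map (D.tot c) p q = H.k p q (D.tot c (p + 1) q) := rfl
  rw [Pi.add_apply, Pi.add_apply, Pi.sub_apply, Pi.sub_apply, e, Bicx.tot_apply, Bicx.tot_apply,
    Bicx.Hom.map_apply, Bicx.Hom.map_apply, map_add]
  rcases p with _ | p <;> rcases q with _ | q <;>
    simp [HOp.map, H.kv, H.zero, H.succ, pow_succ] <;> abel

include H

theorem HOp.exists_tot_eq {c : D.G} {n : ℕ} (hc : c ∈ D.W (n + 1)) (hd : D.tot c = 0) :
    ∃ e ∈ D'.W n, D'.tot e = φ.map c - ψ.map c :=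
  ⟨H.map c, H.map_mem_W hc, by rw [← H.tot_map, hd, map_zero, add_zero]⟩

theorem HOp.map_eq {c : D.G} (hc : c ∈ D.W 0) (hd : D.tot c = 0) : φ.map c = ψ.map c := by
  refine sub_eq_zero.1 ?_
  rw [← H.tot_map, hd, H.map_eq_zero hc, map_zero, map_zero, add_zero]

end Abstract

section Quot

variable (F : CohTop.Ab S) (U : Opens S)

/-- The bicomplex over the base, above an open. -/
noncomputable abbrev Bb (K : SimplicialObject (Over S)) : Bicx.{u} :=
  BQ F K (Over.mk (𝟙 S)) (Groth.Agent.H30.Gode.toBase K) (toBase_cond K) U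

lemma toBase_hom {X Y : SimplicialObject (Over S)} (f : X ⟶ Y) :
    f.app (op ⦋0⦌) ≫ Groth.Agent.H30.Gode.toBase Y = Groth.Agent.H30.Gode.toBase X ≫ 𝟙 _ :=
  Over.OverMorphism.ext ((Over.w (f.app (op ⦋0⦌))).trans (by simp))

/-- The induced morphism. -/
noncomputable def ind {X Y : SimplicialObject (Over S)} (f : X ⟶ Y) :
    Bicx.Hom (Bb F U Y) (Bb F U X) :=
  Bicx.quotLift _
    ((fun a b => ⟨fun p q => (b.f p q).comp (a.f p q),
        fun p q x => (congrArg (b.f (p + 1) q) (a.fh p q x)).trans (b.fh p q _),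
        fun p q x => (congrArg (b.f p (q + 1)) (a.fv p q x)).trans (b.fv p q _)⟩ :
      Bicx.Hom (bicx F Y _ _ (toBase_cond Y)) (bicx F X _ _ (toBase_cond X)) →
        Bicx.Hom (bicx F X _ _ (toBase_cond X)) (Bb F U X) → _)
      (mapHom (toBase_cond Y) (toBase_cond X) f (𝟙 _) (toBase_hom f)) (Bicx.proj (stable_NB F X _ _ _ U)))
    fun p q x hx => (QuotientAddGroup.eq_zero_iff _).2 (mem_NB.2 fun t ht =>
      pb_vanish _ (mem_NB.1 hx t ht))

lemma ind_mk {X Y : SimplicialObject (Over S)} (f : X ⟶ Y) (p q : ℕ)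
    (x : (lv F (aT Y (Over.mk (𝟙 S)) p).hom q).Fn) :
    (ind F U f).f p q (QuotientAddGroup.mk' _ x) =
      QuotientAddGroup.mk' _ (pb F q (mapT f (𝟙 _) p) x) := rfl

lemma ind_comp {X Y Z : SimplicialObject (Over S)} (f : X ⟶ Y) (g : Y ⟶ Z) (c : (Bb F U Z).G) :
    (ind F U f).map ((ind F U g).map c) = (ind F U (f ≫ g)).map c := by
  funext p q
  simp only [Bicx.Hom.map_apply]
  induction c p q using QuotientAddGroup.induction_on with
  | _ x =>
    refine congrArg (QuotientAddGroup.mk' _) ((pb_comp F q _ _ x).trans ?_)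
    refine congrArg (fun h => pb F q h x) ?_
    cases p with
    | zero => exact Category.id_comp _
    | succ p => rfl

lemma ind_id {X : SimplicialObject (Over S)} (c : (Bb F U X).G) : (ind F U (𝟙 X)).map c = c := by
  funext p q
  simp only [Bicx.Hom.map_apply]
  induction c p q using QuotientAddGroup.induction_on with
  | _ x =>
    refine congrArg (QuotientAddGroup.mk' _) ?_
    have e : mapT (𝟙 X) (𝟙 (Over.mk (𝟙 S))) p = 𝟙 _ := by cases p <;> rfl
    refine (congrArg (fun h => pb F q h x) e).trans ?_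
    exact ConcreteCategory.congr_hom ((fnF F q).map_id (op _)) x

variable {F U} {X Y : SimplicialObject (Over S)} {f g : X ⟶ Y}

/-- The homotopy before passing to the open. -/
noncomputable def hRaw (H : SimplicialObject.Homotopy f g) : ∀ p q,
    (lv F (aT Y (Over.mk (𝟙 S)) (p + 1)).hom q).Fn →+ (lv F (aT X (Over.mk (𝟙 S)) p).hom q).Fn
  | 0, _ => 0
  | m + 1, q => ∑ j : Fin (m + 1), ((-1 : ℤ) ^ (j : ℕ)) • pb F q (H.h j)

variable (H : SimplicialObject.Homotopy f g)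

lemma hRaw_succ (m q : ℕ) (x : (lv F (Y _⦋m + 1⦌).hom q).Fn) :
    hRaw H (m + 1) q x = ∑ j : Fin (m + 1), ((-1 : ℤ) ^ (j : ℕ)) • pb F q (H.h j) x := by
  simp [hRaw, AddMonoidHom.finsetSum_apply]

lemma hRaw_vanish : ∀ p q x, (∀ t ∈ U, x ∈ vanish F q t) → ∀ t ∈ U, hRaw (F := F) H p q x ∈ vanish F q t
  | 0, q, x, _, t, _ => zero_mem _
  | m + 1, q, x, hx, t, ht => by
    rw [hRaw_succ]
    exact sum_mem fun j _ => zsmul_mem (pb_vanish _ (hx t ht)) _

lemma hRaw_v : ∀ p q x, hRaw (F := F) H p (q + 1) ((bicx F Y _ _ (toBase_cond Y)).v (p + 1) q x) =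
    (bicx F X _ _ (toBase_cond X)).v p q (hRaw H p q x)
  | 0, q, x => (map_zero ((bicx F X _ _ (toBase_cond X)).v 0 q)).symm
  | m + 1, q, x => by
    rw [hRaw_succ]
    refine Eq.trans ?_ (congrArg _ (hRaw_succ H m q x)).symm
    refine Eq.trans ?_ (map_sum ((bicx F X _ _ (toBase_cond X)).v (m + 1) q) _ _).symm
    refine Finset.sum_congr rfl fun j _ => ?_
    refine Eq.trans ?_ (map_zsmul ((bicx F X _ _ (toBase_cond X)).v (m + 1) q) _ _).symm
    exact congrArg _ (ConcreteCategory.congr_hom ((dNat F q).naturality (H.h j).op).symm x).symm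

lemma hRaw_zero (q : ℕ) (x : (lv F (aT Y (Over.mk (𝟙 S)) 0).hom q).Fn) :
    pb F q (mapT g (𝟙 _) 0) x - pb F q (mapT f (𝟙 _) 0) x =
      hRaw (F := F) H 0 q (aH F Y _ (Groth.Agent.H30.Gode.toBase Y) 0 q x) := sub_self _

lemma hRaw_h : ∀ p q x, pb F q (mapT g (𝟙 _) (p + 1)) x - pb F q (mapT f (𝟙 _) (p + 1)) x =
    hRaw (F := F) H (p + 1) q (aH F Y _ (Groth.Agent.H30.Gode.toBase Y) (p + 1) q x) +
      aH F X _ (Groth.Agent.H30.Gode.toBase X) p q (hRaw H p q x)
  | 0, q, x => by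
    change pb F q (g.app _) x - pb F q (f.app _) x =
      hRaw H 1 q ((row F Y q).d 0 1 x) + pb F q (Groth.Agent.H30.Gode.toBase X) 0
    rw [map_zero, add_zero, hRaw_succ, row_d_apply, Fin.sum_univ_one, Fin.sum_univ_two,
      ← H.h_zero_comp_δ_zero, ← H.h_last_comp_δ_last]
    simp only [Fin.val_zero, pow_zero, one_smul, Fin.val_one, pow_one, neg_smul, map_add, map_neg,
      pb_comp, sub_eq_add_neg]
    rfl
  | m + 1, q, x => by
    change pb F q (g.app (op ⦋m + 1⦌)) x - pb F q (f.app (op ⦋m + 1⦌)) x =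
      hRaw H (m + 1 + 1) q ((row F Y q).d (m + 1) (m + 1 + 1) x) +
        (show (lv F (X _⦋m + 1⦌).hom q).Fn from (row F X q).d m (m + 1) (hRaw H (m + 1) q x))
    rw [hRaw_succ, row_d_apply, hRaw_succ, row_d_apply]
    refine Eq.trans (sum_homotopy H fun e => pb F q e x).symm ?_
    refine Eq.trans (add_comm _ _) ?_
    simp only [map_sum, map_zsmul, pb_comp]

variable (F U) in
/-- Homotopic maps of simplicial spaces give homotopic morphisms. -/
noncomputable def hop : HOp (ind F U g) (ind F U f) where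
  k p q := QuotientAddGroup.map _ _ (hRaw (F := F) H p q)
    (fun x hx => mem_NB.2 (hRaw_vanish H p q x (mem_NB.1 hx)))
  kv p q x := by
    induction x using QuotientAddGroup.induction_on with
    | _ x => exact congrArg (QuotientAddGroup.mk' _) (hRaw_v H p q x)
  zero q x := by
    induction x using QuotientAddGroup.induction_on with
    | _ x => exact congrArg (QuotientAddGroup.mk' _) (hRaw_zero H q x)
  succ p q x := by
    induction x using QuotientAddGroup.induction_on with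
    | _ x => exact congrArg (QuotientAddGroup.mk' _) (hRaw_h H p q x)

end Quot

section LowDegree

variable {D D' : Bicx.{u}} (φ : Bicx.Hom D D')

/-- The bicomplex is exact in a total degree. -/
def ExDeg (D : Bicx.{u}) : ℕ → Prop
  | 0 => ∀ c, c ∈ D.W 0 → D.tot c = 0 → c = 0
  | n + 1 => ∀ c, c ∈ D.W (n + 1) → D.tot c = 0 → ∃ b, b ∈ D.W n ∧ D.tot b = c

lemma exactTot_iff_exDeg (D : Bicx.{u}) : ExactTot D ↔ ∀ n, ExDeg D n :=
  ⟨fun h n => match n with
    | 0 => h.1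
    | n + 1 => h.2 n, fun h => ⟨h 0, fun n => h (n + 1)⟩⟩

include φ in
/-- Exactness in a degree only depends on the columns up to the next one. -/
theorem exDeg_of_bijective {n : ℕ} (hφ : ∀ p q, p ≤ n + 1 → Function.Bijective (φ.f p q))
    (h : ExDeg D n) : ExDeg D' n := by
  have lift : ∀ c' ∈ D'.W n, D'.tot c' = 0 → ∃ c ∈ D.W n, φ.map c = c' ∧ D.tot c = 0 := by
    intro c' hc' hd
    let c : D.G := fun p q =>
      if hp : p ≤ n + 1 ∧ p + q = n then ((hφ p q hp.1).2 (c' p q)).choose else 0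
    have hc : c ∈ D.W n := fun p q hpq => dif_neg fun hp => hpq hp.2
    have he : φ.map c = c' := by
      funext p q
      by_cases hpq : p + q = n
      · rw [Bicx.Hom.map_apply]
        simp only [c, dif_pos (⟨by omega, hpq⟩ : p ≤ n + 1 ∧ p + q = n)]
        exact ((hφ p q (show p ≤ n + 1 by omega)).2 (c' p q)).choose_spec
      · rw [Bicx.Hom.map_apply, hc p q hpq, map_zero, hc' p q hpq]
    refine ⟨c, hc, he, funext fun p => funext fun q => ?_⟩
    by_cases hpq : p + q = n + 1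
    · refine (hφ p q (by omega)).1 ?_
      rw [← Bicx.Hom.map_apply, φ.map_tot, he, hd]
      exact (map_zero _).symm
    · exact Bicx.tot_mem_W hc p q hpq
  cases n with
  | zero =>
    intro c' hc' hd
    obtain ⟨c, hc, rfl, hd'⟩ := lift c' hc' hd
    rw [h c hc hd', map_zero]
  | succ n =>
    intro c' hc' hd
    obtain ⟨c, hc, rfl, hd'⟩ := lift c' hc' hd
    obtain ⟨b, hb, rfl⟩ := h c hc hd'
    exact ⟨φ.map b, φ.map_mem_W hb, (φ.map_tot b).symm⟩

end LowDegree

end Groth.Agent.Lib.FibDesc.Htpy
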