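import Groth.Agent.Lib.FibDesc.Tri
import Groth.Agent.Lib.FibDesc.Htpy
import Groth.Agent.Lib.FibDesc.CoskExt

/-!
# The Čech bisimplicial space of a map of simplicial spaces and its tricomplex
-/

set_option autoImplicit false
set_option linter.style.haveILetI false

universe u

open CategoryTheory Limits TopologicalSpace Opposite Topology

/- `open Simplicial` would capture `|` in pattern matching for a geometric realisation. -/
local notation "⦋" n "⦌" => SimplexCategory.mk n
local notation:1000 X:1000 " _⦋" n "⦌" => Functor.obj X (op (SimplexCategory.mk n))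

namespace Groth.Agent.Lib.FibDesc.Bisimp

open Groth.Agent.H30.Gode Groth.Agent.H30.E1 Transfer Tri Htpy CoskExt

variable {S : TopCat.{u}} {P Q : SimplicialObject (Over S)} (π : Q ⟶ P)

lemma sq {n n' : SimplexCategoryᵒᵖ} (g : n ⟶ n') :
    (Q.map g).left ≫ (π.app n').left = (π.app n).left ≫ (P.map g).left :=
  congrArg CommaMorphism.left (π.naturality g)

/-- The map of fibre powers over a map of simplices. -/
noncomputable def pwG {n n' : SimplexCategoryᵒᵖ} (g : n ⟶ n') (a : ℕ) :
    Pw (π.app n).left a ⟶ Pw (π.app n').left a :=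
  WidePullback.lift (pwBase (π.app n).left a ≫ (P.map g).left)
    (fun i => pwπ (π.app n).left a i ≫ (Q.map g).left)
    fun i => by rw [Category.assoc, sq, ← Category.assoc, WidePullback.π_arrow]

@[reassoc] lemma pwG_base {n n' : SimplexCategoryᵒᵖ} (g : n ⟶ n') (a : ℕ) :
    pwG π g a ≫ pwBase (π.app n').left a = pwBase (π.app n).left a ≫ (P.map g).left :=
  WidePullback.lift_base _ _ _ _

@[reassoc] lemma pwG_π {n n' : SimplexCategoryᵒᵖ} (g : n ⟶ n') (a : ℕ) (i : Fin (a + 1)) :
    pwG π g a ≫ pwπ (π.app n').left a i = pwπ (π.app n).left a i ≫ (Q.map g).left :=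
  WidePullback.lift_π _ _ _ _ _

/-- One fibre power of the map, as a simplicial space. -/
noncomputable def biObj (a : ℕ) : SimplicialObject (Over S) where
  obj n := Over.mk (pwBase (π.app n).left a ≫ (P.obj n).hom)
  map {n n'} g := Over.homMk (pwG π g a) (by
    change pwG π g a ≫ pwBase (π.app n').left a ≫ (P.obj n').hom = _
    rw [pwG_base_assoc, Over.w]
    rfl)
  map_id n := Over.OverMorphism.ext (by
    change pwG π (𝟙 n) a = 𝟙 _
    apply WidePullback.hom_ext
    · intro j; rw [pwG_π]; simp
    · rw [pwG_base]; simp)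
  map_comp g g' := Over.OverMorphism.ext (by
    change pwG π (g ≫ g') a = pwG π g a ≫ pwG π g' a
    apply WidePullback.hom_ext
    · intro j
      rw [pwG_π, Category.assoc, pwG_π, pwG_π_assoc]
      simp
    · rw [pwG_base, Category.assoc, pwG_base, pwG_base_assoc]
      simp)

/-- Its map to the target. -/
noncomputable def baseN (a : ℕ) : biObj π a ⟶ P where
  app n := Over.homMk (pwBase (π.app n).left a) rfl
  naturality n n' g := Over.OverMorphism.ext (pwG_base π g a)

/-- Its projections to the source. -/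
noncomputable def projN (a : ℕ) (i : Fin (a + 1)) : biObj π a ⟶ Q where
  app n := Over.homMk (pwπ (π.app n).left a i) (by
    change _ = pwBase (π.app n).left a ≫ (P.obj n).hom
    exact ((congrArg (pwπ _ a i ≫ ·) (Over.w (π.app n)).symm).trans (Category.assoc _ _ _).symm).trans
      (congrArg (· ≫ (P.obj n).hom) (WidePullback.π_arrow _ i)))
  naturality n n' g := Over.OverMorphism.ext (pwG_π π g a i)

lemma projN_π (a : ℕ) (i : Fin (a + 1)) : projN π a i ≫ π = baseN π a := by
  refine NatTrans.ext (funext fun n => ?_)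
  apply Over.OverMorphism.ext
  exact WidePullback.π_arrow _ i

/-- A fibre power has the universal property of the coskeleton if source and target have it. -/
theorem ext_biObj {N : ℕ} (hP : Ext N P) (hQ : Ext N Q) (A : ℕ) : Ext N (biObj π A) := by
  intro m T c hc
  obtain ⟨t, ht, -⟩ := hP m T (fun k hk φ => c k hk φ ≫ (baseN π A).app _) fun k l hk hl ψ φ => by
    rw [← hc k l hk hl ψ φ, Category.assoc, Category.assoc, (baseN π A).naturality]
  have : ∀ i, ∃ z : T ⟶ Q _⦋m⦌, ∀ k hk (φ : (⦋k⦌ : SimplexCategory) ⟶ ⦋m⦌),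
      z ≫ Q.map φ.op = c k hk φ ≫ (projN π A i).app _ := fun i => by
    obtain ⟨z, hz, -⟩ := hQ m T (fun k hk φ => c k hk φ ≫ (projN π A i).app _) fun k l hk hl ψ φ => by
      rw [← hc k l hk hl ψ φ, Category.assoc, Category.assoc, (projN π A i).naturality]
    exact ⟨z, hz⟩
  choose z hz using this
  have hzt : ∀ i, z i ≫ π.app (op ⦋m⦌) = t := fun i => hP.hom_ext fun k hk φ => by
    rw [Category.assoc, ← π.naturality, ← Category.assoc, hz i k hk φ, ht k hk φ, Category.assoc, ← NatTrans.comp_app,
      projN_π]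
  let x : T ⟶ (biObj π A) _⦋m⦌ := Over.homMk
    (WidePullback.lift t.left (fun i => (z i).left)
      fun i => congrArg CommaMorphism.left (hzt i))
    (by
      change WidePullback.lift _ _ _ ≫ pwBase _ A ≫ _ = _
      rw [WidePullback.lift_base_assoc, Over.w])
  have ext2 : ∀ {k : ℕ} {y y' : T ⟶ (biObj π A) _⦋k⦌},
      y ≫ (baseN π A).app _ = y' ≫ (baseN π A).app _ →
      (∀ i, y ≫ (projN π A i).app _ = y' ≫ (projN π A i).app _) → y = y' := fun hb hi =>
    Over.OverMorphism.ext (WidePullback.hom_ext _ _ _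
      (fun i => congrArg CommaMorphism.left (hi i)) (congrArg CommaMorphism.left hb))
  have hxb : x ≫ (baseN π A).app _ = t := Over.OverMorphism.ext (WidePullback.lift_base _ _ _ _)
  have hxp : ∀ i, x ≫ (projN π A i).app _ = z i := fun i =>
    Over.OverMorphism.ext (WidePullback.lift_π _ _ _ _ i)
  refine ⟨x, fun k hk φ => ext2 ?_ fun i => ?_, fun x' hx' => ext2 ?_ fun i => ?_⟩
  · rw [Category.assoc, (baseN π A).naturality, ← Category.assoc, hxb, ht k hk φ]
  · rw [Category.assoc, (projN π A i).naturality, ← Category.assoc, hxp, hz i k hk φ]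
  · refine hP.hom_ext fun k hk φ => ?_
    rw [hxb, ht k hk φ, Category.assoc, ← (baseN π A).naturality, ← Category.assoc, hx' k hk φ]
  · refine hQ.hom_ext fun k hk φ => ?_
    rw [hxp, hz i k hk φ, Category.assoc, ← (projN π A i).naturality, ← Category.assoc, hx' k hk φ]

/-- The Čech bisimplicial space. -/
noncomputable def bi : SimplicialObject (SimplicialObject (Over S)) where
  obj A := biObj π A.unop.len
  map {A B} h :=
    { app := fun n => Over.homMk ((nerve (π.app n).left).map h).left (by
        change _ ≫ pwBase (π.app n).left B.unop.len ≫ _ = pwBase (π.app n).left A.unop.len ≫ _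
        rw [← Category.assoc]
        exact congrArg (· ≫ (P.obj n).hom) (Over.w ((nerve (π.app n).left).map h)))
      naturality := fun n n' g => Over.OverMorphism.ext (by
        let θ : Pw (π.app n).left A.unop.len ⟶ Pw (π.app n).left B.unop.len :=
          ((nerve (π.app n).left).map h).left
        let θ' : Pw (π.app n').left A.unop.len ⟶ Pw (π.app n').left B.unop.len :=
          ((nerve (π.app n').left).map h).left
        change pwG π g A.unop.len ≫ θ' = θ ≫ pwG π g B.unop.len
        have hθ : ∀ j, θ ≫ pwπ _ B.unop.len j = pwπ _ A.unop.len (h.unop.toOrderHom j) := fun j =>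
          WidePullback.lift_π _ _ _ _ _
        have hθ' : ∀ j, θ' ≫ pwπ _ B.unop.len j = pwπ _ A.unop.len (h.unop.toOrderHom j) := fun j =>
          WidePullback.lift_π _ _ _ _ _
        have hb : θ ≫ pwBase _ B.unop.len = pwBase _ A.unop.len := WidePullback.lift_base _ _ _ _
        have hb' : θ' ≫ pwBase _ B.unop.len = pwBase _ A.unop.len := WidePullback.lift_base _ _ _ _
        apply WidePullback.hom_ext
        · intro j
          rw [Category.assoc, hθ', pwG_π, Category.assoc, pwG_π, reassoc_of% (hθ j)]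
        · rw [Category.assoc, hb', pwG_base, Category.assoc, pwG_base, reassoc_of% hb]) }
  map_id A := by
    refine NatTrans.ext (funext fun n => ?_)
    apply Over.OverMorphism.ext
    exact (congrArg CommaMorphism.left ((nerve (π.app n).left).map_id A) :)
  map_comp h h' := by
    refine NatTrans.ext (funext fun n => ?_)
    apply Over.OverMorphism.ext
    exact (congrArg CommaMorphism.left ((nerve (π.app n).left).map_comp h h') :)

lemma bi_map_base {A B : SimplexCategoryᵒᵖ} (h : A ⟶ B) :
    (bi π).map h ≫ baseN π B.unop.len = baseN π A.unop.len := by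
  refine NatTrans.ext (funext fun n => ?_)
  apply Over.OverMorphism.ext
  exact Over.w ((nerve (π.app n).left).map h)

/-- The augmentation. -/
noncomputable abbrev eps : (bi π).obj (op ⦋0⦌) ⟶ P := baseN π 0

lemma eps_cond :
    SimplicialObject.δ (bi π) (0 : Fin 2) ≫ eps π = SimplicialObject.δ (bi π) (1 : Fin 2) ≫ eps π :=
  (bi_map_base π (SimplexCategory.δ (0 : Fin 2)).op).trans
    (bi_map_base π (SimplexCategory.δ (1 : Fin 2)).op).symm

/-- Two maps of fibre powers agree where the map is injective. -/
lemma bi_map_agree {A B : SimplexCategoryᵒᵖ} (h h' : A ⟶ B) (i : SimplexCategoryᵒᵖ)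
    [IsIso (π.app i)] : ((bi π).map h).app i = ((bi π).map h').app i := by
  apply Over.OverMorphism.ext
  have hm : Mono (π.app i).left := inferInstance
  have hb := congrArg CommaMorphism.left
    (congr_app ((bi_map_base π h).trans (bi_map_base π h').symm) i)
  apply WidePullback.hom_ext
  · intro j
    rw [← cancel_mono (π.app i).left, Category.assoc, Category.assoc, WidePullback.π_arrow]
    exact hb
  · exact hb

/-- The augmented bisimplicial space. -/
noncomputable abbrev C : ℕ → SimplicialObject (Over S)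
  | 0 => P
  | a + 1 => (bi π).obj (op ⦋a⦌)

/-- The spaces over the base in one simplicial degree. -/
@[simps] noncomputable def ev (b : ℕ) : SimplicialObject (Over S) ⥤ Over S where
  obj X := aT X (Over.mk (𝟙 S)) b
  map f := mapT f (𝟙 _) b
  map_id X := by cases b <;> rfl
  map_comp f g := by
    cases b with
    | zero => exact (Category.id_comp _).symm
    | succ b => rfl

/-- One row of the bisimplicial space. -/
noncomputable abbrev rowSp (b : ℕ) : SimplicialObject (Over S) := bi π ⋙ ev b

lemma rowSp_cond (b : ℕ) : (rowSp π b).δ 0 ≫ (ev b).map (eps π) =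
    (rowSp π b).δ (1 : Fin 2) ≫ (ev b).map (eps π) :=
  ((ev b).map_comp _ _).symm.trans ((congrArg (ev b).map (eps_cond π)).trans ((ev b).map_comp _ _))

variable (F : CohTop.Ab S)

/-- The differentials in the Čech direction. -/
noncomputable def tha : ∀ a b q, (lv F (aT (C π a) (Over.mk (𝟙 S)) b).hom q).Fn →+
    (lv F (aT (C π (a + 1)) (Over.mk (𝟙 S)) b).hom q).Fn
  | 0, b, q => pb F q ((ev b).map (eps π))
  | a + 1, b, q => ((row F (rowSp π b) q).d a (a + 1)).hom

lemma tha_tha : ∀ a b q x, tha π F (a + 1) b q (tha π F a b q x) = 0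
  | 0, b, q, x => aH_aH F (rowSp π b) _ ((ev b).map (eps π)) (rowSp_cond π b) 0 q x
  | a + 1, b, q, x => aH_aH F (rowSp π b) _ ((ev b).map (eps π)) (rowSp_cond π b) (a + 1) q x

lemma tha_v : ∀ a b q x, tha π F a b (q + 1) (dl F (aT (C π a) (Over.mk (𝟙 S)) b).hom q x) =
    dl F (aT (C π (a + 1)) (Over.mk (𝟙 S)) b).hom q (tha π F a b q x)
  | 0, b, q, x => (bicx F (rowSp π b) _ ((ev b).map (eps π)) (rowSp_cond π b)).comm 0 q x
  | a + 1, b, q, x => (bicx F (rowSp π b) _ ((ev b).map (eps π)) (rowSp_cond π b)).comm (a + 1) q x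

lemma tha_hb : ∀ a b q x,
    tha π F a (b + 1) q (aH F (C π a) _ (Groth.Agent.H30.Gode.toBase (C π a)) b q x) =
      aH F (C π (a + 1)) _ (Groth.Agent.H30.Gode.toBase (C π (a + 1))) b q (tha π F a b q x)
  | 0, b, q, x => pb_mapT_aH (eps π) (𝟙 _) (toBase_hom (eps π)) b q x
  | a + 1, b, q, x => by
    change (row F (rowSp π (b + 1)) q).d a (a + 1)
        (aH F (C π (a + 1)) _ (Groth.Agent.H30.Gode.toBase (C π (a + 1))) b q x) =
      aH F (C π (a + 1 + 1)) _ (Groth.Agent.H30.Gode.toBase (C π (a + 1 + 1))) b q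
        ((row F (rowSp π b) q).d a (a + 1) x)
    rw [row_d_apply, row_d_apply]
    refine Eq.trans ?_ (map_sum (aH F (C π (a + 1 + 1)) _ (Groth.Agent.H30.Gode.toBase _) b q) _ _).symm
    refine Finset.sum_congr rfl fun i _ => ?_
    refine Eq.trans ?_ (map_zsmul (aH F (C π (a + 1 + 1)) _ (Groth.Agent.H30.Gode.toBase _) b q) _ _).symm
    exact congrArg _
      (pb_mapT_aH (SimplicialObject.δ (bi π) i) (𝟙 _) (toBase_hom _) b q x)

/-- The augmented tricomplex. -/
noncomputable def tri : Tri.{u} where
  X a b q := AddCommGrpCat.of (lv F (aT (C π a) (Over.mk (𝟙 S)) b).hom q).Fn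
  ha := tha π F
  hb a b q := aH F (C π a) _ (Groth.Agent.H30.Gode.toBase (C π a)) b q
  v a b q := dl F (aT (C π a) (Over.mk (𝟙 S)) b).hom q
  haa := tha_tha π F
  hbb a b q := aH_aH F (C π a) _ _ (toBase_cond (C π a)) b q
  vv a b q x := (lv F (aT (C π a) (Over.mk (𝟙 S)) b).hom q).d'_d' x
  cab := tha_hb π F
  cav := tha_v π F
  cbv a b q := (bicx F (C π a) _ _ (toBase_cond (C π a))).comm b q

variable (U : Opens S)

/-- The families vanishing on an open. -/
noncomputable def triN : ∀ a b q, AddSubgroup ((tri π F).X a b q) :=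
  fun _ _ q => ⨅ t : U, vanish F q t.1

lemma stable_slice (a : ℕ) : ((tri π F).slice a).Stable (triN π F U a) :=
  ⟨(stable_NB F (C π a) _ _ (toBase_cond _) U).h, (stable_NB F (C π a) _ _ (toBase_cond _) U).v⟩

lemma stable_transp (b : ℕ) :
    ((tri π F).transp.slice b).Stable fun a q => triN π F U a b q where
  h a q x hx := match a with
    | 0 => (stable_NB F (rowSp π b) _ ((ev b).map (eps π)) (rowSp_cond π b) U).h 0 q x hx
    | a + 1 => (stable_NB F (rowSp π b) _ ((ev b).map (eps π)) (rowSp_cond π b) U).h (a + 1) q x hx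
  v a q x hx := (stable_NB F (C π a) _ _ (toBase_cond _) U).v b q x hx

/-- The tricomplex above an open. -/
noncomputable def triU : Tri.{u} :=
  (tri π F).quot (triN π F U) (stable_slice π F U) (stable_transp π F U)

/-- The identification with the bicomplex of a row. -/
noncomputable def toRow (b : ℕ) : Bicx.Hom ((tri π F).transp.slice b)
    (bicx F (rowSp π b) _ ((ev b).map (eps π)) (rowSp_cond π b)) where
  f a q := match a with
    | 0 => AddMonoidHom.id _
    | _ + 1 => AddMonoidHom.id _
  fh a q x := match a with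
    | 0 => rfl
    | _ + 1 => rfl
  fv a q x := match a with
    | 0 => rfl
    | _ + 1 => rfl

lemma exactTot_transp_slice_iff (b : ℕ) : ExactTot ((triU π F U).transp.slice b) ↔
    ExactTot (BQ F (rowSp π b) ((ev b).obj P) ((ev b).map (eps π)) (rowSp_cond π b) U) :=
  exactTot_quot_iff (stable_transp π F U b) _ (toRow π F b)
    (fun a _ => match a with
      | 0 => Function.surjective_id
      | _ + 1 => Function.surjective_id)
    fun a _ _ => match a with
      | 0 => Iff.rfl
      | _ + 1 => Iff.rfl

/-- The row in one simplicial degree is the nerve of the map there. -/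
noncomputable def rowNerve (m : ℕ) :
    rowSp π (m + 1) ≅ Transfer.over (P _⦋m⦌).hom (nerve (π.app (op ⦋m⦌)).left) :=
  NatIso.ofComponents (fun A => Iso.refl _) fun {A B} h =>
    (Category.comp_id _).trans (Eq.trans (Over.OverMorphism.ext rfl) (Category.id_comp _).symm)

lemma subsingleton_nerve_id (n : ℕ) (T : Over S) :
    Subsingleton (T ⟶ (nerve (𝟙 S)) _⦋n⦌) := by
  refine ⟨fun g g' => Over.OverMorphism.ext ?_⟩
  have hb : g.left ≫ pwBase (𝟙 S) n = g'.left ≫ pwBase (𝟙 S) n := (Over.w g).trans (Over.w g').symm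
  apply WidePullback.hom_ext
  · intro j
    have hj := WidePullback.π_arrow (fun _ : Fin (n + 1) => 𝟙 S) j
    rw [Category.comp_id] at hj
    erw [hj]
    exact hb
  · exact hb

/-- The row of the base is the nerve of the identity. -/
noncomputable def rowBase : rowSp π 0 ≅ nerve (𝟙 S) :=
  NatIso.ofComponents (fun A => Over.isoMk
    { hom := WidePullback.lift (𝟙 S) (fun _ => 𝟙 S) (fun _ => Category.id_comp _)
      inv := pwBase (𝟙 S) A.unop.len
      hom_inv_id := WidePullback.lift_base _ _ _ _
      inv_hom_id := by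
        apply WidePullback.hom_ext
        · intro j
          refine ((Category.assoc _ _ _).trans ((congrArg (pwBase (𝟙 S) _ ≫ ·)
            (WidePullback.lift_π _ _ _ _ j)).trans (Category.comp_id _))).trans ?_
          refine (WidePullback.π_arrow (fun _ : Fin (A.unop.len + 1) => 𝟙 S) j).symm.trans ?_
          exact (Category.comp_id _).trans (Category.id_comp _).symm
        · refine ((Category.assoc _ _ _).trans ((congrArg (pwBase (𝟙 S) _ ≫ ·)
            (WidePullback.lift_base _ _ _ _)).trans (Category.comp_id _))).trans ?_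
          exact (Category.id_comp _).symm }
    (WidePullback.lift_base _ _ _ _))
    fun {A B} h => @Subsingleton.elim _ (subsingleton_nerve_id B.unop.len _) _ _

theorem exactTot_transp_slice
    (hπ : ∀ m : ℕ, _root_.FibDesc.IsUnivCohDescentMap (π.app (op ⦋m⦌)).left) :
    ∀ b, ExactTot ((triU π F U).transp.slice b)
  | 0 => by
    refine (exactTot_transp_slice_iff π F U 0).2 ?_
    have h : TE F (rowSp π 0) U := (te_iff_of_iso F (nerve (𝟙 S)) (rowBase π) U).1
      ((isCohDescentMap_iff (𝟙 S)).1 (LocalSections.isCohDescentMap _ fun s =>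
        ⟨⊤, incU ⊤, trivial, Category.comp_id _⟩) F U)
    refine (exactTot_iff_map _ (toBase_cond _) (𝟙 _) (𝟙 _) ?_ U (fun p => ?_) fun p y _ => ?_).2 h
    · exact Over.OverMorphism.ext (Over.w _ |>.trans (Over.w _).symm)
    · cases p <;> exact IsOpenEmbedding.id
    · cases p <;> exact ⟨y, rfl⟩
  | m + 1 => by
    refine (exactTot_transp_slice_iff π F U (m + 1)).2 ?_
    have hd : _root_.FibDesc.IsCohDescentMap (π.app (op ⦋m⦌)).left :=
      Univ.isCohDescentMap_of_iso
        (asIso (pullback.fst (π.app (op ⦋m⦌)).left (𝟙 _))).symm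
        ((Iso.inv_comp_eq _).2 (((Category.comp_id _).symm.trans pullback.condition.symm)))
        (hπ m _ (𝟙 _))
    have h := (exactTot_iff_base F (P _⦋m⦌).hom (nerve (π.app (op ⦋m⦌)).left) (Over.mk (𝟙 _))
      (Groth.Agent.H30.Gode.toBase (nerve (π.app (op ⦋m⦌)).left)) (toBase_cond _) U).2
      ((isCohDescentMap_iff (π.app (op ⦋m⦌)).left).1 hd _ _)
    let ιB : P _⦋m⦌ ⟶ (Over.map (P _⦋m⦌).hom).obj (Over.mk (𝟙 (P _⦋m⦌).left)) :=
      Over.homMk (𝟙 _) (by simp)
    refine (exactTot_iff_map _ (rowSp_cond π (m + 1)) (rowNerve π m).hom ιB ?_ U (fun p => ?_)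
      fun p y _ => ?_).1 h
    · apply Over.OverMorphism.ext
      exact (Category.id_comp _).trans (Category.comp_id _).symm
    · cases p <;> exact IsOpenEmbedding.id
    · cases p <;> exact ⟨y, rfl⟩

end Groth.Agent.Lib.FibDesc.Bisimp
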