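import Groth.Agent.Lib.FibDesc.Tri
import Mathlib.CategoryTheory.Comma.Over.Pullback

/-!
# Descent after base change along the nerve of a map of universal descent
-/

set_option autoImplicit false
set_option linter.style.haveILetI false

universe u

open CategoryTheory Limits TopologicalSpace Opposite Simplicial Topology

namespace Groth.Agent.Lib.FibDesc.Cech

open Groth.Agent.H30.Gode Groth.Agent.H30.E1 Transfer Tri

variable {S : TopCat.{u}}

/-- The fibre product over the base, seen through the first factor. -/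
noncomputable abbrev Rf (T : Over S) : Over S ⥤ Over S := Over.pullback T.hom ⋙ Over.map T.hom

/-- The fibre product over the base. -/
noncomputable abbrev pr (T L : Over S) : Over S := (Rf T).obj L

/-- The action on the first factor. -/
noncomputable def prL {T T' : Over S} (f : T ⟶ T') (L : Over S) : pr T L ⟶ pr T' L :=
  Over.homMk (pullback.lift (pullback.fst L.hom T.hom) (pullback.snd L.hom T.hom ≫ f.left)
      (by rw [Category.assoc, Over.w f]; exact pullback.condition))
    (show pullback.lift _ _ _ ≫ pullback.snd L.hom T'.hom ≫ T'.hom =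
        pullback.snd L.hom T.hom ≫ T.hom by
      rw [pullback.lift_snd_assoc, Category.assoc, Over.w f])

@[simp] lemma prL_fst {T T' : Over S} (f : T ⟶ T') (L : Over S) :
    (prL f L).left ≫ pullback.fst L.hom T'.hom = pullback.fst L.hom T.hom :=
  pullback.lift_fst _ _ _

@[simp] lemma prL_snd {T T' : Over S} (f : T ⟶ T') (L : Over S) :
    (prL f L).left ≫ pullback.snd L.hom T'.hom = pullback.snd L.hom T.hom ≫ f.left :=
  pullback.lift_snd _ _ _

/-- The fibre product as a functor of the first factor. -/
noncomputable def Lf (L : Over S) : Over S ⥤ Over S where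
  obj T := pr T L
  map f := prL f L
  map_id T := Over.OverMorphism.ext (by
    apply pullback.hom_ext
    · exact (prL_fst (𝟙 T) L).trans (Category.id_comp _).symm
    · exact (prL_snd (𝟙 T) L).trans ((Category.comp_id _).trans (Category.id_comp _).symm))
  map_comp {T T' T''} f g := Over.OverMorphism.ext (by
    apply pullback.hom_ext
    · refine (prL_fst (f ≫ g) L).trans ?_
      exact ((Category.assoc _ _ _).trans ((congrArg (_ ≫ ·) (prL_fst g L)).trans (prL_fst f L))).symm
    · refine (prL_snd (f ≫ g) L).trans ?_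
      refine ((Category.assoc _ _ _).trans ((congrArg (_ ≫ ·) (prL_snd g L)).trans ?_)).symm
      exact (Category.assoc _ _ _).symm.trans
        ((congrArg (· ≫ g.left) (prL_snd f L)).trans (Category.assoc _ _ _)))

lemma prL_naturality {T T' : Over S} (f : T ⟶ T') {L L' : Over S} (g : L ⟶ L') :
    (Rf T).map g ≫ prL f L' = prL f L ≫ (Rf T').map g :=
  Over.OverMorphism.ext (by
    apply pullback.hom_ext
    all_goals
      simp [prL, Rf]
      repeat first
        | erw [pullback.lift_fst] | erw [pullback.lift_snd]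
        | erw [pullback.lift_fst_assoc] | erw [pullback.lift_snd_assoc])

/-- The map of functors in the first factor. -/
noncomputable def natL {T T' : Over S} (f : T ⟶ T') : Rf T ⟶ Rf T' where
  app := prL f
  naturality _ _ g := prL_naturality f g

/-- The unit of the fibre product. -/
noncomputable def unitIso (T : Over S) : T.left ≅ pullback (𝟙 S) T.hom where
  hom := pullback.lift T.hom (𝟙 T.left) ((Category.comp_id T.hom).trans (Category.id_comp T.hom).symm)
  inv := pullback.snd (𝟙 S) T.hom
  hom_inv_id := pullback.lift_snd _ _ _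
  inv_hom_id := by
    apply pullback.hom_ext
    · rw [Category.assoc, pullback.lift_fst, Category.id_comp, ← pullback.condition, Category.comp_id]
    · rw [Category.assoc, pullback.lift_snd, Category.comp_id, Category.id_comp]

@[reassoc] lemma unitIso_snd (T : Over S) : (unitIso T).hom ≫ pullback.snd (𝟙 S) T.hom = 𝟙 _ :=
  pullback.lift_snd _ _ _

section Generic

variable (F : CohTop.Ab S) (G : Over S ⥤ Over S) (K : SimplicialObject (Over S)) (B : Over S)
  (a : K _⦋0⦌ ⟶ B) (ha : K.δ 0 ≫ a = K.δ (1 : Fin 2) ≫ a)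

include ha in
lemma map_cond : SimplicialObject.δ (X := K ⋙ G) (0 : Fin 2) ≫ G.map a =
    SimplicialObject.δ (X := K ⋙ G) (1 : Fin 2) ≫ G.map a :=
  (G.map_comp _ _).symm.trans ((congrArg G.map ha).trans (G.map_comp _ _))

/-- The horizontal differentials after a functor. -/
noncomputable def gh : ∀ p q, (lv F (G.obj (aT K B p)).hom q).Fn →+
    (lv F (G.obj (aT K B (p + 1))).hom q).Fn
  | 0, q => aH F (K ⋙ G) (G.obj B) (G.map a) 0 q
  | p + 1, q => aH F (K ⋙ G) (G.obj B) (G.map a) (p + 1) q

include ha in
lemma gh_gh : ∀ p q x, gh F G K B a (p + 1) q (gh F G K B a p q x) = 0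
  | 0, q, x => aH_aH F (K ⋙ G) (G.obj B) (G.map a) (map_cond G K B a ha) 0 q x
  | p + 1, q, x => aH_aH F (K ⋙ G) (G.obj B) (G.map a) (map_cond G K B a ha) (p + 1) q x

/-- The bicomplex after a functor. -/
noncomputable def gBicx : Bicx.{u} where
  X p q := AddCommGrpCat.of (lv F (G.obj (aT K B p)).hom q).Fn
  h := gh F G K B a
  v p q := dl F (G.obj (aT K B p)).hom q
  hh := gh_gh F G K B a ha
  vv p q x := (lv F (G.obj (aT K B p)).hom q).d'_d' x
  comm p q x := match p with
    | 0 => (bicx F (K ⋙ G) (G.obj B) (G.map a) (map_cond G K B a ha)).comm 0 q x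
    | p + 1 => (bicx F (K ⋙ G) (G.obj B) (G.map a) (map_cond G K B a ha)).comm (p + 1) q x

/-- The identification with the bicomplex of the composite. -/
noncomputable def toBicx : Bicx.Hom (gBicx F G K B a ha)
    (bicx F (K ⋙ G) (G.obj B) (G.map a) (map_cond G K B a ha)) where
  f p q := match p with
    | 0 => AddMonoidHom.id _
    | _ + 1 => AddMonoidHom.id _
  fh p q x := match p with
    | 0 => rfl
    | _ + 1 => rfl
  fv p q x := match p with
    | 0 => rfl
    | _ + 1 => rfl

/-- The families vanishing on an open. -/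
noncomputable def gN (U : Opens S) : ∀ p q, AddSubgroup ((gBicx F G K B a ha).X p q) :=
  fun _ q => ⨅ t : U, vanish F q t.1

theorem stable_gN (U : Opens S) : (gBicx F G K B a ha).Stable (gN F G K B a ha U) where
  h p q x hx := match p with
    | 0 => (stable_NB F (K ⋙ G) (G.obj B) (G.map a) (map_cond G K B a ha) U).h 0 q x hx
    | p + 1 => (stable_NB F (K ⋙ G) (G.obj B) (G.map a) (map_cond G K B a ha) U).h (p + 1) q x hx
  v p q x hx := AddSubgroup.mem_iInf.2 fun t =>
    dl_vanish U.isOpen (fun t ht => AddSubgroup.mem_iInf.1 hx ⟨t, ht⟩) t.1 t.2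

theorem exactTot_gBicx_iff (U : Opens S) :
    ExactTot ((gBicx F G K B a ha).quot (stable_gN F G K B a ha U)) ↔
      ExactTot (BQ F (K ⋙ G) (G.obj B) (G.map a) (map_cond G K B a ha) U) :=
  exactTot_quot_iff _ _ (toBicx F G K B a ha)
    (fun p _ => match p with
      | 0 => Function.surjective_id
      | _ + 1 => Function.surjective_id)
    fun p _ _ => match p with
      | 0 => Iff.rfl
      | _ + 1 => Iff.rfl

variable {G} in
lemma gh_natural {G' : Over S ⥤ Over S} (η : G' ⟶ G) : ∀ p q (x : (lv F (G.obj (aT K B p)).hom q).Fn),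
    pb F q (η.app (aT K B (p + 1))) (gh F G K B a p q x) =
      gh F G' K B a p q (pb F q (η.app (aT K B p)) x)
  | 0, q, x => by
    change pb F q (η.app (K _⦋0⦌)) (pb F q (G.map a) x) = pb F q (G'.map a) (pb F q (η.app B) x)
    rw [pb_comp, pb_comp, η.naturality]
  | p + 1, q, x => by
    change pb F q (η.app (K _⦋p + 1⦌)) ((row F (K ⋙ G) q).d p (p + 1) x) =
      (row F (K ⋙ G') q).d p (p + 1) (pb F q (η.app (K _⦋p⦌)) x)
    rw [row_d_apply, row_d_apply, map_sum]
    refine Finset.sum_congr rfl fun i _ => ?_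
    rw [map_zsmul]
    refine congrArg _ ((pb_comp F q _ _ x).trans (Eq.trans ?_ (pb_comp F q _ _ x).symm))
    exact congrArg (fun g => pb F q g x) (η.naturality (K.δ i)).symm

end Generic

section Double

variable (F : CohTop.Ab S) (K L : SimplicialObject (Over S))

/-- The spaces of an augmented simplicial space over the base. -/
noncomputable abbrev KT (K : SimplicialObject (Over S)) : ℕ → Over S := aT K (Over.mk (𝟙 S))

lemma ha_hb_comm : ∀ a b q (x : (lv F (pr (KT K a) (KT L b)).hom q).Fn),
    gh F (Lf (KT L (b + 1))) K _ (Groth.Agent.H30.Gode.toBase K) a q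
        (gh F (Rf (KT K a)) L _ (Groth.Agent.H30.Gode.toBase L) b q x) =
      gh F (Rf (KT K (a + 1))) L _ (Groth.Agent.H30.Gode.toBase L) b q
        (gh F (Lf (KT L b)) K _ (Groth.Agent.H30.Gode.toBase K) a q x)
  | 0, b, q, x => gh_natural F L _ _ (natL (Groth.Agent.H30.Gode.toBase K)) b q x
  | a + 1, b, q, x => by
    change (row F (K ⋙ Lf (KT L (b + 1))) q).d a (a + 1)
        (gh F (Rf (K _⦋a⦌)) L _ (Groth.Agent.H30.Gode.toBase L) b q x) =
      gh F (Rf (K _⦋a + 1⦌)) L _ (Groth.Agent.H30.Gode.toBase L) b q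
        ((row F (K ⋙ Lf (KT L b)) q).d a (a + 1) x)
    rw [row_d_apply, row_d_apply]
    refine Eq.trans ?_ (map_sum (gh F (Rf (K _⦋a + 1⦌)) L _ (Groth.Agent.H30.Gode.toBase L) b q) _ _).symm
    refine Finset.sum_congr rfl fun i _ => ?_
    refine Eq.trans ?_ (map_zsmul (gh F (Rf (K _⦋a + 1⦌)) L _ (Groth.Agent.H30.Gode.toBase L) b q) _ _).symm
    exact congrArg _ (gh_natural F L _ _ (natL (K.δ i)) b q x)

/-- The augmented double descent tricomplex. -/
noncomputable def tri : Tri.{u} where
  X a b q := AddCommGrpCat.of (lv F (pr (KT K a) (KT L b)).hom q).Fn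
  ha a b q := gh F (Lf (KT L b)) K _ (Groth.Agent.H30.Gode.toBase K) a q
  hb a b q := gh F (Rf (KT K a)) L _ (Groth.Agent.H30.Gode.toBase L) b q
  v a b q := dl F (pr (KT K a) (KT L b)).hom q
  haa a b q := gh_gh F (Lf (KT L b)) K _ _ (toBase_cond K) a q
  hbb a b q := gh_gh F (Rf (KT K a)) L _ _ (toBase_cond L) b q
  vv a b q x := (lv F (pr (KT K a) (KT L b)).hom q).d'_d' x
  cab := ha_hb_comm F K L
  cav a b q := (gBicx F (Lf (KT L b)) K _ _ (toBase_cond K)).comm a q
  cbv a b q := (gBicx F (Rf (KT K a)) L _ _ (toBase_cond L)).comm b q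

/-- The families vanishing on an open. -/
noncomputable def triN (U : Opens S) : ∀ a b q, AddSubgroup ((tri F K L).X a b q) :=
  fun _ _ q => ⨅ t : U, vanish F q t.1

lemma stable_slice (U : Opens S) (a : ℕ) : ((tri F K L).slice a).Stable (triN F K L U a) :=
  ⟨(stable_gN F (Rf (KT K a)) L _ _ (toBase_cond L) U).h,
    (stable_gN F (Rf (KT K a)) L _ _ (toBase_cond L) U).v⟩

lemma stable_transp (U : Opens S) (b : ℕ) :
    ((tri F K L).transp.slice b).Stable fun a q => triN F K L U a b q :=
  ⟨(stable_gN F (Lf (KT L b)) K _ _ (toBase_cond K) U).h,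
    (stable_gN F (Lf (KT L b)) K _ _ (toBase_cond K) U).v⟩

/-- The tricomplex above an open. -/
noncomputable def triU (U : Opens S) : Tri.{u} :=
  (tri F K L).quot (triN F K L U) (stable_slice F K L U) (stable_transp F K L U)

lemma rf_iff (T : Over S) (U : Opens S) :
    ExactTot (BQ F (K ⋙ Rf T) ((Rf T).obj (Over.mk (𝟙 S)))
        ((Rf T).map (Groth.Agent.H30.Gode.toBase K)) (map_cond (Rf T) K _ _ (toBase_cond K)) U) ↔
      TE (BaseChangeLv.F' T.hom F) (K ⋙ Over.pullback T.hom) ((Opens.map T.hom).obj U) := by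
  refine (exactTot_iff_base F T.hom (K ⋙ Over.pullback T.hom) ((Over.pullback T.hom).obj (Over.mk (𝟙 S)))
    ((Over.pullback T.hom).map (Groth.Agent.H30.Gode.toBase K))
    (map_cond' K T.hom) U).trans ?_
  let ιB : Over.mk (𝟙 T.left) ⟶ (Over.pullback T.hom).obj (Over.mk (𝟙 S)) :=
    Over.homMk (unitIso T).hom (pullback.lift_snd _ _ _)
  refine exactTot_iff_map _ (toBase_cond _) (𝟙 (K ⋙ Over.pullback T.hom)) ιB ?_ _ (fun p => ?_)
    fun p y _ => ?_
  · apply Over.OverMorphism.ext
    apply pullback.hom_ext
    all_goals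
      simp [ιB, unitIso]
      repeat first
        | erw [pullback.lift_fst] | erw [pullback.lift_snd]
        | erw [pullback.lift_fst_assoc] | erw [pullback.lift_snd_assoc]
    all_goals first
      | exact pullback.condition
      | exact (Category.comp_id _).symm
  · cases p with
    | zero => exact (isHomeo_lift T).isOpenEmbedding
    | succ p => exact IsOpenEmbedding.id
  · cases p with
    | zero => exact (isHomeo_lift T).surjective y
    | succ p => exact ⟨y, rfl⟩
where
  map_cond' {S' : TopCat.{u}} (K : SimplicialObject (Over S)) (x : S' ⟶ S) :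
      SimplicialObject.δ (X := K ⋙ Over.pullback x) (0 : Fin 2) ≫
          (Over.pullback x).map (Groth.Agent.H30.Gode.toBase K) =
        SimplicialObject.δ (X := K ⋙ Over.pullback x) (1 : Fin 2) ≫
          (Over.pullback x).map (Groth.Agent.H30.Gode.toBase K) :=
    ((Over.pullback x).map_comp _ _).symm.trans
      ((congrArg (Over.pullback x).map (toBase_cond K)).trans ((Over.pullback x).map_comp _ _))
  isHomeo_lift (T : Over S) : IsHomeomorph (unitIso T).hom :=
    (TopCat.homeoOfIso (unitIso T)).isHomeomorph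

/-- The symmetry. -/
noncomputable def symm (L : Over S) : Rf L ≅ Lf L :=
  NatIso.ofComponents
    (fun T => Over.isoMk (pullbackSymmetry T.hom L.hom) (by
      change (pullbackSymmetry T.hom L.hom).hom ≫ pullback.snd L.hom T.hom ≫ T.hom =
        pullback.snd T.hom L.hom ≫ L.hom
      rw [pullbackSymmetry_hom_comp_snd_assoc, pullback.condition]))
    fun {T T'} f => Over.OverMorphism.ext (by
      apply pullback.hom_ext
      all_goals
        simp [Lf, prL]
        repeat first
          | erw [pullback.lift_fst] | erw [pullback.lift_snd]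
          | erw [pullback.lift_fst_assoc] | erw [pullback.lift_snd_assoc]
          | erw [pullbackSymmetry_hom_comp_fst] | erw [pullbackSymmetry_hom_comp_snd]
          | erw [pullbackSymmetry_hom_comp_fst_assoc] | erw [pullbackSymmetry_hom_comp_snd_assoc]
      all_goals rfl)

lemma lf_iff (T : Over S) (U : Opens S) :
    ExactTot (BQ F (K ⋙ Lf T) ((Lf T).obj (Over.mk (𝟙 S)))
        ((Lf T).map (Groth.Agent.H30.Gode.toBase K)) (map_cond (Lf T) K _ _ (toBase_cond K)) U) ↔
      TE (BaseChangeLv.F' T.hom F) (K ⋙ Over.pullback T.hom) ((Opens.map T.hom).obj U) := by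
  refine Iff.trans ?_ (rf_iff F K T U)
  have hb : ∀ Z : Over S, IsHomeomorph ((symm T).hom.app Z).left := fun Z =>
    (TopCat.homeoOfIso ((Over.forget S).mapIso ((symm T).app Z))).isHomeomorph
  refine exactTot_iff_map _ _ (Functor.whiskerLeft K (symm T).hom)
    ((symm T).hom.app (Over.mk (𝟙 S))) ((symm T).hom.naturality _).symm U (fun p => ?_) fun p y _ => ?_
  · cases p with
    | zero => exact (hb _).isOpenEmbedding
    | succ p => exact (hb _).isOpenEmbedding
  · cases p with
    | zero => exact (hb _).surjective y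
    | succ p => exact (hb _).surjective y

/-- The unit of the fibre product, as a functor. -/
noncomputable def unitor : 𝟭 (Over S) ≅ Lf (Over.mk (𝟙 S)) :=
  NatIso.ofComponents
    (fun T => Over.isoMk (unitIso T) (by
      change (unitIso T).hom ≫ pullback.snd (𝟙 S) T.hom ≫ T.hom = T.hom
      rw [unitIso_snd_assoc]))
    fun {T T'} f => Over.OverMorphism.ext (by
      apply pullback.hom_ext
      all_goals
        simp [Lf, prL, unitIso]
        repeat first
          | erw [pullback.lift_fst] | erw [pullback.lift_snd]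
          | erw [pullback.lift_fst_assoc] | erw [pullback.lift_snd_assoc]
      all_goals first
        | exact (Category.comp_id _).symm
        | exact Over.w f)

lemma lf_id_iff (U : Opens S) :
    ExactTot (BQ F (K ⋙ Lf (Over.mk (𝟙 S))) ((Lf (Over.mk (𝟙 S))).obj (Over.mk (𝟙 S)))
        ((Lf (Over.mk (𝟙 S))).map (Groth.Agent.H30.Gode.toBase K))
        (map_cond (Lf (Over.mk (𝟙 S))) K _ _ (toBase_cond K)) U) ↔ TE F K U := by
  have hb : ∀ Z : Over S, IsHomeomorph ((unitor (S := S)).hom.app Z).left := fun Z =>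
    (TopCat.homeoOfIso ((Over.forget S).mapIso ((unitor (S := S)).app Z))).isHomeomorph
  refine exactTot_iff_map _ (toBase_cond K) (Functor.whiskerLeft K (unitor (S := S)).hom)
    ((unitor (S := S)).hom.app (Over.mk (𝟙 S))) ((unitor (S := S)).hom.naturality _).symm U
    (fun p => ?_) fun p y _ => ?_
  · cases p with
    | zero => exact (hb _).isOpenEmbedding
    | succ p => exact (hb _).isOpenEmbedding
  · cases p with
    | zero => exact (hb _).surjective y
    | succ p => exact (hb _).surjective y

/-- Exactness through the double complex. -/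
theorem te_of_double
    (hL : ∀ (a : ℕ) (G : CohTop.Ab (KT K a).left) V, TE G (L ⋙ Over.pullback (KT K a).hom) V)
    (hK : ∀ (b : ℕ) (G : CohTop.Ab (KT L (b + 1)).left) V,
      TE G (K ⋙ Over.pullback (KT L (b + 1)).hom) V)
    (U : Opens S) : TE F K U := by
  refine (lf_id_iff F K U).1 ((exactTot_gBicx_iff F (Lf (KT L 0)) K _ _ (toBase_cond K) U).1 ?_)
  exact Tri.exactTot_slice_zero (T := triU F K L U)
    (fun a => (exactTot_gBicx_iff F (Rf (KT K a)) L _ _ (toBase_cond L) U).2
      ((rf_iff F L (KT K a) U).2 (hL a _ _)))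
    (fun b => (exactTot_gBicx_iff F (Lf (KT L (b + 1))) K _ _ (toBase_cond K) U).2
      ((lf_iff F K (KT L (b + 1)) U).2 (hK b _ _)))

end Double

/-- Exactness for a base change of a nerve. -/
lemma te_pullback {X S S' : TopCat.{u}} {u : X ⟶ S} (x : S' ⟶ S)
    (h : _root_.FibDesc.IsCohDescentMap (pullback.snd u x)) (G : CohTop.Ab S') (V : Opens S') :
    TE G (nerve u ⋙ Over.pullback x) V :=
  (te_iff_of_iso G (nerve u ⋙ Over.pullback x) (nervePullbackIso u x).symm V).2
    ((isCohDescentMap_iff (pullback.snd u x)).1 h G V)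

/-- **Descent is local for maps of universal descent.** -/
theorem isCohDescentMap {X Y S : TopCat.{u}} (u : X ⟶ S) (v : Y ⟶ S)
    (hv : _root_.FibDesc.IsUnivCohDescentMap v)
    (h : ∀ n : ℕ, _root_.FibDesc.IsCohDescentMap
      (pullback.snd u (WidePullback.base (fun _ : Fin (n + 1) => v) :
        widePullback S (fun _ : Fin (n + 1) => Y) (fun _ => v) ⟶ S))) :
    _root_.FibDesc.IsCohDescentMap u :=
  (isCohDescentMap_iff u).2 fun F U => te_of_double F (nerve u) (nerve v)
    (fun a G V => te_pullback _ (hv _ _) G V)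
    (fun b G V => te_pullback _ (h b) G V) U

end Groth.Agent.Lib.FibDesc.Cech
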