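import Groth.Agent.Lib.FibDesc.Descent
import Mathlib.CategoryTheory.Abelian.Injective.Resolution
import Mathlib.CategoryTheory.Preadditive.Biproducts

/-!
# Comparison of the resolution with an injective resolution, on sections
-/

set_option autoImplicit false
set_option linter.style.haveILetI false

universe u

open CategoryTheory Limits Opposite TopologicalSpace Pseudofunctor.CoGrothendieck Simplicial

namespace Groth.Agent.Lib.FibDesc.Cone

open Site Flasque Acyclic Model Gen Descent Groth.Agent.FibSiteLib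

variable {Y : AugSp.{u}}

section Chain

variable (E : ℕ → Sh Y) (dE : ∀ n, E n ⟶ E (n + 1)) (w : ∀ n, dE n ≫ dE (n + 1) = 0)
  (hex : ∀ n, (ShortComplex.mk (dE n) (dE (n + 1)) (w n)).Exact) (hE : ∀ n, LvlFlasque (E n))

include hex hE in
lemma chain_flasque (hmono : Mono (dE 0)) : ∀ n, LvlFlasque (kernel (dE n)) ∧
    ∀ (X : Pt Y), Function.Surjective
      ((kernel.lift (dE (n + 1)) (dE n) (w n)).hom.app (op X)) := by
  have hS : ∀ k, (ShortComplex.mk (kernel.ι (dE k)) (kernel.lift (dE (k + 1)) (dE k) (w k))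
      (by rw [← cancel_mono (kernel.ι (dE (k + 1)))]; simp)).ShortExact := fun k =>
    { exact := exact_lift _ _ _ (w k) (fun _ => ShortComplex.exact_of_f_is_kernel _
        (kernelIsKernel _)) _
      mono_f := inferInstanceAs (Mono (kernel.ι _))
      epi_g := (hex k).epi_kernelLift }
  have hfl : ∀ n, LvlFlasque (kernel (dE n)) := by
    intro n
    induction n with
    | zero =>
      intro p U V h x
      have hz : IsZero (kernel (dE 0)) :=
        IsZero.of_mono_eq_zero (kernel.ι (dE 0))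
          ((cancel_mono (dE 0)).1 (by rw [kernel.condition, zero_comp]))
      refine ⟨0, ?_⟩
      rw [map_zero]
      have := congrArg (fun φ : kernel (dE 0) ⟶ kernel (dE 0) => φ.hom.app _ x) (hz.eq_of_src 0 (𝟙 _))
      exact this
    | succ n ih => exact lvlFlasque_X₃ (hS n) ih (hE n)
  exact fun n => ⟨hfl n, fun X => sections_surjective (hS n) (hfl n) X⟩

include hex hE in
/-- An exact sequence of levelwise flasque sheaves is exact on sections. -/
theorem chain_sections_exact (hmono : Mono (dE 0)) (n : ℕ) (X : Pt Y)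
    (x : (E (n + 1)).obj.obj (op X)) (hx : (dE (n + 1)).hom.app (op X) x = 0) :
    ∃ y, (dE n).hom.app (op X) y = x := by
  let T : ShortComplex (Sh Y) :=
    ShortComplex.mk (kernel.ι (dE (n + 1))) (cokernel.π (kernel.ι (dE (n + 1)))) (cokernel.condition _)
  let E' : Sh Y ⥤ AddCommGrpCat.{u} :=
    sheafToPresheaf _ _ ⋙ (evaluation _ _).obj (op X)
  haveI : E'.Additive := ⟨fun {_ _ _ _} => rfl⟩
  haveI : PreservesFiniteLimits E' := comp_preservesFiniteLimits _ _
  have hk : (ShortComplex.mk (kernel.ι (dE (n + 1))) (dE (n + 1)) (kernel.condition _)).Exact :=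
    ShortComplex.exact_of_f_is_kernel _ (kernelIsKernel _)
  have hk' := hk.map_of_mono_of_preservesKernel E' inferInstance inferInstance
  obtain ⟨z, hz⟩ := (ShortComplex.ab_exact_iff _).1 hk' x hx
  obtain ⟨y, hy⟩ := (chain_flasque E dE w hex hE hmono n).2 X z
  refine ⟨y, ?_⟩
  rw [← hz, ← hy]
  exact (ConcreteCategory.congr_hom (congrArg (fun φ : E n ⟶ E (n + 1) => φ.hom.app (op X))
    (kernel.lift_ι (dE (n + 1)) (dE n) (w n))) y).symm

end Chain

section Resolution

variable [(_root_.FibDesc.incl (Fam Y)).IsContinuous (_root_.FibDesc.totPart (Fam Y) (Top Y))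
    (_root_.FibDesc.totAug (Fam Y) (Top Y))]
  [(_root_.FibDesc.incl (Fam Y)).IsCocontinuous (_root_.FibDesc.totPart (Fam Y) (Top Y))
    (_root_.FibDesc.totAug (Fam Y) (Top Y))]
  [(_root_.FibDesc.eps (Fam Y)).IsContinuous (Top Y (_root_.FibDesc.bot _))
    (_root_.FibDesc.totAug (Fam Y) (Top Y))]

variable (F : CohTop.Ab (S Y)) (R : InjectiveResolution ((pull (Y := Y)).obj F))

/-- The augmentation of the injective resolution. -/
noncomputable abbrev aug : (pull (Y := Y)).obj F ⟶ R.cocomplex.X 0 :=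
  (HomologicalComplex.singleObjXSelf (.up ℕ) 0 ((pull (Y := Y)).obj F)).inv ≫ R.ι.f 0

/-- The predecessor in the augmented resolution. -/
noncomputable def P : ℕ → Sh Y
  | 0 => (pull (Y := Y)).obj F
  | k + 1 => C F k

/-- The differential into a term of the resolution. -/
noncomputable def prev : ∀ k, P F k ⟶ C F k
  | 0 => φ F
  | k + 1 => d F k

lemma prev_d : ∀ k, prev F k ≫ d F k = 0
  | 0 => φ_d F
  | k + 1 => d_d F k

lemma prev_exact : ∀ k, (ShortComplex.mk (prev F k) (d F k) (prev_d F k)).Exact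
  | 0 => φ_exact F
  | k + 1 => C_exact F k

instance injective_X (k : ℕ) : Injective (R.cocomplex.X k) := R.injective k

lemma mono_aug : Mono (aug F R) := inferInstance

lemma aug_d : aug F R ≫ R.cocomplex.d 0 1 = 0 := by
  rw [Category.assoc, R.ι_f_zero_comp_complex_d, comp_zero]

/-- The comparison, with the relation allowing it to be continued. -/
noncomputable def cmpAux : ∀ k, { f : C F k ⟶ R.cocomplex.X k //
    prev F k ≫ f ≫ R.cocomplex.d k (k + 1) = 0 }
  | 0 => ⟨Injective.factorThru (aug F R) (φ F), by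
      change φ F ≫ Injective.factorThru (aug F R) (φ F) ≫ _ = 0
      rw [Injective.comp_factorThru_assoc, aug_d]⟩
  | k + 1 => ⟨(prev_exact F k).descToInjective ((cmpAux k).1 ≫ R.cocomplex.d k (k + 1)) (cmpAux k).2,
      by
        change d F k ≫ _ ≫ _ = 0
        rw [← Category.assoc, (prev_exact F k).comp_descToInjective, Category.assoc,
          R.cocomplex.d_comp_d, comp_zero]⟩

/-- The comparison. -/
noncomputable def cmp (k : ℕ) : C F k ⟶ R.cocomplex.X k := (cmpAux F R k).1

lemma φ_cmp : φ F ≫ cmp F R 0 = aug F R := Injective.comp_factorThru _ _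

lemma d_cmp (k : ℕ) : d F k ≫ cmp F R (k + 1) = cmp F R k ≫ R.cocomplex.d k (k + 1) :=
  (prev_exact F k).comp_descToInjective _ _

/-- The terms of the cone. -/
noncomputable def E : ℕ → Sh Y
  | 0 => C F 0
  | n + 1 => C F (n + 1) ⊞ R.cocomplex.X n

/-- The differentials of the cone. -/
noncomputable def dE : ∀ n, E F R n ⟶ E F R (n + 1)
  | 0 => biprod.lift (d F 0) (cmp F R 0)
  | n + 1 => biprod.lift (biprod.fst ≫ d F (n + 1))
      (biprod.fst ≫ cmp F R (n + 1) - biprod.snd ≫ R.cocomplex.d n (n + 1))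

lemma dE_w : ∀ n, dE F R n ≫ dE F R (n + 1) = 0
  | 0 => by
    apply biprod.hom_ext <;> simp [dE, E, d_d, d_cmp] <;> exact zero_comp.symm
  | n + 1 => by
    apply biprod.hom_ext <;>
      simp [dE, E, d_d, d_cmp, Preadditive.sub_comp, Preadditive.comp_sub] <;>
      exact zero_comp.symm

/-- The sections of a biproduct. -/
lemma biprod_ext {A B : Sh Y} {X : Pt Y} {a b : (A ⊞ B).obj.obj (op X)}
    (h₁ : (biprod.fst : A ⊞ B ⟶ A).hom.app (op X) a = (biprod.fst : A ⊞ B ⟶ A).hom.app (op X) b)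
    (h₂ : (biprod.snd : A ⊞ B ⟶ B).hom.app (op X) a = (biprod.snd : A ⊞ B ⟶ B).hom.app (op X) b) :
    a = b := by
  have key : ∀ c : (A ⊞ B).obj.obj (op X), c =
      (biprod.inl : A ⟶ A ⊞ B).hom.app (op X) ((biprod.fst : A ⊞ B ⟶ A).hom.app (op X) c) +
      (biprod.inr : B ⟶ A ⊞ B).hom.app (op X) ((biprod.snd : A ⊞ B ⟶ B).hom.app (op X) c) := fun c =>
    (ConcreteCategory.congr_hom (congrArg (fun φ : A ⊞ B ⟶ A ⊞ B => φ.hom.app (op X))
      biprod.total) c).symm
  rw [key a, key b, h₁, h₂]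

/-- An element of a biproduct. -/
noncomputable def pair {A B : Sh Y} {X : Pt Y} (a : A.obj.obj (op X)) (b : B.obj.obj (op X)) :
    (A ⊞ B).obj.obj (op X) :=
  (biprod.inl : A ⟶ A ⊞ B).hom.app (op X) a + (biprod.inr : B ⟶ A ⊞ B).hom.app (op X) b

lemma fst_pair {A B : Sh Y} {X : Pt Y} (a : A.obj.obj (op X)) (b : B.obj.obj (op X)) :
    (biprod.fst : A ⊞ B ⟶ A).hom.app (op X) (pair a b) = a := by
  rw [pair, map_add]
  have h₁ := ConcreteCategory.congr_hom (congrArg (fun φ : A ⟶ A => φ.hom.app (op X))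
    (biprod.inl_fst : (biprod.inl : A ⟶ A ⊞ B) ≫ biprod.fst = 𝟙 A)) a
  have h₂ := ConcreteCategory.congr_hom (congrArg (fun φ : B ⟶ A => φ.hom.app (op X))
    (biprod.inr_fst : (biprod.inr : B ⟶ A ⊞ B) ≫ biprod.fst = 0)) b
  exact (congrArg₂ (· + ·) h₁ h₂).trans (add_zero a)

lemma snd_pair {A B : Sh Y} {X : Pt Y} (a : A.obj.obj (op X)) (b : B.obj.obj (op X)) :
    (biprod.snd : A ⊞ B ⟶ B).hom.app (op X) (pair a b) = b := by
  rw [pair, map_add]
  have h₁ := ConcreteCategory.congr_hom (congrArg (fun φ : A ⟶ B => φ.hom.app (op X))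
    (biprod.inl_snd : (biprod.inl : A ⟶ A ⊞ B) ≫ biprod.snd = 0)) a
  have h₂ := ConcreteCategory.congr_hom (congrArg (fun φ : B ⟶ B => φ.hom.app (op X))
    (biprod.inr_snd : (biprod.inr : B ⟶ A ⊞ B) ≫ biprod.snd = 𝟙 B)) b
  exact (congrArg₂ (· + ·) h₁ h₂).trans (zero_add b)

lemma fst_dE_succ (n : ℕ) {X : Pt Y} (x : (E F R (n + 1)).obj.obj (op X)) :
    (biprod.fst : C F (n + 2) ⊞ R.cocomplex.X (n + 1) ⟶ _).hom.app (op X)
      ((dE F R (n + 1)).hom.app (op X) x) =
    (d F (n + 1)).hom.app (op X) ((biprod.fst : C F (n + 1) ⊞ R.cocomplex.X n ⟶ _).hom.app (op X) x) :=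
  ConcreteCategory.congr_hom (congrArg (fun φ : E F R (n + 1) ⟶ C F (n + 2) => φ.hom.app (op X))
    (biprod.lift_fst _ _ : dE F R (n + 1) ≫ biprod.fst = biprod.fst ≫ d F (n + 1))) x

lemma snd_dE_succ (n : ℕ) {X : Pt Y} (x : (E F R (n + 1)).obj.obj (op X)) :
    (biprod.snd : C F (n + 2) ⊞ R.cocomplex.X (n + 1) ⟶ _).hom.app (op X)
      ((dE F R (n + 1)).hom.app (op X) x) =
    (cmp F R (n + 1)).hom.app (op X) ((biprod.fst : C F (n + 1) ⊞ R.cocomplex.X n ⟶ _).hom.app (op X) x) -
    (R.cocomplex.d n (n + 1)).hom.app (op X)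
      ((biprod.snd : C F (n + 1) ⊞ R.cocomplex.X n ⟶ _).hom.app (op X) x) :=
  ConcreteCategory.congr_hom (congrArg
    (fun φ : E F R (n + 1) ⟶ R.cocomplex.X (n + 1) => φ.hom.app (op X))
    (biprod.lift_snd _ _ : dE F R (n + 1) ≫ biprod.snd =
      biprod.fst ≫ cmp F R (n + 1) - biprod.snd ≫ R.cocomplex.d n (n + 1))) x

lemma fst_dE_zero {X : Pt Y} (x : (C F 0).obj.obj (op X)) :
    (biprod.fst : C F 1 ⊞ R.cocomplex.X 0 ⟶ _).hom.app (op X) ((dE F R 0).hom.app (op X) x) =
    (d F 0).hom.app (op X) x :=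
  ConcreteCategory.congr_hom (congrArg (fun φ : C F 0 ⟶ C F 1 => φ.hom.app (op X))
    (biprod.lift_fst _ _ : dE F R 0 ≫ biprod.fst = d F 0)) x

lemma snd_dE_zero {X : Pt Y} (x : (C F 0).obj.obj (op X)) :
    (biprod.snd : C F 1 ⊞ R.cocomplex.X 0 ⟶ _).hom.app (op X) ((dE F R 0).hom.app (op X) x) =
    (cmp F R 0).hom.app (op X) x :=
  ConcreteCategory.congr_hom (congrArg (fun φ : C F 0 ⟶ R.cocomplex.X 0 => φ.hom.app (op X))
    (biprod.lift_snd _ _ : dE F R 0 ≫ biprod.snd = cmp F R 0)) x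

lemma E_flasque : ∀ n, LvlFlasque (E F R n)
  | 0 => lvlFlasque F 0
  | n + 1 => by
    intro p U V h x
    obtain ⟨a, ha⟩ := lvlFlasque F (n + 1) p U V h
      ((biprod.fst : C F (n + 1) ⊞ R.cocomplex.X n ⟶ _).hom.app _ x)
    obtain ⟨b, hb⟩ := lvlFlasque_of_injective (R.cocomplex.X n) p U V h
      ((biprod.snd : C F (n + 1) ⊞ R.cocomplex.X n ⟶ _).hom.app _ x)
    refine ⟨pair a b, biprod_ext ?_ ?_⟩
    · refine (NatTrans.naturality_apply (biprod.fst : C F (n + 1) ⊞ R.cocomplex.X n ⟶ _).hom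
        (vert (Y := Y) h).op (pair a b)).trans ?_
      rw [fst_pair, ha]
    · refine (NatTrans.naturality_apply (biprod.snd : C F (n + 1) ⊞ R.cocomplex.X n ⟶ _).hom
        (vert (Y := Y) h).op (pair a b)).trans ?_
      rw [snd_pair, hb]

/-- Exactness of the sequence of sheaves of the injective resolution, locally on sections. -/
lemma loc_exact {A B D : Sh Y} {f : A ⟶ B} {g : B ⟶ D} (w : f ≫ g = 0)
    (h : (ShortComplex.mk f g w).Exact) {X : Pt Y} (x : B.obj.obj (op X))
    (hx : g.hom.app (op X) x = 0) :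
    Loc (_root_.FibDesc.totPart (Fam Y) (Top Y)) X
      (fun W a => ∃ v, f.hom.app (op W) v = B.obj.map a.op x) := by
  let l := kernel.lift g f w
  haveI : Epi l := h.epi_kernelLift
  have hls : Presheaf.IsLocallySurjective (_root_.FibDesc.totPart (Fam Y) (Top Y)) l.hom :=
    (Sheaf.isLocallySurjective_iff_epi' _ l).2 inferInstance
  let E' : Sh Y ⥤ AddCommGrpCat.{u} :=
    sheafToPresheaf _ _ ⋙ (evaluation _ _).obj (op X)
  haveI : E'.Additive := ⟨fun {_ _ _ _} => rfl⟩
  haveI : PreservesFiniteLimits E' := comp_preservesFiniteLimits _ _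
  obtain ⟨z, hz⟩ := (ShortComplex.ab_exact_iff _).1 ((ShortComplex.exact_of_f_is_kernel
    (ShortComplex.mk (kernel.ι g) g (kernel.condition g)) (kernelIsKernel _)).map_of_mono_of_preservesKernel
      E' inferInstance inferInstance) x hx
  refine (loc_of_mem (Presheaf.imageSieve_mem _ l.hom z)).mono fun W a ha => ?_
  obtain ⟨v, hv⟩ := ha
  refine ⟨v, ?_⟩
  refine (ConcreteCategory.congr_hom (congrArg (fun ψ : A ⟶ B => ψ.hom.app (op W))
    (kernel.lift_ι g f w)) v).symm.trans ?_
  refine (congrArg ((kernel.ι g).hom.app (op W)) hv).trans ?_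
  refine (NatTrans.naturality_apply (kernel.ι g).hom a.op z).trans ?_
  exact congrArg _ hz

lemma aug_exact : (ShortComplex.mk (aug F R) (R.cocomplex.d 0 1) (aug_d F R)).Exact := by
  have h := R.exact₀
  let e : ShortComplex.mk _ _ R.ι_f_zero_comp_complex_d ≅
      ShortComplex.mk (aug F R) (R.cocomplex.d 0 1) (aug_d F R) :=
    ShortComplex.isoMk (HomologicalComplex.singleObjXSelf (.up ℕ) 0 _) (Iso.refl _) (Iso.refl _)
      (by simp [aug]) (by simp)
  exact ShortComplex.exact_of_iso e h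

lemma cone_exact : ∀ n, (ShortComplex.mk (dE F R n) (dE F R (n + 1)) (dE_w F R n)).Exact := by
  intro n
  refine exact_of_locally _ fun X x hx => ?_
  let c := (biprod.fst : C F (n + 1) ⊞ R.cocomplex.X n ⟶ _).hom.app (op X) x
  let i := (biprod.snd : C F (n + 1) ⊞ R.cocomplex.X n ⟶ _).hom.app (op X) x
  have hc : (d F (n + 1)).hom.app (op X) c = 0 := by
    rw [← fst_dE_succ F R n x]
    exact (congrArg _ hx).trans (map_zero _)
  have hci : (cmp F R (n + 1)).hom.app (op X) c = (R.cocomplex.d n (n + 1)).hom.app (op X) i := by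
    have := ((snd_dE_succ F R n x).symm.trans (congrArg _ hx)).trans (map_zero _)
    exact sub_eq_zero.1 this
  refine Loc.bind (loc_exact (d_d F n) (C_exact F n) c hc) fun W a ha => ?_
  obtain ⟨c₀, hc₀⟩ := ha
  let j := (cmp F R n).hom.app (op W) c₀ - (R.cocomplex.X n).obj.map a.op i
  have hj : (R.cocomplex.d n (n + 1)).hom.app (op W) j = 0 := by
    rw [map_sub, sub_eq_zero]
    refine (ConcreteCategory.congr_hom (congrArg (fun ψ : C F n ⟶ _ => ψ.hom.app (op W))
      (d_cmp F R n)) c₀).symm.trans ?_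
    refine (congrArg ((cmp F R (n + 1)).hom.app (op W)) hc₀).trans ?_
    refine (NatTrans.naturality_apply (cmp F R (n + 1)).hom a.op c).trans ?_
    rw [hci]
    exact (NatTrans.naturality_apply (R.cocomplex.d n (n + 1)).hom a.op i).symm
  cases n with
  | zero =>
    refine (loc_exact (aug_d F R) (aug_exact F R) j hj).mono fun W' b hb => ?_
    obtain ⟨v, hv⟩ := hb
    refine ⟨(C F 0).obj.map b.op c₀ - (φ F).hom.app (op W') v, biprod_ext ?_ ?_⟩
    · refine (fst_dE_zero F R _).trans ?_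
      rw [map_sub]
      refine Eq.trans ?_ (NatTrans.naturality_apply (biprod.fst : C F 1 ⊞ R.cocomplex.X 0 ⟶ _).hom
        (b ≫ a).op x).symm
      have e : (d F 0).hom.app (op W') ((φ F).hom.app (op W') v) = 0 :=
        ConcreteCategory.congr_hom (congrArg (fun ψ : _ ⟶ C F 1 => ψ.hom.app (op W')) (φ_d F)) v
      rw [e, sub_zero]
      refine (NatTrans.naturality_apply (d F 0).hom b.op c₀).trans ?_
      rw [hc₀]
      exact (ConcreteCategory.congr_hom ((C F 1).obj.map_comp a.op b.op) c).symm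
    · refine (snd_dE_zero F R _).trans ?_
      rw [map_sub]
      refine Eq.trans ?_ (NatTrans.naturality_apply (biprod.snd : C F 1 ⊞ R.cocomplex.X 0 ⟶ _).hom
        (b ≫ a).op x).symm
      have e : (cmp F R 0).hom.app (op W') ((φ F).hom.app (op W') v) = (aug F R).hom.app (op W') v :=
        ConcreteCategory.congr_hom (congrArg
          (fun ψ : _ ⟶ R.cocomplex.X 0 => ψ.hom.app (op W')) (φ_cmp F R)) v
      rw [e, hv]
      rw [map_sub]
      refine (sub_eq_iff_eq_add).2 ?_
      rw [add_sub_left_comm]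
      refine (NatTrans.naturality_apply (cmp F R 0).hom b.op c₀).trans ?_
      rw [eq_comm, add_eq_left, sub_eq_zero]
      exact ConcreteCategory.congr_hom ((R.cocomplex.X 0).obj.map_comp a.op b.op) i
  | succ m =>
    refine (loc_exact (R.cocomplex.d_comp_d m (m + 1) (m + 2))
      ((R.exact_succ m)) j hj).mono fun W' b hb => ?_
    obtain ⟨v, hv⟩ := hb
    refine ⟨pair ((C F (m + 1)).obj.map b.op c₀) v, biprod_ext ?_ ?_⟩
    · refine (fst_dE_succ F R m _).trans ?_
      rw [fst_pair]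
      refine Eq.trans ?_ (NatTrans.naturality_apply
        (biprod.fst : C F (m + 2) ⊞ R.cocomplex.X (m + 1) ⟶ _).hom (b ≫ a).op x).symm
      refine (NatTrans.naturality_apply (d F (m + 1)).hom b.op c₀).trans ?_
      rw [hc₀]
      exact (ConcreteCategory.congr_hom ((C F (m + 2)).obj.map_comp a.op b.op) c).symm
    · refine (snd_dE_succ F R m _).trans ?_
      rw [fst_pair, snd_pair]
      refine Eq.trans ?_ (NatTrans.naturality_apply
        (biprod.snd : C F (m + 2) ⊞ R.cocomplex.X (m + 1) ⟶ _).hom (b ≫ a).op x).symm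
      rw [hv, map_sub]
      refine (sub_eq_iff_eq_add).2 ?_
      rw [add_sub_left_comm]
      refine (NatTrans.naturality_apply (cmp F R (m + 1)).hom b.op c₀).trans ?_
      rw [eq_comm, add_eq_left, sub_eq_zero]
      exact ConcreteCategory.congr_hom ((R.cocomplex.X (m + 1)).obj.map_comp a.op b.op) i

instance mono_dE_zero : Mono (dE F R 0) := by
  refine Preadditive.mono_of_cancel_zero _ fun {G} g hg => ?_
  have h₁ : g ≫ d F 0 = 0 := by
    have := congrArg (· ≫ (biprod.fst : C F 1 ⊞ R.cocomplex.X 0 ⟶ _)) hg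
    exact (Category.assoc _ _ _ |>.trans (congrArg (g ≫ ·) (biprod.lift_fst _ _))).symm.trans
      (this.trans zero_comp)
  have h₂ : g ≫ cmp F R 0 = 0 := by
    have := congrArg (· ≫ (biprod.snd : C F 1 ⊞ R.cocomplex.X 0 ⟶ _)) hg
    exact (Category.assoc _ _ _ |>.trans (congrArg (g ≫ ·) (biprod.lift_snd _ _))).symm.trans
      (this.trans zero_comp)
  haveI : Mono (ShortComplex.mk (φ F) (d F 0) (φ_d F)).f := mono_φ F
  let l := (φ_exact F).lift g h₁
  have hl : l ≫ φ F = g := (φ_exact F).lift_f g h₁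
  have : l = 0 := (cancel_mono (aug F R)).1 (((congrArg (l ≫ ·) (φ_cmp F R).symm).trans
    ((Category.assoc _ _ _).symm.trans ((congrArg (· ≫ cmp F R 0) hl).trans h₂))).trans zero_comp.symm)
  exact hl.symm.trans ((congrArg (· ≫ φ F) this).trans zero_comp)

/-- The sections of the cone are exact. -/
theorem cone_sections (n : ℕ) {X : Pt Y} (x : (E F R (n + 1)).obj.obj (op X))
    (hx : (dE F R (n + 1)).hom.app (op X) x = 0) :
    ∃ y, (dE F R n).hom.app (op X) y = x :=
  chain_sections_exact (E F R) (dE F R) (dE_w F R) (cone_exact F R) (E_flasque F R)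
    (mono_dE_zero F R) n X x hx

variable {X : Pt Y}

theorem col_inj_zero (c : (C F 0).obj.obj (op X)) (h : (d F 0).hom.app (op X) c = 0)
    (h' : (cmp F R 0).hom.app (op X) c = 0) : c = 0 := by
  have hm : Mono ((sheafToPresheaf _ _).map (dE F R 0)) := inferInstance
  have hinj := (AddCommGrpCat.mono_iff_injective _).1
    ((inferInstance : Mono (((sheafToPresheaf _ _).map (dE F R 0)).app (op X))))
  refine hinj (Eq.trans ?_ (map_zero _).symm)
  refine biprod_ext ?_ ?_
  · exact (fst_dE_zero F R c).trans (h.trans (map_zero _).symm)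
  · exact (snd_dE_zero F R c).trans (h'.trans (map_zero _).symm)

theorem col_inj (q : ℕ) (c : (C F (q + 1)).obj.obj (op X))
    (h : (d F (q + 1)).hom.app (op X) c = 0) (y : (R.cocomplex.X q).obj.obj (op X))
    (h' : (R.cocomplex.d q (q + 1)).hom.app (op X) y = (cmp F R (q + 1)).hom.app (op X) c) :
    ∃ b, (d F q).hom.app (op X) b = c := by
  obtain ⟨e, he⟩ := cone_sections F R q (pair c y) (biprod_ext (by
      rw [fst_dE_succ, fst_pair, h]; exact (map_zero _).symm) (by
      rw [snd_dE_succ, fst_pair, snd_pair, h', sub_self]; exact (map_zero _).symm))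
  have := congrArg ((biprod.fst : C F (q + 1) ⊞ R.cocomplex.X q ⟶ _).hom.app (op X)) he
  rw [fst_pair] at this
  cases q with
  | zero => exact ⟨e, (fst_dE_zero F R e).symm.trans this⟩
  | succ m => exact ⟨_, (fst_dE_succ F R m e).symm.trans this⟩

theorem col_surj_zero (x' : (R.cocomplex.X 0).obj.obj (op X))
    (h : (R.cocomplex.d 0 1).hom.app (op X) x' = 0) :
    ∃ c, (d F 0).hom.app (op X) c = 0 ∧ (cmp F R 0).hom.app (op X) c = x' := by
  obtain ⟨e, he⟩ := cone_sections F R 0 (pair (0 : (C F 1).obj.obj (op X)) x') (biprod_ext (by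
      rw [fst_dE_succ, fst_pair, map_zero]; exact (map_zero _).symm) (by
      rw [snd_dE_succ, fst_pair, snd_pair, h, map_zero, sub_zero]; exact (map_zero _).symm))
  refine ⟨e, ?_, ?_⟩
  · rw [← fst_dE_zero F R e, he, fst_pair]
  · rw [← snd_dE_zero F R e, he, snd_pair]

theorem col_surj (q : ℕ) (x' : (R.cocomplex.X (q + 1)).obj.obj (op X))
    (h : (R.cocomplex.d (q + 1) (q + 2)).hom.app (op X) x' = 0) :
    ∃ c y, (d F (q + 1)).hom.app (op X) c = 0 ∧
      (cmp F R (q + 1)).hom.app (op X) c = x' + (R.cocomplex.d q (q + 1)).hom.app (op X) y := by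
  obtain ⟨e, he⟩ := cone_sections F R (q + 1) (pair (0 : (C F (q + 2)).obj.obj (op X)) x')
    (biprod_ext (by rw [fst_dE_succ, fst_pair, map_zero]; exact (map_zero _).symm) (by
      rw [snd_dE_succ, fst_pair, snd_pair, h, map_zero, sub_zero]; exact (map_zero _).symm))
  refine ⟨(biprod.fst : C F (q + 1) ⊞ R.cocomplex.X q ⟶ _).hom.app (op X) e,
    (biprod.snd : C F (q + 1) ⊞ R.cocomplex.X q ⟶ _).hom.app (op X) e, ?_, ?_⟩
  · rw [← fst_dE_succ F R q e, he, fst_pair]
  · rw [← sub_eq_iff_eq_add, ← snd_dE_succ F R q e, he, snd_pair]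

end Resolution

end Groth.Agent.Lib.FibDesc.Cone
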