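import Groth.Agent.Lib.FibDesc.Criterion
import Groth.Agent.Lib.FibDesc.Acyclic
import Mathlib.Algebra.Homology.DerivedCategory.Ext.Map
import Mathlib.Algebra.Homology.DerivedCategory.Ext.EnoughInjectives
import Mathlib.CategoryTheory.Abelian.Injective.Ext
import Mathlib.CategoryTheory.Adjunction.FullyFaithful

/-!
# The converse of the criterion for full faithfulness on `D⁺`

If an exact left adjoint `P` is fully faithful on bounded below objects of the derived categories,
the unit is an isomorphism and every `P X` is acyclic for the right adjoint.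
-/

set_option autoImplicit false
set_option linter.unusedSectionVars false
set_option linter.style.haveILetI false

universe w w' v v' u u'

open CategoryTheory Limits Abelian

namespace Groth.Agent.Lib.FibDesc.Converse

open Groth.Agent.Lib.DerCat

variable {C : Type u} [Category.{v} C] [Abelian C] [HasDerivedCategory.{w} C]
  {D : Type u'} [Category.{v'} D] [Abelian D] [HasDerivedCategory.{w'} D]
  (P : C ⥤ D) [P.Additive] [PreservesFiniteLimits P] [PreservesFiniteColimits P]

variable (h : ∀ K L : DerivedCategory.Plus C,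
  Function.Bijective fun g : K.obj ⟶ L.obj => P.mapDerivedCategory.map g)

include h in
/-- The map on extensions is bijective. -/
theorem bijective_mapExt (X Y : C) (n : ℕ) :
    letI := HasExt.standard C
    letI := HasExt.standard D
    Function.Bijective
      (fun e : Ext.{max u v} X Y n => (e.mapExactFunctor P : Ext.{max u' v'} (P.obj X) (P.obj Y) n)) := by
  letI := HasExt.standard C
  letI := HasExt.standard D
  let M := P.mapDerivedCategory
  let s := DerivedCategory.singleFunctor C 0
  let L : DerivedCategory.Plus C := ⟨(s.obj Y)⟦(n : ℤ)⟧,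
    ObjectProperty.le_shift (DerivedCategory.TStructure.t (C := C)).plus (n : ℤ) _
      ⟨0, inferInstance⟩⟩
  let K : DerivedCategory.Plus C := ⟨s.obj X, ⟨0, inferInstance⟩⟩
  let γ : (s.obj X ⟶ (s.obj Y)⟦(n : ℤ)⟧) → (_ ⟶ _) := fun g =>
    (P.mapDerivedCategorySingleFunctor 0).inv.app X ≫ ShiftedHom.map g M ≫
      ((P.mapDerivedCategorySingleFunctor 0).hom.app Y)⟦(n : ℤ)⟧'
  have hγ : Function.Bijective γ := by
    have e : γ = (Iso.homCongr ((P.mapDerivedCategorySingleFunctor 0).app X)
        ((M.commShiftIso (n : ℤ)).app (s.obj Y) ≪≫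
          (shiftFunctor _ (n : ℤ)).mapIso ((P.mapDerivedCategorySingleFunctor 0).app Y))) ∘
        (fun g => M.map g) := by
      funext g
      simp [γ, ShiftedHom.map, Iso.homCongr, M, s]
    rw [e]
    exact (Equiv.bijective _).comp (h K L)
  have e : (fun e : Ext.{max u v} X Y n => (e.mapExactFunctor P : Ext.{max u' v'} (P.obj X) (P.obj Y) n)) =
      Ext.homEquiv.{w', max u' v'}.symm ∘ γ ∘ Ext.homEquiv.{w, max u v} := by
    funext e
    refine (Ext.homEquiv.{w', max u' v'}).eq_symm_apply.2 ?_
    exact Ext.mapExactFunctor_hom P e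
  rw [e]
  exact (Equiv.bijective _).comp (hγ.comp (Equiv.bijective _))

variable {P} {Q : D ⥤ C} (adj : P ⊣ Q)

include h adj in
/-- The unit is an isomorphism. -/
theorem isIso_unit : IsIso adj.unit := by
  letI := HasExt.standard C
  letI := HasExt.standard D
  have hb : ∀ X Y : C, Function.Bijective (fun f : X ⟶ Y => P.map f) := fun X Y => by
    have h0 := bijective_mapExt P h X Y 0
    refine ⟨fun f g e => (Ext.mk₀_bijective X Y).1 (h0.1 ?_), fun k => ?_⟩
    · change (Ext.mk₀ f).mapExactFunctor P = (Ext.mk₀ g).mapExactFunctor P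
      rw [Ext.mapExactFunctor_mk₀, Ext.mapExactFunctor_mk₀]
      exact congrArg _ e
    · obtain ⟨a, ha⟩ := h0.2 (Ext.mk₀ k)
      obtain ⟨f, rfl⟩ := (Ext.mk₀_bijective X Y).2 a
      refine ⟨f, (Ext.mk₀_bijective _ _).1 ?_⟩
      change (Ext.mk₀ f).mapExactFunctor P = Ext.mk₀ k at ha
      rwa [Ext.mapExactFunctor_mk₀] at ha
  haveI : P.Faithful := ⟨fun e => (hb _ _).1 e⟩
  haveI : P.Full := ⟨fun k => (hb _ _).2 k⟩
  infer_instance

variable [EnoughInjectives C] [EnoughInjectives D] [Q.Additive]

include h adj in
/-- Images of injectives are acyclic. -/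
theorem isZero_rightDerived_injective (I : C) [Injective I] (n : ℕ) :
    IsZero ((Q.rightDerived (n + 1)).obj (P.obj I)) := by
  letI := HasExt.standard C
  letI := HasExt.standard D
  let R := InjectiveResolution.of (P.obj I)
  refine IsZero.of_iso ?_ (R.isoRightDerivedObj Q (n + 1))
  refine (HomologicalComplex.exactAt_iff_isZero_homology _ _).1 ?_
  rw [HomologicalComplex.exactAt_iff' _ n (n + 1) (n + 1 + 1) (by simp) (by simp)]
  let d₀ := Q.map (R.cocomplex.d n (n + 1))
  let d₁ := Q.map (R.cocomplex.d (n + 1) (n + 1 + 1))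
  have w : d₀ ≫ d₁ = 0 := by
    rw [← Functor.map_comp, R.cocomplex.d_comp_d, Functor.map_zero]
  suffices (ShortComplex.mk d₀ d₁ w).Exact from this
  let f := (adj.homEquiv (kernel d₁) _).symm (kernel.ι d₁)
  have hf : f ≫ R.cocomplex.d (n + 1) (n + 1 + 1) = 0 := by
    refine (adj.homEquiv (kernel d₁) _).injective ?_
    rw [Adjunction.homEquiv_naturality_right, Equiv.apply_symm_apply, kernel.condition,
      Adjunction.homEquiv_unit, Functor.map_zero, comp_zero]
  have hz : R.extMk f (n + 1 + 1) rfl hf = 0 := by
    obtain ⟨e, he⟩ := (bijective_mapExt P h (kernel d₁) I (n + 1)).2 (R.extMk f (n + 1 + 1) rfl hf)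
    rw [Ext.eq_zero_of_injective e] at he
    exact he.symm.trans (Ext.mapExactFunctor_zero P _ _ _)
  obtain ⟨g, hg⟩ := (R.extMk_eq_zero_iff f (n + 1 + 1) rfl hf n rfl).1 hz
  let g' := adj.homEquiv (kernel d₁) _ g
  have hg' : g' ≫ d₀ = kernel.ι d₁ := by
    rw [← Adjunction.homEquiv_naturality_right, hg, Equiv.apply_symm_apply]
  haveI : IsSplitEpi (kernel.lift d₁ d₀ w) := IsSplitEpi.mk' ⟨g', by
    rw [← cancel_mono (kernel.ι d₁), Category.assoc, kernel.lift_ι, hg', Category.id_comp]⟩
  exact (ShortComplex.mk d₀ d₁ w).exact_iff_epi_kernel_lift.2 inferInstance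

include h adj in
/-- All images are acyclic. -/
theorem acyc : ∀ X, RFAcyclic.Acyc Q (P.obj X) := by
  haveI : Q.IsRightAdjoint := adj.isRightAdjoint
  haveI : PreservesFiniteLimits Q := by
    have := adj.rightAdjoint_preservesLimits
    exact PreservesLimitsOfSize.preservesFiniteLimits.{0, 0} Q
  haveI := isIso_unit h adj
  suffices ∀ (i : ℕ) (X : C), IsZero ((Q.rightDerived (i + 1)).obj (P.obj X)) by
    intro X i hi
    obtain ⟨j, rfl⟩ : ∃ j, i = j + 1 := ⟨i - 1, by lia⟩
    exact this j X
  intro i
  induction i with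
  | zero =>
    intro X
    let S := ShortComplex.mk (Injective.ι X) (cokernel.π (Injective.ι X)) (cokernel.condition _)
    have hS : S.ShortExact :=
      { exact := ShortComplex.exact_cokernel _ }
    obtain ⟨e⟩ := CohDelta.RAcyc.nonempty_one_iso Q (hS.map_of_exact P)
      (isZero_rightDerived_injective h adj (Injective.under X) 0)
    haveI : Epi (Q.map (P.map (cokernel.π (Injective.ι X)))) := by
      have e' := adj.unit.naturality (cokernel.π (Injective.ι X))
      simp only [Functor.id_map, Functor.comp_map] at e'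
      have : Epi (adj.unit.app (Injective.under X) ≫ Q.map (P.map (cokernel.π (Injective.ι X)))) := by
        rw [← e']
        infer_instance
      exact (epi_comp_iff_of_epi _ _).1 this
    haveI : Epi (Q.map (S.map P).g) := ‹_›
    exact (isZero_cokernel_of_epi _).of_iso e
  | succ i ih =>
    intro X
    let S := ShortComplex.mk (Injective.ι X) (cokernel.π (Injective.ι X)) (cokernel.condition _)
    have hS : S.ShortExact :=
      { exact := ShortComplex.exact_cokernel _ }
    obtain ⟨e⟩ := CohDelta.RAcyc.nonempty_shift_iso Q (hS.map_of_exact P)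
      (isZero_rightDerived_injective h adj (Injective.under X)) i
    exact (ih _).of_iso e.symm

end Groth.Agent.Lib.FibDesc.Converse
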