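import Groth.Agent.Lib.DerCat.RFAcyclic
import Groth.Agent.Lib.DerivedAdj.Exact
import Mathlib.Algebra.Homology.DerivedCategory.KInjective
import Mathlib.Algebra.Homology.DerivedCategory.Plus
import Mathlib.Algebra.Homology.DerivedCategory.ExactFunctor
import Mathlib.CategoryTheory.Preadditive.Injective.Preserves

/-!
# Full faithfulness on `D⁺` of an exact left adjoint

If `P ⊣ Q`, `P` exact, the unit is an isomorphism and every `P X` is `Q`-acyclic, then the functor
induced by `P` is fully faithful on bounded below objects.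
-/

set_option autoImplicit false
set_option linter.unusedSectionVars false
set_option linter.style.haveILetI false

universe w w' v v' u u'

open CategoryTheory Limits

namespace Groth.Agent.Lib.FibDesc.Criterion

open Groth.Agent.Lib.DerCat

section Aux

/-- An isomorphism from a proof. -/
noncomputable def asIso' {A : Type*} [Category A] {X Y : A} (f : X ⟶ Y) (h : IsIso f) : X ≅ Y :=
  @asIso _ _ _ _ f h

variable {C : Type u} [Category.{v} C] [Abelian C]

theorem isIso_of_isIso_Qh {X Y : CochainComplex C ℤ} [X.IsKInjective] [Y.IsKInjective] (f : X ⟶ Y)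
    [QuasiIso f] : IsIso ((HomotopyCategory.quotient C (.up ℤ)).map f) := by
  have h := (CochainComplex.IsKInjective.quasiIso_iff f).1 inferInstance
  rw [← HomotopyCategory.inverseImage_quotient_isomorphisms] at h
  exact h
theorem surjective_Q_map {A : Type*} [Category A] [Abelian A] [HasDerivedCategory A]
    (X Y : CochainComplex A ℤ) [Y.IsKInjective] :
    Function.Surjective fun f : X ⟶ Y => DerivedCategory.Q.map f := by
  intro g
  obtain ⟨h, hh⟩ := (CochainComplex.IsKInjective.Qh_map_bijective
    ((HomotopyCategory.quotient A (.up ℤ)).obj X) Y).2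
    ((DerivedCategory.quotientCompQhIso A).hom.app X ≫ g ≫
      (DerivedCategory.quotientCompQhIso A).inv.app Y)
  obtain ⟨f, rfl⟩ := (HomotopyCategory.quotient A (.up ℤ)).map_surjective h
  refine ⟨f, ?_⟩
  refine (cancel_epi ((DerivedCategory.quotientCompQhIso A).hom.app X)).1 ?_
  refine ((DerivedCategory.quotientCompQhIso A).hom.naturality f).symm.trans ?_
  refine (congrArg (· ≫ _) hh).trans ?_
  simp
theorem Q_map_eq_iff {A : Type*} [Category A] [Abelian A] [HasDerivedCategory A]
    {X L : CochainComplex A ℤ} [L.IsKInjective] (f g : X ⟶ L) :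
    DerivedCategory.Q.map f = DerivedCategory.Q.map g ↔
      (HomotopyCategory.quotient A (.up ℤ)).map f = (HomotopyCategory.quotient A (.up ℤ)).map g := by
  have n := fun t : X ⟶ L => (DerivedCategory.quotientCompQhIso A).hom.naturality t
  constructor
  · intro e
    refine (CochainComplex.IsKInjective.Qh_map_bijective _ L).1 ?_
    refine (cancel_mono ((DerivedCategory.quotientCompQhIso A).hom.app L)).1 ?_
    exact (n f).trans ((congrArg (_ ≫ ·) e).trans (n g).symm)
  · intro e
    refine (cancel_epi ((DerivedCategory.quotientCompQhIso A).hom.app X)).1 ?_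
    refine (n f).symm.trans (Eq.trans ?_ (n g))
    exact congrArg (fun t => DerivedCategory.Qh.map t ≫ _) e


end Aux

variable {C : Type u} [Category.{v} C] [Abelian C] [EnoughInjectives C] [HasDerivedCategory.{w} C]
  {D : Type u'} [Category.{v'} D] [Abelian D] [EnoughInjectives D] [HasDerivedCategory.{w'} D]
  {P : C ⥤ D} {Q : D ⥤ C} (adj : P ⊣ Q) [P.Additive] [Q.Additive]
  [PreservesFiniteLimits P] [PreservesFiniteColimits P]

/-- The criterion. -/
theorem bijective_map (hunit : ∀ X, IsIso (adj.unit.app X))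
    (hacyc : ∀ X, RFAcyclic.Acyc Q (P.obj X)) (K L : DerivedCategory.Plus C) :
    Function.Bijective fun g : K.obj ⟶ L.obj => P.mapDerivedCategory.map g := by
  haveI : Q.IsRightAdjoint := adj.isRightAdjoint
  haveI : PreservesFiniteLimits Q := by
    have := adj.rightAdjoint_preservesLimits
    exact PreservesLimitsOfSize.preservesFiniteLimits.{0, 0} Q
  haveI : Q.PreservesInjectiveObjects := Functor.preservesInjectiveObjects_of_adjunction_of_preservesMonomorphisms adj
  obtain ⟨n, hn⟩ := L.property
  haveI : L.obj.IsGE n := hn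
  obtain ⟨L₀, hL₀, ⟨eL⟩⟩ := L.obj.exists_iso_Q_obj_of_isGE n
  obtain ⟨I, i, hqi, hI, hI'⟩ :=
    CochainComplex.Plus.modelCategoryQuillen.exists_quasiIso_injective L₀ n
  obtain ⟨J, j, hqj, hJ, hJ'⟩ :=
    CochainComplex.Plus.modelCategoryQuillen.exists_quasiIso_injective
      ((P.mapHomologicalComplex (.up ℤ)).obj I) n
  haveI : I.IsKInjective := CochainComplex.isKInjective_of_injective I n
  haveI : J.IsKInjective := CochainComplex.isKInjective_of_injective J n
  let QJ : CochainComplex C ℤ := (Q.mapHomologicalComplex (.up ℤ)).obj J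
  haveI : ∀ k, Injective (QJ.X k) := fun k => haveI := hJ k; Q.injective_obj (J.X k)
  haveI : QJ.IsKInjective := CochainComplex.isKInjective_of_injective QJ n
  -- the comparison is a quasi-isomorphism
  haveI hQj : QuasiIso ((Q.mapHomologicalComplex (.up ℤ)).map j) := by
    have := CochainComplex.isStrictlyGE_mappingCone j n n (n - 1)
    refine (RFAcyclic.quasiIso_iff_acyclic_mappingCone _).2 fun k => ?_
    refine HomologicalComplex.ExactAt.of_iso ?_
      (CochainComplex.mappingCone.mapHomologicalComplexIso j Q)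
    exact RFAcyclic.exactAt_map_of_acyclic Q _ (n - 1)
      ((RFAcyclic.quasiIso_iff_acyclic_mappingCone j).1 hqj)
      (fun m => RFAcyclic.acyc_of_iso Q
        (HomologicalComplex.homotopyCofiber.XIsoBiprod j m (m + 1) rfl).symm
        (RFAcyclic.acyc_biprod Q (hacyc (I.X (m + 1)))
          (have := hJ m; RFAcyclic.acyc_injective Q (J.X m)))) k
  let η := (Lib.DerivedAdj.Exact.adjCx adj).unit.app I
  haveI : ∀ m, IsIso (η.f m) := fun m => hunit (I.X m)
  haveI : IsIso η := HomologicalComplex.Hom.isIso_of_components η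
  let lam : I ⟶ QJ := η ≫ (Q.mapHomologicalComplex (.up ℤ)).map j
  haveI : QuasiIso lam := by
    haveI : QuasiIso η := inferInstance
    exact quasiIso_comp η _
  haveI : IsIso ((HomotopyCategory.quotient C (.up ℤ)).map lam) :=
    isIso_of_isIso_Qh lam
  -- reduce to complexes
  let eK := DerivedCategory.Q.objObjPreimageIso K.obj
  let K₀ := DerivedCategory.Q.objPreimage K.obj
  let eI : L.obj ≅ DerivedCategory.Q.obj I := eL ≪≫ asIso (DerivedCategory.Q.map i)
  let M := P.mapDerivedCategory
  suffices h : Function.Bijective fun g : DerivedCategory.Q.obj K₀ ⟶ DerivedCategory.Q.obj I =>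
      M.map g by
    have e : (fun g : K.obj ⟶ L.obj => M.map g) =
        (M.mapIso eK).homCongr (M.mapIso eI.symm) ∘ (fun g => M.map g) ∘
          (eK.symm.homCongr eI) := by
      funext g
      simp [Iso.homCongr, ← Functor.map_comp]
    rw [e]
    exact (Equiv.bijective _).comp (h.comp (Equiv.bijective _))
  -- the source and target as homotopy classes
  let q := HomotopyCategory.quotient C (.up ℤ)
  let q' := HomotopyCategory.quotient D (.up ℤ)
  let Φ := P.mapHomologicalComplex (.up ℤ)
  have hlam : IsIso (q.map lam) := isIso_of_isIso_Qh lam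
  let a : (K₀ ⟶ I) → (DerivedCategory.Q.obj K₀ ⟶ DerivedCategory.Q.obj I) :=
    fun f => DerivedCategory.Q.map f
  have ha : Function.Surjective a := surjective_Q_map K₀ I
  let e₁ := (Iso.homCongr (P.mapDerivedCategoryFactors.app K₀) (P.mapDerivedCategoryFactors.app I))
  let e₂ := Iso.homCongr (Iso.refl (DerivedCategory.Q.obj (Φ.obj K₀)))
    (asIso (DerivedCategory.Q.map j))
  have key : ∀ f : K₀ ⟶ I, e₂ (e₁ (M.map (a f))) = DerivedCategory.Q.map (Φ.map f ≫ j) := by
    intro f
    have := P.mapDerivedCategoryFactors.hom.naturality f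
    simp only [e₁, e₂, a, M, Iso.homCongr_apply, Iso.app_hom, Iso.app_inv, Iso.refl_inv,
      Category.id_comp, asIso_hom, Functor.map_comp]
    rw [← Category.assoc]
    refine congrArg (· ≫ DerivedCategory.Q.map j) ?_
    refine (Category.assoc _ _ _).trans ((congrArg (P.mapDerivedCategoryFactors.inv.app K₀ ≫ ·) this).trans ?_)
    exact P.mapDerivedCategoryFactors.inv_hom_id_app_assoc K₀ _
  have hkey : ∀ f g : K₀ ⟶ I,
      DerivedCategory.Q.map (Φ.map f ≫ j) = DerivedCategory.Q.map (Φ.map g ≫ j) ↔
        q.map f = q.map g := by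
    intro f g
    rw [Q_map_eq_iff (L := J)]
    let A := Lib.DerivedAdj.Exact.adjK adj
    have h1 : ∀ h : K₀ ⟶ I, A.homEquiv (q.obj K₀) (q'.obj J) (q'.map (Φ.map h ≫ j)) =
        q.map h ≫ q.map lam := by
      intro h
      have e' : (Lib.DerivedAdj.Exact.adjCx adj).unit.app K₀ ≫
          (Q.mapHomologicalComplex (.up ℤ)).map (Φ.map h ≫ j) = h ≫ lam := by
        rw [Functor.map_comp, ← Category.assoc]
        exact (congrArg (· ≫ _) ((Lib.DerivedAdj.Exact.adjCx adj).unit_naturality h)).trans
          (Category.assoc _ _ _)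
      rw [Adjunction.homEquiv_unit, ← q.map_comp, ← e', q.map_comp]
      rfl
    constructor
    · intro e
      have := congrArg (A.homEquiv (q.obj K₀) (q'.obj J)) e
      erw [h1, h1] at this
      exact (cancel_mono (q.map lam)).1 this
    · intro e
      refine (A.homEquiv (q.obj K₀) (q'.obj J)).injective ?_
      erw [h1, h1, e]
  refine ⟨fun x y e => ?_, fun y => ?_⟩
  · obtain ⟨f, rfl⟩ := ha x
    obtain ⟨g, rfl⟩ := ha y
    have := congrArg (fun t => e₂ (e₁ t)) e
    rw [key, key, hkey] at this
    exact (Q_map_eq_iff f g).2 this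
  · let A := Lib.DerivedAdj.Exact.adjK adj
    obtain ⟨h, hh⟩ := surjective_Q_map (Φ.obj K₀) J (e₂ (e₁ y))
    obtain ⟨f, hf⟩ := q.map_surjective
      (A.homEquiv (q.obj K₀) (q'.obj J) (q'.map h) ≫ (asIso' (q.map lam) hlam).inv)
    refine ⟨a f, e₁.injective (e₂.injective ?_)⟩
    rw [key, ← hh, Q_map_eq_iff (L := J)]
    refine (A.homEquiv (q.obj K₀) (q'.obj J)).injective ?_
    have e' : (Lib.DerivedAdj.Exact.adjCx adj).unit.app K₀ ≫
        (Q.mapHomologicalComplex (.up ℤ)).map (Φ.map f ≫ j) = f ≫ lam := by
      rw [Functor.map_comp, ← Category.assoc]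
      exact (congrArg (· ≫ _) ((Lib.DerivedAdj.Exact.adjCx adj).unit_naturality f)).trans
        (Category.assoc _ _ _)
    have h2 : A.homEquiv (q.obj K₀) (q'.obj J) (q'.map (Φ.map f ≫ j)) = q.map f ≫ q.map lam := by
      rw [Adjunction.homEquiv_unit, ← q.map_comp, ← e', q.map_comp]
      rfl
    refine h2.trans ?_
    rw [hf, Category.assoc]
    exact (congrArg (_ ≫ ·) (asIso' (q.map lam) hlam).inv_hom_id).trans (Category.comp_id _)

end Groth.Agent.Lib.FibDesc.Criterion
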