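import Groth.Agent.Lib.FibDesc.Site
import Groth.Agent.Lib.SiteCoh.LocExact
import Mathlib.CategoryTheory.Sites.Pullback
import Mathlib.CategoryTheory.Functor.Flat
import Mathlib.CategoryTheory.Sites.LocallyBijective

/-!
# The inverse image `θ̄^*`: exactness and local generation
-/

set_option autoImplicit false

universe u

open CategoryTheory Limits Opposite TopologicalSpace Pseudofunctor.CoGrothendieck Simplicial

namespace Groth.Agent.Lib.FibDesc.Gen

open Site Groth.Agent.FibSiteLib

variable {Y : AugSp.{u}}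

/-- Exactness of a short complex of sheaves from local liftings. -/
theorem exact_of_locally {C : Type u} [SmallCategory C] {J : GrothendieckTopology C}
    (T : ShortComplex (Sheaf J AddCommGrpCat.{u}))
    (h : ∀ (U : C) (x : T.X₂.obj.obj (op U)), T.g.hom.app (op U) x = 0 →
      Loc J U (fun V g => ∃ w, T.f.hom.app (op V) w = T.X₂.obj.map g.op x)) : T.Exact := by
  let T' : ShortComplex (Cᵒᵖ ⥤ AddCommGrpCat.{u}) :=
    ShortComplex.mk T.f.hom T.g.hom (congrArg (fun φ : T.X₁ ⟶ T.X₃ => φ.hom) T.zero)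
  have h1 : (T'.map (presheafToSheaf J AddCommGrpCat.{u})).Exact := by
    refine Lib.SiteCoh.LocExact.exact_map_of_locally_exact _ fun U x hx => ?_
    obtain ⟨R, hR, hR'⟩ := h U x hx
    exact ⟨R, hR, fun V g hg => hR' V g hg⟩
  exact ShortComplex.exact_of_iso
    (T.mapNatIso (asIso (sheafificationAdjunction J AddCommGrpCat.{u}).counit)) h1

/-- Coverings from neighbourhoods of points. -/
lemma loc_of_points {X : Pt Y} {q : ∀ W : Pt Y, (W ⟶ X) → Prop}
    (h : ∀ z ∈ opn X, ∃ (V : Opens (Sp Y (deg X))) (hV : V ≤ opn X), z ∈ V ∧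
      ∀ (W : Pt Y) (k : W ⟶ mk (deg X) V), q W (k ≫ (ι (_root_.FibDesc.part (Fam Y))
        (op (deg X))).map ((homOfLE hV : (V : Opens (Sp Y (deg X))) ⟶ opn X)))) :
    Loc (_root_.FibDesc.totPart (Fam Y) (Top Y)) X q := by
  refine loc_total (U := X.fiber) (p := fun V g => ∀ (W : Pt Y) (k : W ⟶ mk (deg X) V),
    q W (k ≫ (ι (_root_.FibDesc.part (Fam Y)) (op (deg X))).map g)) ?_ fun V g hg W k => hg W k
  refine ⟨⟨fun V g => ∀ (W : Pt Y) (k : W ⟶ mk (deg X) V),
    q W (k ≫ (ι (_root_.FibDesc.part (Fam Y)) (op (deg X))).map g), ?_⟩, ?_, fun V g hg => hg⟩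
  · intro V V' g hg i W k
    refine (congrArg (q W) ?_).mpr (hg W (k ≫ (ι (_root_.FibDesc.part (Fam Y)) (op (deg X))).map i))
    exact (congrArg (k ≫ ·) ((ι (_root_.FibDesc.part (Fam Y)) (op (deg X))).map_comp i g)).trans
      (Category.assoc _ _ _).symm
  · intro z hz
    obtain ⟨V, hV, hzV, hq⟩ := h z hz
    exact ⟨V, homOfLE hV, hq, hzV⟩

section Flat

/-- The underlying open in the augmented family. -/
def opnF (X : ∫ᶜ (_root_.FibDesc.topAug Y)) : Opens (Y.obj X.base) := X.fiber


/-- The base site is flat in the total site. -/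
theorem representablyFlat_eps : RepresentablyFlat (_root_.FibDesc.eps (Fam Y)) := by
  refine ⟨fun X => ?_⟩
  have key : ∀ (U : Opens (S Y)), opnF X ≤
      (Opens.map (Y.map (WithInitial.starInitial.to X.base.unop).op)).obj U →
      Nonempty (X ⟶ (_root_.FibDesc.eps (Fam Y)).obj U) := fun U h =>
    ⟨⟨(WithInitial.starInitial.to X.base.unop).op,
      (homOfLE h : opnF X ⟶ _)⟩⟩
  have le : ∀ {U : Opens (S Y)} (k : X ⟶ (_root_.FibDesc.eps (Fam Y)).obj U),
      opnF X ≤
        (Opens.map (Y.map (WithInitial.starInitial.to X.base.unop).op)).obj U := by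
    intro U k
    obtain ⟨b, φ⟩ := k
    obtain rfl : b = (WithInitial.starInitial.to X.base.unop).op :=
      Quiver.Hom.unop_inj (WithInitial.starInitial.hom_ext _ _)
    exact le_of_hom' (Y.obj X.base) φ
  have huniq : ∀ {U : Opens (S Y)} (k k' : X ⟶ (_root_.FibDesc.eps (Fam Y)).obj U), k = k' :=
    fun k k' => homF_ext Y (Quiver.Hom.unop_inj (WithInitial.starInitial.hom_ext _ _))
  exact
    { nonempty := ⟨StructuredArrow.mk (key ⊤ (fun _ _ => trivial)).some⟩
      cone_objs := fun A B =>
        let A' : Opens (S Y) := A.right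
        let B' : Opens (S Y) := B.right
        let r₁ : A' ⊓ B' ⟶ A' := homOfLE inf_le_left
        let r₂ : A' ⊓ B' ⟶ B' := homOfLE inf_le_right
        ⟨StructuredArrow.mk (key (A' ⊓ B') (fun z hz => ⟨le A.hom hz, le B.hom hz⟩)).some,
          StructuredArrow.homMk r₁ (huniq _ _), StructuredArrow.homMk r₂ (huniq _ _), trivial⟩
      cone_maps := fun A B f g => ⟨A, 𝟙 A, by
        rw [show f = g from StructuredArrow.ext _ _ (opens_hom_eq (S Y) _ _)]⟩ }

end Flat

section Pull

variable [(_root_.FibDesc.incl (Fam Y)).IsContinuous (_root_.FibDesc.totPart (Fam Y) (Top Y))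
    (_root_.FibDesc.totAug (Fam Y) (Top Y))]
  [(_root_.FibDesc.incl (Fam Y)).IsCocontinuous (_root_.FibDesc.totPart (Fam Y) (Top Y))
    (_root_.FibDesc.totAug (Fam Y) (Top Y))]
  [(_root_.FibDesc.eps (Fam Y)).IsContinuous (Top Y (_root_.FibDesc.bot _))
    (_root_.FibDesc.totAug (Fam Y) (Top Y))]

/-- The inverse image. -/
noncomputable abbrev pull : _root_.FibDesc.BaseSh (Fam Y) (Top Y) AddCommGrpCat.{u} ⥤ Sh Y :=
  _root_.FibDesc.pull (Fam Y) (Top Y) AddCommGrpCat.{u}

/-- The adjunction. -/
noncomputable abbrev adj : pull (Y := Y) ⊣ push (Y := Y) :=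
  _root_.FibDesc.adj (Fam Y) (Top Y) AddCommGrpCat.{u}

theorem preservesFiniteLimits_sheafPullback {C D : Type u} [SmallCategory C] [SmallCategory D]
    (G : C ⥤ D) (J : GrothendieckTopology C) (K : GrothendieckTopology D) [RepresentablyFlat G]
    [G.IsContinuous J K] : PreservesFiniteLimits (G.sheafPullback AddCommGrpCat.{u} J K) := by
  haveI : PreservesFiniteLimits (G.op.lan : (Cᵒᵖ ⥤ AddCommGrpCat.{u}) ⥤ _) :=
    lan_preservesFiniteLimits_of_flat AddCommGrpCat.{u} G
  exact preservesFiniteLimits_of_natIso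
    (Functor.sheafPullbackConstruction.sheafPullbackIso G AddCommGrpCat.{u} J K).symm

theorem preservesFiniteLimits_pull : PreservesFiniteLimits (pull (Y := Y)) := by
  haveI := representablyFlat_eps (Y := Y)
  haveI : PreservesFiniteLimits ((_root_.FibDesc.incl (Fam Y)).sheafPushforwardContinuous
      AddCommGrpCat.{u} (_root_.FibDesc.totPart (Fam Y) (Top Y))
      (_root_.FibDesc.totAug (Fam Y) (Top Y))) := by
    haveI := ((_root_.FibDesc.incl (Fam Y)).sheafAdjunctionContinuous AddCommGrpCat.{u}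
      (_root_.FibDesc.totPart (Fam Y) (Top Y))
      (_root_.FibDesc.totAug (Fam Y) (Top Y))).rightAdjoint_preservesLimits
    exact PreservesLimitsOfSize.preservesFiniteLimits.{0, 0} _
  haveI := preservesFiniteLimits_sheafPullback (_root_.FibDesc.eps (Fam Y))
    (Top Y (_root_.FibDesc.bot _)) (_root_.FibDesc.totAug (Fam Y) (Top Y))
  exact comp_preservesFiniteLimits _ _

variable (F : _root_.FibDesc.BaseSh (Fam Y) (Top Y) AddCommGrpCat.{u})

/-- The image of a section of the base. -/
noncomputable def η {U : Opens (S Y)} {X : Pt Y} (h : Below U X) :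
    F.obj.obj (op U) ⟶ ((pull (Y := Y)).obj F).obj.obj (op X) :=
  (adj.unit.app F).hom.app (op U) ≫ ev ((pull (Y := Y)).obj F) h

lemma η_res {U : Opens (S Y)} {X X' : Pt Y} (a : X ⟶ X') (h : Below U X') (t : F.obj.obj (op U)) :
    ((pull (Y := Y)).obj F).obj.map a.op (η F h t) = η F (below_of_hom a h) t :=
  ConcreteCategory.congr_hom (ev_comp ((pull (Y := Y)).obj F) a h) ((adj.unit.app F).hom.app (op U) t)

lemma η_base {U V : Opens (S Y)} (i : V ⟶ U) {X : Pt Y} (h : Below V X) (t : F.obj.obj (op U)) :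
    η F h (F.obj.map i.op t) = η F (below_mono i.le h) t := by
  refine (congrArg (ev ((pull (Y := Y)).obj F) h)
    (NatTrans.naturality_apply (adj.unit.app F).hom i.op t)).trans ?_
  exact ConcreteCategory.congr_hom (ev_res ((pull (Y := Y)).obj F) i h) _

lemma map_η {G : Sh Y} (φ : (pull (Y := Y)).obj F ⟶ G) {U : Opens (S Y)} {X : Pt Y} (h : Below U X)
    (t : F.obj.obj (op U)) :
    φ.hom.app (op X) (η F h t) = ev G h ((adj.homEquiv F G φ).hom.app (op U) t) := by
  rw [Adjunction.homEquiv_unit]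
  exact (ConcreteCategory.congr_hom (ev_naturality φ h) _).symm

/-- Being the image of a section of the base. -/
def IsGen (X : Pt Y) (s : ((pull (Y := Y)).obj F).obj.obj (op X)) : Prop :=
  ∃ (U : Opens (S Y)) (h : Below U X) (t : F.obj.obj (op U)), η F h t = s

/-- The sections which are locally images of sections of the base. -/
def genSub (X : Pt Y) : AddSubgroup (((pull (Y := Y)).obj F).obj.obj (op X)) where
  carrier := {s | Loc (_root_.FibDesc.totPart (Fam Y) (Top Y)) X
    fun W g => IsGen F W (((pull (Y := Y)).obj F).obj.map g.op s)}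
  zero_mem' := Loc.of_forall fun W g => ⟨⊤, fun _ _ => trivial, 0, by rw [map_zero, map_zero]⟩
  add_mem' {a b} ha hb := (ha.inter hb).mono fun W g hg => by
    obtain ⟨⟨U, h, t, e⟩, U', h', t', e'⟩ := hg
    refine ⟨U ⊓ U', fun z hz => ⟨h hz, h' hz⟩,
      F.obj.map (homOfLE inf_le_left).op t + F.obj.map (homOfLE inf_le_right).op t', ?_⟩
    refine (map_add (η F (fun z hz => ⟨h hz, h' hz⟩ : Below (U ⊓ U') W)).hom _ _).trans ?_
    refine Eq.trans ?_ (map_add (((pull (Y := Y)).obj F).obj.map g.op).hom a b).symm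
    exact congrArg₂ (· + ·) ((η_base F _ _ t).trans e) ((η_base F _ _ t').trans e')
  neg_mem' {a} ha := ha.mono fun W g hg => by
    obtain ⟨U, h, t, e⟩ := hg
    exact ⟨U, h, -t, by rw [map_neg, map_neg, e]⟩

lemma genSub_map {X X' : Pt Y} (a : X ⟶ X') (s : ((pull (Y := Y)).obj F).obj.obj (op X'))
    (hs : s ∈ genSub F X') : ((pull (Y := Y)).obj F).obj.map a.op s ∈ genSub F X := by
  refine (Loc.pullback hs a).mono fun W g hg => ?_
  have e : ((pull (Y := Y)).obj F).obj.map g.op (((pull (Y := Y)).obj F).obj.map a.op s) =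
      ((pull (Y := Y)).obj F).obj.map (g ≫ a).op s :=
    (ConcreteCategory.congr_hom (((pull (Y := Y)).obj F).obj.map_comp a.op g.op) s).symm
  exact (congrArg (IsGen F W) e).mpr hg

/-- The presheaf of sections modulo generated ones. -/
noncomputable def quotPre : (Pt Y)ᵒᵖ ⥤ AddCommGrpCat.{u} where
  obj X := AddCommGrpCat.of (((pull (Y := Y)).obj F).obj.obj (op X.unop) ⧸ genSub F X.unop)
  map {X X'} a := AddCommGrpCat.ofHom (QuotientAddGroup.map _ _
    (((pull (Y := Y)).obj F).obj.map a.unop.op).hom fun s hs => genSub_map F a.unop s hs)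
  map_id X := by
    refine AddCommGrpCat.hom_ext (QuotientAddGroup.addMonoidHom_ext _ ?_)
    ext x
    exact congrArg QuotientAddGroup.mk
      (ConcreteCategory.congr_hom (((pull (Y := Y)).obj F).obj.map_id X) x)
  map_comp a b := by
    refine AddCommGrpCat.hom_ext (QuotientAddGroup.addMonoidHom_ext _ ?_)
    ext x
    exact congrArg QuotientAddGroup.mk
      (ConcreteCategory.congr_hom (((pull (Y := Y)).obj F).obj.map_comp a b) x)

/-- The projection. -/
noncomputable def quotπ : ((pull (Y := Y)).obj F).obj ⟶ quotPre F where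
  app X := AddCommGrpCat.ofHom (QuotientAddGroup.mk' (genSub F X.unop))

/-- The inverse image is locally generated by sections of the base. -/
theorem mem_genSub {X : Pt Y} (s : ((pull (Y := Y)).obj F).obj.obj (op X)) : s ∈ genSub F X := by
  let J := _root_.FibDesc.totPart (Fam Y) (Top Y)
  let ψ : (pull (Y := Y)).obj F ⟶ (presheafToSheaf J AddCommGrpCat.{u}).obj (quotPre F) :=
    ⟨quotπ F ≫ CategoryTheory.toSheafify J (quotPre F)⟩
  have hψ : ψ = 0 := by
    refine (adj.homEquiv F _).injective ?_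
    ext U t
    refine push_ext _ fun W hW => ?_
    refine (map_η F ψ hW t).symm.trans (Eq.trans ?_ (map_η F 0 hW t))
    change (CategoryTheory.toSheafify J (quotPre F)).app (op W)
      (QuotientAddGroup.mk' (genSub F W) (η F hW t)) = 0
    have hmem : η F hW t ∈ genSub F W := Loc.of_forall fun W' g =>
      ⟨U.unop, below_of_hom g hW, t, (η_res F g hW t).symm⟩
    rw [show QuotientAddGroup.mk' (genSub F W) (η F hW t) = 0 from
      (QuotientAddGroup.eq_zero_iff _).2 hmem]
    exact map_zero _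
  have h0 : (CategoryTheory.toSheafify J (quotPre F)).app (op X)
      (QuotientAddGroup.mk' (genSub F X) s) =
      (CategoryTheory.toSheafify J (quotPre F)).app (op X) 0 := by
    refine Eq.trans ?_ (map_zero _).symm
    exact ConcreteCategory.congr_hom (congrArg (fun χ : (pull (Y := Y)).obj F ⟶ _ =>
      χ.hom.app (op X)) hψ) s
  refine Loc.bind (loc_of_mem (Presheaf.equalizerSieve_mem J
    (CategoryTheory.toSheafify J (quotPre F)) _ _ h0)) fun W g hg => ?_
  have h1 : ((pull (Y := Y)).obj F).obj.map g.op s ∈ genSub F W :=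
    (QuotientAddGroup.eq_zero_iff _).1 (hg.trans (map_zero _))
  refine h1.mono fun W' g' hg' => ?_
  exact (congrArg (IsGen F W')
    (ConcreteCategory.congr_hom (((pull (Y := Y)).obj F).obj.map_comp g.op g'.op) s)).mpr hg'

end Pull

end Groth.Agent.Lib.FibDesc.Gen
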