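import Groth.Agent.Lib.FibDesc.Model
import Groth.Agent.Lib.FibDesc.Gen
import Groth.Agent.Lib.FibDesc.Criterion

/-!
# Exact rows give cohomological descent

If for every abelian sheaf `F` on the base the rows of families of stalk values on the augmented
simplicial space are exact, then the augmentation is of cohomological descent.
-/

set_option autoImplicit false
set_option linter.style.haveILetI false

universe u

open CategoryTheory Limits Opposite TopologicalSpace Pseudofunctor.CoGrothendieck Simplicial Topology Filter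

namespace Groth.Agent.Lib.FibDesc.Descent

open Site Rows Model Gen Flasque Groth.Agent.H30.Gode Groth.Agent.FibSiteLib

variable {Y : AugSp.{u}}

/-- The identity map of the kernel of a map out of the middle of a short complex. -/
lemma exact_lift {A : Type*} [Category A] [Abelian A] {X₁ X₂ X₃ X₄ : A} (f : X₁ ⟶ X₂) (g : X₂ ⟶ X₃)
    (g' : X₃ ⟶ X₄) (hgg : g ≫ g' = 0) (h : ∀ w, (ShortComplex.mk f g w).Exact) (w) :
    (ShortComplex.mk f (kernel.lift g' g hgg) w).Exact := by
  have w' : f ≫ g = 0 := by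
    have := congrArg (· ≫ kernel.ι g') w
    simpa using this
  let φ : ShortComplex.mk f (kernel.lift g' g hgg) w ⟶ ShortComplex.mk f g w' :=
    { τ₁ := 𝟙 _
      τ₂ := 𝟙 _
      τ₃ := kernel.ι g'
      comm₁₂ := (Category.id_comp _).trans (Category.comp_id _).symm
      comm₂₃ := (Category.id_comp _).trans (kernel.lift_ι _ _ _).symm }
  exact (ShortComplex.exact_iff_of_epi_of_isIso_of_mono φ).2 (h w')

section Local

variable (F : CohTop.Ab (S Y))

/-- Cocycles in positive degrees are locally coboundaries, near a point. -/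
lemma exists_near {T : Over (S Y)} (q : ℕ) (x : (lv F T.hom (q + 1)).Fn)
    (hx : (lv F T.hom (q + 1)).d' x = 0) (z : T.left) :
    ∃ φ : (lv F T.hom q).Fn, ∀ᶠ w in 𝓝 z, x w = (lv F T.hom q).d φ w :=
  (Lv.d_eq_zero_iff _ _ _).1 (congrFun hx z)

/-- Cocycles in degree zero are germs near a point. -/
lemma exists_near_zero {T : Over (S Y)} (x : (lv F T.hom 0).Fn)
    (hx : (lv F T.hom 0).d' x = 0) (z : T.left) :
    ∃ W : Opens (S Y), T.hom z ∈ W ∧ ∃ t : F.obj.obj (op W),
      ∀ᶠ w in 𝓝 z, x w = germFam F T.hom W t w :=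
  (Lv.d_eq_zero_iff _ _ _).1 (congrFun hx z)

lemma d'_germFam (T : Over (S Y)) (U : Opens (S Y)) (hU : ∀ z, T.hom z ∈ U) (t : F.obj.obj (op U)) :
    (lv F T.hom 0).d' (germFam F T.hom U t) = 0 :=
  funext fun z => (Lv.d_eq_zero_iff _ _ _).2 ⟨U, hU z, t, Eventually.of_forall fun _ => rfl⟩

/-- Agreement near a point gives agreement after restriction. -/
lemma exists_open_agree {X : Pt Y} {q : ℕ} {a b : (lv F ((space (Y := Y)).obj X).hom q).Fn}
    (z : ((space (Y := Y)).obj X).left) (h : ∀ᶠ w in 𝓝 z, a w = b w) :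
    ∃ (V : Opens (Sp Y (deg X))) (hV : V ≤ opn X), z.1 ∈ V ∧
      ∀ (W : Pt Y) (g : W ⟶ X), (∀ w : opn W, str Y g.base.unop w.1 ∈ V) → upb F g a = upb F g b := by
  obtain ⟨O, hO, hOo, hzO⟩ := eventually_nhds_iff.1 h
  refine ⟨⟨Subtype.val '' O, (opn X).isOpenEmbedding'.isOpenMap O hOo⟩, ?_, ⟨z, hzO, rfl⟩, ?_⟩
  · rintro _ ⟨w, -, rfl⟩
    exact w.2
  · intro W g hg
    funext w
    refine congrArg ((hom F ((space (Y := Y)).map g).left (Over.w _) q).m w) (hO _ ?_)
    obtain ⟨v, hv, e⟩ := hg w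
    exact (Subtype.ext e : v = ((space (Y := Y)).map g).left w) ▸ hv

lemma str_mem_of_factor {X : Pt Y} {V : Opens (Sp Y (deg X))} (hV : V ≤ opn X) {W : Pt Y}
    (k : W ⟶ mk (deg X) V) (w : opn W) :
    str Y (k ≫ (ι (_root_.FibDesc.part (Fam Y)) (op (deg X))).map
      ((homOfLE hV : (V : Opens (Sp Y (deg X))) ⟶ opn X))).base.unop w.1 ∈ V := by
  have e : (k ≫ (ι (_root_.FibDesc.part (Fam Y)) (op (deg X))).map
      ((homOfLE hV : (V : Opens (Sp Y (deg X))) ⟶ opn X))).base.unop = k.base.unop :=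
    congrArg Quiver.Hom.unop (Category.comp_id k.base)
  exact (congrArg (fun m : deg X ⟶ deg W => str Y m w.1 ∈ V) e).mpr (hom_le k w.2)

/-- Positive cocycles on the simplicial space are locally coboundaries. -/
lemma C_exact (q : ℕ) : (ShortComplex.mk (d F q) (d F (q + 1)) (d_d F q)).Exact := by
  refine exact_of_locally _ fun X x hx => ?_
  refine loc_of_points fun z hz => ?_
  obtain ⟨φ, hφ⟩ := exists_near F (T := (space (Y := Y)).obj X) q x hx ⟨z, hz⟩
  obtain ⟨V, hV, hzV, hagree⟩ := exists_open_agree F (X := X) (q := q + 1) (a := x) (b := ((lv F ((space (Y := Y)).obj X).hom q).d' φ : (lv F ((space (Y := Y)).obj X).hom (q + 1)).Fn)) ⟨z, hz⟩ hφ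
  refine ⟨V, hV, hzV, fun W k => ?_⟩
  refine ⟨upb F (k ≫ (ι (_root_.FibDesc.part (Fam Y)) (op (deg X))).map
    ((homOfLE hV : (V : Opens (Sp Y (deg X))) ⟶ opn X))) φ, ?_⟩
  refine Eq.trans ?_ (hagree W _ (str_mem_of_factor hV k)).symm
  exact ((hom F _ _ q).next_fn_d' φ).symm

end Local

section Push

variable [(_root_.FibDesc.incl (Fam Y)).IsContinuous (_root_.FibDesc.totPart (Fam Y) (Top Y))
    (_root_.FibDesc.totAug (Fam Y) (Top Y))]
  [(_root_.FibDesc.incl (Fam Y)).IsCocontinuous (_root_.FibDesc.totPart (Fam Y) (Top Y))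
    (_root_.FibDesc.totAug (Fam Y) (Top Y))]
  [(_root_.FibDesc.eps (Fam Y)).IsContinuous (Top Y (_root_.FibDesc.bot _))
    (_root_.FibDesc.totAug (Fam Y) (Top Y))]

variable (F : CohTop.Ab (S Y))

/-- The germs of a section, as a family on its open. -/
noncomputable def germs (U : Opens (S Y)) : F.obj.obj (op U) →+ (lv F (baseSp U).hom 0).Fn where
  toFun t := fun z : U => germ F z.2 t
  map_zero' := funext fun _ => map_zero _
  map_add' _ _ := funext fun _ => map_add _ _ _

lemma germs_eq (U : Opens (S Y)) (t : F.obj.obj (op U)) :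
    germs F U t = germFam F (baseSp U).hom U t :=
  funext fun z => (germFam_of_mem F (baseSp U).hom t z z.2).symm

/-- The augmentation `F ⟶ θ̄_* C⁰`. -/
noncomputable def ε : (F : _root_.FibDesc.BaseSh (Fam Y) (Top Y) AddCommGrpCat.{u}) ⟶
    (push (Y := Y)).obj (C F 0) :=
  ⟨{ app := fun U => AddCommGrpCat.ofHom ((elt (F := F) (U := U.unop) 0).comp (germs F U.unop))
     naturality := fun U V i => by
      ext t
      change elt 0 (germs F V.unop (F.obj.map i t)) =
        ((push (Y := Y)).obj (C F 0)).obj.map i.unop.op (elt 0 (germs F U.unop t))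
      rw [elt_res]
      refine congrArg (elt 0) ?_
      rw [germs_eq F U.unop, pb_germFam]
      funext z
      refine Eq.trans ?_ (germFam_of_mem F _ t z (i.unop.le z.2)).symm
      exact TopCat.Presheaf.germ_res_apply F.obj i.unop z.1 z.2 t }⟩

lemma ev_ε {U : Opens (S Y)} {X : Pt Y} (h : Below U X) (t : F.obj.obj (op U)) :
    ev (C F 0) h ((ε F).hom.app (op U) t) = germFam F ((space (Y := Y)).obj X).hom U t := by
  refine (ev_elt 0 h (germs F U t)).trans ?_
  rw [germs_eq, pb_germFam]

/-- The comparison of the inverse image with the resolution. -/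
noncomputable def φ : (pull (Y := Y)).obj F ⟶ C F 0 :=
  (adj.homEquiv F (C F 0)).symm (ε F)

lemma φ_η {U : Opens (S Y)} {X : Pt Y} (h : Below U X) (t : F.obj.obj (op U)) :
    (φ F).hom.app (op X) (η F h t) = germFam F ((space (Y := Y)).obj X).hom U t := by
  rw [map_η, φ, Equiv.apply_symm_apply]
  exact ev_ε F h t

lemma φ_injective (X : Pt Y) : Function.Injective ((φ F).hom.app (op X)) := by
  rw [injective_iff_map_eq_zero]
  intro s hs
  refine Loc.eq_of_isSeparated (J := _root_.FibDesc.totPart (Fam Y) (Top Y))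
    (Q := ((pull (Y := Y)).obj F).obj ⋙ CategoryTheory.forget AddCommGrpCat.{u})
    ((isSheaf_iff_isSheaf_of_type _ _).1
      ((sheafCompose _ (CategoryTheory.forget AddCommGrpCat.{u})).obj
        ((pull (Y := Y)).obj F)).property).isSeparated ?_
  refine Loc.bind (mem_genSub F s) fun W g hg => ?_
  obtain ⟨U, h, t, e⟩ := hg
  have ht : germFam F ((space (Y := Y)).obj W).hom U t = 0 := by
    rw [← φ_η F h, e]
    refine (NatTrans.naturality_apply (φ F).hom g.op s).trans ?_
    rw [hs]
    exact map_zero _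
  refine loc_of_points fun z hz => ?_
  have hy : germ F (show θ Y (deg W) z ∈ U from h hz) t = germ F (show θ Y (deg W) z ∈ U from h hz) 0 :=
    ((germFam_of_mem F ((space (Y := Y)).obj W).hom t ⟨z, hz⟩ (h hz)).symm.trans
      (congrFun ht ⟨z, hz⟩)).trans (map_zero _).symm
  obtain ⟨U', hzU', i₁, i₂, e'⟩ := TopCat.Presheaf.germ_eq F.obj _ _ _ t 0 hy
  refine ⟨opn W ⊓ (Opens.map (θ Y (deg W))).obj U', inf_le_left, ⟨hz, hzU'⟩, fun W' k => ?_⟩
  let hb : Below U' (mk (deg W) (opn W ⊓ (Opens.map (θ Y (deg W))).obj U')) := inf_le_right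
  change ((pull (Y := Y)).obj F).obj.map ((k ≫ _) ≫ g).op s =
    ((pull (Y := Y)).obj F).obj.map ((k ≫ _) ≫ g).op 0
  refine Eq.trans ?_ (map_zero _).symm
  refine ((ConcreteCategory.congr_hom (((pull (Y := Y)).obj F).obj.map_comp g.op _) s)).trans ?_
  refine (congrArg _ e.symm).trans ((η_res F _ h t).trans ?_)
  refine (η_base F i₁ (below_of_hom k hb) t).symm.trans ?_
  exact (congrArg _ (e'.trans (map_zero _))).trans (map_zero _)

lemma φ_d : φ F ≫ d F 0 = 0 := by
  refine (adj.homEquiv F _).injective ?_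
  rw [Adjunction.homEquiv_naturality_right, φ, Equiv.apply_symm_apply]
  ext U t
  refine push_ext _ fun X hX => ?_
  refine (ConcreteCategory.congr_hom (ev_naturality (d F 0) hX) _).trans ?_
  refine Eq.trans ?_ (map_η F (0 : (pull (Y := Y)).obj F ⟶ C F 1) hX t)
  refine (congrArg ((d F 0).hom.app (op X)) (ev_ε F hX t)).trans ?_
  exact d'_germFam F ((space (Y := Y)).obj X) U.unop (fun z => hX z.2) t

lemma φ_exact : (ShortComplex.mk (φ F) (d F 0) (φ_d F)).Exact := by
  refine exact_of_locally _ fun X x hx => ?_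
  refine loc_of_points fun z hz => ?_
  obtain ⟨U, hzU, t, ht⟩ := exists_near_zero F (T := (space (Y := Y)).obj X) x hx ⟨z, hz⟩
  obtain ⟨V, hV, hzV, hagree⟩ := exists_open_agree F (X := X) ⟨z, hz⟩ ht
  let V' := V ⊓ (Opens.map (θ Y (deg X))).obj U
  refine ⟨V', inf_le_left.trans hV, ⟨hzV, hzU⟩, fun W k => ?_⟩
  let hb : Below U W := below_of_hom k (inf_le_right : Below U (mk (deg X) V'))
  refine ⟨η F hb t, ?_⟩
  refine (φ_η F hb t).trans ?_
  refine Eq.trans ?_ (hagree W _ fun w => inf_le_left (a := V) (str_mem_of_factor _ k w)).symm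
  exact (pb_germFam F _ U t).symm

instance mono_φ : Mono (φ F) := by
  haveI : ∀ X, Mono ((φ F).hom.app X) := fun X =>
    (AddCommGrpCat.mono_iff_injective _).2 (φ_injective F X.unop)
  haveI : Mono ((sheafToPresheaf _ _).map (φ F)) := NatTrans.mono_of_mono_app (φ F).hom
  exact (sheafToPresheaf _ _).mono_of_mono_map inferInstance

variable {F} (H : RowsExact F (simp Y))
include H

lemma push_d_exact (q : ℕ) :
    (ShortComplex.mk ((push (Y := Y)).map (d F q)) ((push (Y := Y)).map (d F (q + 1)))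
      (by rw [← Functor.map_comp, d_d, Functor.map_zero])).Exact := by
  refine exact_of_locally _ fun (U : Opens (S Y)) a ha => ?_
  obtain ⟨x, rfl⟩ := (elt_bijective (F := F) (U := U) (q + 1) H).2 a
  have hx : (lv F (baseSp U).hom (q + 1)).d' x = 0 :=
    (elt_bijective (F := F) (U := U) (q + 1 + 1) H).1
      ((push_d_elt (q + 1) x).symm.trans (ha.trans (map_zero _).symm))
  refine ⟨⟨fun V i => ∃ w, ((push (Y := Y)).map (d F q)).hom.app (op V) w =
      ((push (Y := Y)).obj (C F (q + 1))).obj.map i.op (elt (q + 1) x), ?_⟩, ?_, fun V i h => h⟩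
  · rintro V V' i ⟨w, hw⟩ j
    refine ⟨((push (Y := Y)).obj (C F q)).obj.map j.op w, ?_⟩
    rw [NatTrans.naturality_apply, hw]
    exact (ConcreteCategory.congr_hom (((push (Y := Y)).obj (C F (q + 1))).obj.map_comp i.op j.op) _).symm
  · intro y hy
    obtain ⟨ψ, hψ⟩ := exists_near F (T := baseSp U) q x hx (⟨y, hy⟩ : U)
    obtain ⟨O, hO, hOo, hyO⟩ := eventually_nhds_iff.1 hψ
    let V : Opens (S Y) := ⟨Subtype.val '' O, U.isOpenEmbedding'.isOpenMap O hOo⟩
    have hVU : V ≤ U := by rintro _ ⟨w, -, rfl⟩; exact w.2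
    refine ⟨V, homOfLE hVU, ⟨elt q (pb F q (baseIncl (homOfLE hVU)) ψ), ?_⟩, ⟨_, hyO, rfl⟩⟩
    refine (push_d_elt q _).trans ?_
    refine Eq.trans ?_ (elt_res (q + 1) (homOfLE hVU) x).symm
    refine congrArg (elt (q + 1)) ?_
    refine ((hom F (baseIncl (homOfLE hVU)).left (Over.w _) q).next_fn_d' ψ).symm.trans ?_
    funext w
    obtain ⟨v, hv, e⟩ := w.2
    refine (congrArg ((hom F (baseIncl (homOfLE hVU)).left (Over.w _) (q + 1)).m w) (hO _ ?_)).symm
    exact (Subtype.ext e : v = (baseIncl (homOfLE hVU)).left w) ▸ hv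

lemma ε_injective (U : Opens (S Y)) : Function.Injective ((ε F).hom.app (op U)) := by
  intro t t' e
  have e' := (elt_bijective (F := F) (U := U) 0 H).1 e
  exact TopCat.Presheaf.section_ext (F : TopCat.Sheaf AddCommGrpCat.{u} (S Y)) U t t'
    fun x hx => congrFun e' ⟨x, hx⟩

omit H in
lemma ε_d : ε F ≫ (push (Y := Y)).map (d F 0) = 0 := by
  have e := congrArg (adj.homEquiv F (C F 1)) (φ_d F)
  rw [Adjunction.homEquiv_naturality_right, φ, Equiv.apply_symm_apply] at e
  refine Eq.trans e ?_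
  ext U t
  refine push_ext _ fun X hX => ?_
  refine (map_η F (0 : (pull (Y := Y)).obj F ⟶ C F 1) hX t).symm.trans ?_
  exact (map_zero (ev (C F 1) hX).hom).symm

lemma ε_exact : (ShortComplex.mk (ε F) ((push (Y := Y)).map (d F 0)) (ε_d)).Exact := by
  refine exact_of_locally _ fun (U : Opens (S Y)) a ha => ?_
  obtain ⟨x, rfl⟩ := (elt_bijective (F := F) (U := U) 0 H).2 a
  have hx : (lv F (baseSp U).hom 0).d' x = 0 :=
    (elt_bijective (F := F) (U := U) 1 H).1
      ((push_d_elt 0 x).symm.trans (ha.trans (map_zero _).symm))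
  refine ⟨⟨fun V i => ∃ w, (ε F).hom.app (op V) w =
      ((push (Y := Y)).obj (C F 0)).obj.map i.op (elt 0 x), ?_⟩, ?_, fun V i h => h⟩
  · rintro V V' i ⟨w, hw⟩ j
    refine ⟨F.obj.map j.op w, ?_⟩
    rw [NatTrans.naturality_apply, hw]
    exact (ConcreteCategory.congr_hom (((push (Y := Y)).obj (C F 0)).obj.map_comp i.op j.op) _).symm
  · intro y hy
    obtain ⟨W, hW, t, ht⟩ := exists_near_zero F (T := baseSp U) x hx (⟨y, hy⟩ : U)
    obtain ⟨O, hO, hOo, hyO⟩ := eventually_nhds_iff.1 ht
    let V : Opens (S Y) := ⟨Subtype.val '' O, U.isOpenEmbedding'.isOpenMap O hOo⟩ ⊓ W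
    have hVU : V ≤ U := by rintro _ ⟨⟨w, -, rfl⟩, -⟩; exact w.2
    refine ⟨V, homOfLE hVU, ⟨F.obj.map (homOfLE (inf_le_right : V ≤ W)).op t, ?_⟩,
      ⟨⟨_, hyO, rfl⟩, hW⟩⟩
    refine Eq.trans ?_ (elt_res 0 (homOfLE hVU) x).symm
    refine congrArg (elt 0) ?_
    funext w
    obtain ⟨⟨v, hv, e⟩, -⟩ := w.2
    have hv' : (baseIncl (homOfLE hVU)).left w ∈ O :=
      (Subtype.ext e : v = (baseIncl (homOfLE hVU)).left w) ▸ hv
    refine Eq.trans ?_
      (congrArg ((hom F (baseIncl (homOfLE hVU)).left (Over.w _) 0).m w) (hO _ hv')).symm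
    refine Eq.trans ?_ (congrFun (pb_germFam F (baseIncl (homOfLE hVU)) W t) w).symm
    refine Eq.trans ?_ (germFam_of_mem F (baseSp V).hom t w w.2.2).symm
    exact TopCat.Presheaf.germ_res_apply F.obj (homOfLE (inf_le_right : V ≤ W)) w.1 w.2 t

lemma mono_ε : Mono (ε F) := by
  haveI : ∀ U, Mono ((ε F).hom.app U) := fun U =>
    (AddCommGrpCat.mono_iff_injective _).2 (ε_injective H U.unop)
  haveI : Mono ((sheafToPresheaf _ _).map (ε F)) := NatTrans.mono_of_mono_app (ε F).hom
  exact (sheafToPresheaf _ _).mono_of_mono_map inferInstance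

/-- The unit is an isomorphism. -/
theorem isIso_unit : IsIso ((adj (Y := Y)).unit.app F) := by
  have he : adj.unit.app F ≫ (push (Y := Y)).map (φ F) = ε F := by
    exact (Adjunction.homEquiv_unit adj _ _ (φ F)).symm.trans
      ((adj.homEquiv F (C F 0)).apply_symm_apply (ε F))
  have hw : (push (Y := Y)).map (φ F) ≫ (push (Y := Y)).map (d F 0) = 0 := by
    rw [← Functor.map_comp, φ_d, Functor.map_zero]
  have hK : IsLimit (KernelFork.ofι ((push (Y := Y)).map (φ F)) hw) :=
    isLimitForkMapOfIsLimit' (push (Y := Y)) (φ_d F)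
      (haveI : Mono (ShortComplex.mk (φ F) (d F 0) (φ_d F)).f := mono_φ F
       (φ_exact F).fIsKernel)
  have hE : IsLimit (KernelFork.ofι (ε F) ε_d) :=
    haveI : Mono (ShortComplex.mk (ε F) ((push (Y := Y)).map (d F 0)) ε_d).f := mono_ε H
    (ε_exact H).fIsKernel
  let e := hE.conePointUniqueUpToIso hK
  have : adj.unit.app F = e.hom := by
    refine Fork.IsLimit.hom_ext hK ?_
    exact he.trans (hE.conePointUniqueUpToIso_hom_comp hK WalkingParallelPair.zero).symm
  rw [this]
  infer_instance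

/-- The cycles are acyclic for the direct image. -/
theorem isZero_rightDerived_cycles : ∀ (i k : ℕ),
    IsZero (((push (Y := Y)).rightDerived (i + 1)).obj (kernel (d F k))) := by
  have hC : ∀ k q, IsZero (((push (Y := Y)).rightDerived (q + 1)).obj (C F k)) := fun k q =>
    Acyclic.isZero_rightDerived q _ (lvlFlasque F k) (rowEx k H)
  have hS : ∀ k, (ShortComplex.mk (kernel.ι (d F k)) (kernel.lift (d F (k + 1)) (d F k) (d_d F k))
      (by rw [← cancel_mono (kernel.ι (d F (k + 1)))]; simp)).ShortExact := fun k =>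
    { exact := exact_lift _ _ _ (d_d F k) (fun w => ShortComplex.exact_of_f_is_kernel _
        (kernelIsKernel _)) _
      mono_f := inferInstanceAs (Mono (kernel.ι _))
      epi_g := (C_exact F k).epi_kernelLift }
  intro i
  induction i with
  | zero =>
    intro k
    obtain ⟨e⟩ := CohDelta.RAcyc.nonempty_one_iso (push (Y := Y)) (hS k) (hC k 0)
    haveI : Epi ((push (Y := Y)).map (kernel.lift (d F (k + 1)) (d F k) (d_d F k))) := by
      have := (push_d_exact H k).epi_kernelLift
      have e : (push (Y := Y)).map (kernel.lift (d F (k + 1)) (d F k) (d_d F k)) ≫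
          kernelComparison (d F (k + 1)) (push (Y := Y)) =
          kernel.lift ((push (Y := Y)).map (d F (k + 1))) ((push (Y := Y)).map (d F k))
            (by rw [← Functor.map_comp, d_d, Functor.map_zero]) := by
        rw [← cancel_mono (kernel.ι _)]
        refine (Category.assoc _ _ _).trans ?_
        refine (congrArg (_ ≫ ·) (kernelComparison_comp_ι _ _)).trans ?_
        refine ((push (Y := Y)).map_comp _ _).symm.trans ?_
        exact (congrArg (push (Y := Y)).map (kernel.lift_ι _ _ _)).trans (kernel.lift_ι _ _ _).symm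
      have : Epi ((push (Y := Y)).map (kernel.lift (d F (k + 1)) (d F k) (d_d F k)) ≫
          kernelComparison (d F (k + 1)) (push (Y := Y))) := by
        rw [e]; assumption
      exact (epi_comp_iff_of_isIso _ (kernelComparison (d F (k + 1)) (push (Y := Y)))).1 this
    exact (isZero_cokernel_of_epi _).of_iso e
  | succ i ih =>
    intro k
    obtain ⟨e⟩ := CohDelta.RAcyc.nonempty_shift_iso (push (Y := Y)) (hS k) (hC k) i
    exact (ih (k + 1)).of_iso e.symm

/-- Inverse images are acyclic for the direct image. -/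
theorem acyc_pull : DerCat.RFAcyclic.Acyc (push (Y := Y)) ((pull (Y := Y)).obj F) := by
  intro i hi
  obtain ⟨j, rfl⟩ : ∃ j, i = j + 1 := ⟨i - 1, by omega⟩
  haveI : Mono (ShortComplex.mk (φ F) (d F 0) (φ_d F)).f := mono_φ F
  let e : (pull (Y := Y)).obj F ≅ kernel (d F 0) :=
    (φ_exact F).fIsKernel.conePointUniqueUpToIso (limit.isLimit (parallelPair (d F 0) 0))
  exact (isZero_rightDerived_cycles H j 0).of_iso (((push (Y := Y)).rightDerived (j + 1)).mapIso e)

end Push

/-- **Exact rows give cohomological descent.** -/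
theorem isCohDescentTop (H : ∀ F : CohTop.Ab (S Y), RowsExact F (simp Y)) :
    _root_.FibDesc.IsCohDescentTop Y := by
  haveI := isContinuous_eps Y
  haveI := isContinuous_incl Y
  haveI := isCocontinuous_incl Y
  haveI hP := preservesFiniteLimits_pull (Y := Y)
  haveI : PreservesFiniteColimits (pull (Y := Y)) :=
    PreservesColimitsOfSize.preservesFiniteColimits.{0, 0} _
  letI := HasDerivedCategory.standard (_root_.FibDesc.BaseSh (Fam Y) (Top Y) AddCommGrpCat.{u})
  letI := HasDerivedCategory.standard (Sh Y)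
  exact ⟨inferInstance, inferInstance, inferInstance, inferInstance, inferInstance, hP,
    Criterion.bijective_map (adj (Y := Y)) (fun F => isIso_unit (H F)) (fun F => acyc_pull (H F))⟩

end Groth.Agent.Lib.FibDesc.Descent
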