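import Groth.Agent.Lib.FibDesc.Site
import Mathlib.AlgebraicTopology.AlternatingFaceMapComplex
import Mathlib.Algebra.Category.Grp.Adjunctions
import Mathlib.CategoryTheory.Sites.Abelian
import Mathlib.CategoryTheory.Preadditive.Injective.Preserves
import Mathlib.Algebra.Homology.ShortComplex.Ab
import Mathlib.Topology.Sheaves.Flasque

/-!
# Injective sheaves on the simplicial space are flasque and have exact rows
-/

set_option autoImplicit false

universe u

open CategoryTheory Limits Opposite TopologicalSpace Pseudofunctor.CoGrothendieck Simplicial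

namespace Groth.Agent.Lib.FibDesc.Flasque

open Site Groth.Agent.FibSiteLib

variable {Y : AugSp.{u}}

/-- The arrow of an inclusion in a fixed degree. -/
noncomputable def vert {p : SimplexCategory} {U V : Opens (Sp Y p)} (h : U ≤ V) :
    mk (Y := Y) p U ⟶ mk p V :=
  (ι (_root_.FibDesc.part (Fam Y)) (op p)).map ((homOfLE h : (U : Opens (Sp Y p)) ⟶ V))

lemma vert_base {p : SimplexCategory} {U V : Opens (Sp Y p)} (h : U ≤ V) :
    (vert (Y := Y) h).base = 𝟙 (op p) := rfl

/-- Restrictions in each degree are surjective. -/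
def LvlFlasque (G : Sh Y) : Prop :=
  ∀ (p : SimplexCategory) (U V : Opens (Sp Y p)) (h : U ≤ V),
    Function.Surjective (G.obj.map (vert (Y := Y) h).op)

/-- The differential of the row above `U`. -/
noncomputable def rowD (G : Sh Y) (U : Opens (S Y)) (p : ℕ) :
    G.obj.obj (op ((above U) _⦋p⦌)) ⟶ G.obj.obj (op ((above U) _⦋p + 1⦌)) :=
  ∑ i : Fin (p + 2), ((-1 : ℤ) ^ (i : ℕ)) • G.obj.map ((above U).δ i).op

lemma rowD_apply (G : Sh Y) (U : Opens (S Y)) (p : ℕ) (c : G.obj.obj (op ((above U) _⦋p⦌))) :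
    rowD G U p c = ∑ i : Fin (p + 2), ((-1 : ℤ) ^ (i : ℕ)) • G.obj.map ((above U).δ i).op c := by
  refine (map_sum (AddMonoidHom.mk' (fun f : G.obj.obj (op ((above U) _⦋p⦌)) ⟶
    G.obj.obj (op ((above U) _⦋p + 1⦌)) => f c) fun _ _ => rfl) _ _).trans ?_
  rfl

lemma rowD_zero_apply (G : Sh Y) (U : Opens (S Y)) (c : G.obj.obj (op ((above U) _⦋0⦌))) :
    rowD G U 0 c = G.obj.map ((above U).δ (0 : Fin 2)).op c -
      G.obj.map ((above U).δ (1 : Fin 2)).op c := by
  rw [rowD_apply, Fin.sum_univ_two]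
  simp [sub_eq_add_neg]

lemma rowD_naturality {G G' : Sh Y} (φ : G ⟶ G') (U : Opens (S Y)) (p : ℕ)
    (c : G.obj.obj (op ((above U) _⦋p⦌))) :
    φ.hom.app _ (rowD G U p c) = rowD G' U p (φ.hom.app _ c) := by
  rw [rowD_apply, rowD_apply, map_sum]
  refine Finset.sum_congr rfl fun i _ => ?_
  rw [map_zsmul]
  exact congrArg _ (NatTrans.naturality_apply φ.hom ((above U).δ i).op c)

/-- The rows are exact in positive degrees. -/
def RowEx (G : Sh Y) : Prop :=
  ∀ (U : Opens (S Y)) (p : ℕ) (c : G.obj.obj (op ((above U) _⦋p + 1⦌))),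
    rowD G U (p + 1) c = 0 → ∃ b, rowD G U p b = c

/-- The free presheaf on an object. -/
noncomputable def rep (Y : AugSp.{u}) : Pt Y ⥤ (Pt Y)ᵒᵖ ⥤ AddCommGrpCat.{u} :=
  yoneda ⋙ (Functor.whiskeringRight _ _ _).obj AddCommGrpCat.free

/-- The map of a section. -/
noncomputable def ofSection {X : Pt Y} (M : (Pt Y)ᵒᵖ ⥤ AddCommGrpCat.{u}) (x : M.obj (op X)) :
    (rep Y).obj X ⟶ M where
  app Z := AddCommGrpCat.ofHom (FreeAbelianGroup.lift fun f => M.map f.op x)
  naturality Z Z' g := by
    refine AddCommGrpCat.hom_ext ?_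
    refine FreeAbelianGroup.lift_ext _ _ fun f => ?_
    change FreeAbelianGroup.lift (fun f : unop Z' ⟶ X => M.map f.op x)
      (FreeAbelianGroup.map (fun f : unop Z ⟶ X => g.unop ≫ f) (FreeAbelianGroup.of f)) =
      M.map g (FreeAbelianGroup.lift (fun f : unop Z ⟶ X => M.map f.op x) (FreeAbelianGroup.of f))
    rw [FreeAbelianGroup.map_of_apply, FreeAbelianGroup.lift_apply_of, FreeAbelianGroup.lift_apply_of]
    exact ConcreteCategory.congr_hom (M.map_comp f.op g) x

/-- The section of a map. -/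
noncomputable def toSection {X : Pt Y} {M : (Pt Y)ᵒᵖ ⥤ AddCommGrpCat.{u}} (φ : (rep Y).obj X ⟶ M) :
    M.obj (op X) :=
  φ.app (op X) (FreeAbelianGroup.of (𝟙 X))

lemma toSection_ofSection {X : Pt Y} (M : (Pt Y)ᵒᵖ ⥤ AddCommGrpCat.{u}) (x : M.obj (op X)) :
    toSection (ofSection M x) = x := by
  change FreeAbelianGroup.lift (fun f : X ⟶ X => M.map f.op x) (FreeAbelianGroup.of (𝟙 X)) = x
  rw [FreeAbelianGroup.lift_apply_of]
  exact ConcreteCategory.congr_hom (M.map_id (op X)) x

lemma rep_hom_ext {X : Pt Y} {M : (Pt Y)ᵒᵖ ⥤ AddCommGrpCat.{u}} {φ ψ : (rep Y).obj X ⟶ M}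
    (h : toSection φ = toSection ψ) : φ = ψ := by
  ext Z : 2
  refine AddCommGrpCat.hom_ext ?_
  refine FreeAbelianGroup.lift_ext _ _ fun f => ?_
  have key : ∀ χ : (rep Y).obj X ⟶ M,
      χ.app Z (FreeAbelianGroup.of f) = M.map f.op (toSection χ) := fun χ => by
    refine Eq.trans ?_ (NatTrans.naturality_apply χ f.op (FreeAbelianGroup.of (𝟙 X)))
    refine congrArg (χ.app Z) ?_
    exact ((FreeAbelianGroup.map_of_apply (f := fun k : X ⟶ X => f ≫ k) (𝟙 X)).trans
      (congrArg FreeAbelianGroup.of (Category.comp_id f))).symm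
  exact (key φ).trans ((congrArg _ h).trans (key ψ).symm)

lemma toSection_map {X X' : Pt Y} (a : X ⟶ X') {M : (Pt Y)ᵒᵖ ⥤ AddCommGrpCat.{u}}
    (φ : (rep Y).obj X' ⟶ M) : toSection ((rep Y).map a ≫ φ) = M.map a.op (toSection φ) := by
  refine Eq.trans ?_ (NatTrans.naturality_apply φ a.op (FreeAbelianGroup.of (𝟙 X')))
  refine congrArg (φ.app (op X)) ?_
  exact (FreeAbelianGroup.map_of_apply (f := fun k : X ⟶ X => k ≫ a) (𝟙 X)).trans
    (((congrArg FreeAbelianGroup.of ((Category.id_comp a).trans (Category.comp_id a).symm))).trans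
      (FreeAbelianGroup.map_of_apply (f := fun k : X' ⟶ X' => a ≫ k) (𝟙 X')).symm)

lemma injective_obj (I : Sh Y) [Injective I] : Injective I.obj :=
  haveI : (sheafToPresheaf (_root_.FibDesc.totPart (Fam Y) (Top Y))
      AddCommGrpCat.{u}).PreservesInjectiveObjects :=
    Functor.preservesInjectiveObjects_of_adjunction_of_preservesMonomorphisms
      (sheafificationAdjunction _ _)
  Functor.injective_obj (sheafToPresheaf (_root_.FibDesc.totPart (Fam Y) (Top Y)) _) I

theorem lvlFlasque_of_injective (I : Sh Y) [Injective I] : LvlFlasque I := by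
  intro p U V h x
  have := injective_obj I
  have : Mono (vert (Y := Y) h) := ⟨fun {Z} a b e => hom_ext_base (by
    have e' := congrArg (fun k => k.base) e
    exact (Category.comp_id a.base).symm.trans (e'.trans (Category.comp_id b.base)))⟩
  have : Mono ((rep Y).map (vert (Y := Y) h)) := by
    haveI : ∀ Z, Mono (((rep Y).map (vert (Y := Y) h)).app Z) := fun Z => by
      change Mono (AddCommGrpCat.free.map ((yoneda.map (vert (Y := Y) h)).app Z))
      haveI : Mono ((yoneda.map (vert (Y := Y) h)).app Z) := inferInstance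
      infer_instance
    exact NatTrans.mono_of_mono_app _
  refine ⟨toSection (Injective.factorThru (ofSection I.obj x) ((rep Y).map (vert (Y := Y) h))), ?_⟩
  rw [← toSection_map, Injective.comp_factorThru, toSection_ofSection]

/-- The chain of free presheaves on the parts above `U`. -/
noncomputable abbrev freeObj (U : Opens (S Y)) : SimplicialObject ((Pt Y)ᵒᵖ ⥤ AddCommGrpCat.{u}) :=
  above U ⋙ rep Y

/-- The chain complex. -/
noncomputable abbrev freeCx (U : Opens (S Y)) : ChainComplex ((Pt Y)ᵒᵖ ⥤ AddCommGrpCat.{u}) ℕ :=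
  (AlgebraicTopology.alternatingFaceMapComplex _).obj (freeObj U)

lemma toSection_d (U : Opens (S Y)) (p : ℕ) {I : Sh Y}
    (φ : (freeCx U).X p ⟶ I.obj) :
    toSection ((freeCx U).d (p + 1) p ≫ φ) = rowD I U p (toSection φ) := by
  rw [AlgebraicTopology.alternatingFaceMapComplex_obj_d, AlgebraicTopology.AlternatingFaceMapComplex.objD,
    Preadditive.sum_comp, rowD_apply]
  refine (map_sum (AddMonoidHom.mk' (fun ψ : (freeCx U).X (p + 1) ⟶ I.obj => toSection ψ)
    fun _ _ => rfl) _ _).trans ?_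
  refine Finset.sum_congr rfl fun i _ => ?_
  refine (congrArg toSection (Preadditive.zsmul_comp _ _ _)).trans ?_
  refine ((AddMonoidHom.mk' (fun ψ : (freeCx U).X (p + 1) ⟶ I.obj => toSection ψ)
    fun _ _ => rfl).map_zsmul _ _).trans ?_
  exact congrArg _ (toSection_map ((above U).δ i) φ)

section Contraction

variable {U : Opens (S Y)} {Z : Pt Y} {p : ℕ}

/-- The map on vertices. -/
noncomputable def consFun (f : Z ⟶ (above U) _⦋p⦌) : Fin (p + 2) → Fin ((deg Z).len + 1) :=
  fun i => Fin.cases (motive := fun _ => Fin ((deg Z).len + 1)) 0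
    (fun i => f.base.unop.toOrderHom i) i

lemma consFun_zero (f : Z ⟶ (above U) _⦋p⦌) : consFun f 0 = 0 := rfl

lemma consFun_succ (f : Z ⟶ (above U) _⦋p⦌) (i : Fin (p + 1)) :
    consFun f i.succ = f.base.unop.toOrderHom i := rfl

/-- Adding the first vertex. -/
noncomputable def cons (f : Z ⟶ (above U) _⦋p⦌) : Z ⟶ (above U) _⦋p + 1⦌ :=
  toAbove (below_of_hom f (above_below U _)) (SimplexCategory.Hom.mk
    ⟨consFun f, by
      intro i j hij
      induction i using Fin.cases with
      | zero => exact Fin.zero_le _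
      | succ i =>
        induction j using Fin.cases with
        | zero => exact absurd hij (by simp)
        | succ j => exact f.base.unop.toOrderHom.monotone (Fin.succ_le_succ_iff.1 hij)⟩)

lemma cons_δ_zero (f : Z ⟶ (above U) _⦋p⦌) : cons f ≫ (above U).δ 0 = f :=
  hom_ext_base (Quiver.Hom.unop_inj (by
    ext i
    change (consFun f ((0 : Fin (p + 2)).succAbove i)).val = (f.base.unop.toOrderHom i).val
    rw [Fin.succAbove_zero, consFun_succ]))

lemma cons_δ_succ (f : Z ⟶ (above U) _⦋p + 1⦌) (i : Fin (p + 2)) :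
    cons f ≫ (above U).δ i.succ = cons (f ≫ (above U).δ i) :=
  hom_ext_base (Quiver.Hom.unop_inj (by
    ext j
    revert j
    change ∀ j : Fin (p + 2), (consFun f (i.succ.succAbove j)).val =
      (consFun (f ≫ (above U).δ i) j).val
    intro j
    induction j using Fin.cases with
    | zero => rw [Fin.succ_succAbove_zero, consFun_zero, consFun_zero]
    | succ j =>
      rw [Fin.succ_succAbove_succ, consFun_succ, consFun_succ]
      rfl))

/-- The differential on generators. -/
noncomputable def dF (U : Opens (S Y)) (Z : Pt Y) (p : ℕ) :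
    FreeAbelianGroup (Z ⟶ (above U) _⦋p + 1⦌) →+ FreeAbelianGroup (Z ⟶ (above U) _⦋p⦌) :=
  (((freeCx U).d (p + 1) p).app (op Z)).hom

lemma free_d_of (f : Z ⟶ (above U) _⦋p + 1⦌) :
    dF U Z p (FreeAbelianGroup.of f) =
      ∑ i : Fin (p + 2), ((-1 : ℤ) ^ (i : ℕ)) • FreeAbelianGroup.of (f ≫ (above U).δ i) := by
  change ((freeCx U).d (p + 1) p).app (op Z) (FreeAbelianGroup.of f) = _
  rw [AlgebraicTopology.alternatingFaceMapComplex_obj_d, AlgebraicTopology.AlternatingFaceMapComplex.objD]
  refine (map_sum (AddMonoidHom.mk' (fun ψ : (freeCx U).X (p + 1) ⟶ (freeCx U).X p =>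
    ψ.app (op Z) (FreeAbelianGroup.of f)) fun _ _ => rfl) _ _).trans ?_
  refine Finset.sum_congr rfl fun i _ => ?_
  exact congrArg (((-1 : ℤ) ^ (i : ℕ)) • ·)
    (FreeAbelianGroup.map_of_apply (f := fun k : Z ⟶ _ => k ≫ (above U).δ i) f)

lemma free_homotopy (x : FreeAbelianGroup (Z ⟶ (above U) _⦋p + 1⦌)) :
    dF U Z (p + 1) (FreeAbelianGroup.map cons x) + FreeAbelianGroup.map cons (dF U Z p x) = x := by
  let Φ : FreeAbelianGroup (Z ⟶ (above U) _⦋p + 1⦌) →+ FreeAbelianGroup (Z ⟶ (above U) _⦋p + 1⦌) :=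
    (dF U Z (p + 1)).comp (FreeAbelianGroup.map cons) + (FreeAbelianGroup.map cons).comp (dF U Z p)
  refine DFunLike.congr_fun (FreeAbelianGroup.lift_ext Φ (AddMonoidHom.id _) fun f => ?_) x
  change dF U Z (p + 1) (FreeAbelianGroup.map cons (FreeAbelianGroup.of f)) +
    FreeAbelianGroup.map cons (dF U Z p (FreeAbelianGroup.of f)) = FreeAbelianGroup.of f
  rw [FreeAbelianGroup.map_of_apply, free_d_of, free_d_of, map_sum, Fin.sum_univ_succ, cons_δ_zero,
    Fin.val_zero, pow_zero, one_smul, add_assoc]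
  refine add_eq_left.2 ?_
  rw [← Finset.sum_add_distrib]
  refine Finset.sum_eq_zero fun i _ => ?_
  rw [map_zsmul, FreeAbelianGroup.map_of_apply, cons_δ_succ, Fin.val_succ, pow_succ, mul_neg_one,
    neg_smul, neg_add_cancel]

end Contraction

lemma freeCx_exact (U : Opens (S Y)) (p : ℕ) :
    (ShortComplex.mk ((freeCx U).d (p + 1 + 1) (p + 1)) ((freeCx U).d (p + 1) p)
      ((freeCx U).d_comp_d _ _ _)).Exact := by
  refine exact_of_app _ fun Z => ?_
  rw [ShortComplex.ab_exact_iff]
  intro x hx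
  let x' : FreeAbelianGroup (Z.unop ⟶ (above U) _⦋p + 1⦌) := x
  refine ⟨FreeAbelianGroup.map (cons (U := U)) x', ?_⟩
  have e : FreeAbelianGroup.map (cons (U := U)) (dF U Z.unop p x') = 0 :=
    (congrArg (FreeAbelianGroup.map (cons (U := U))) (show dF U Z.unop p x' = 0 from hx)).trans
      (map_zero _)
  have := free_homotopy x'
  rw [e, add_zero] at this
  exact this
where
  exact_of_app {C : Type u} [SmallCategory C] (T : ShortComplex (C ⥤ AddCommGrpCat.{u}))
      (h : ∀ Z, (T.map ((evaluation C AddCommGrpCat.{u}).obj Z)).Exact) : T.Exact := by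
    rw [ShortComplex.exact_iff_isZero_homology]
    exact Functor.isZero _ fun Z => ((T.map ((evaluation C _).obj Z)).exact_iff_isZero_homology.1
      (h Z)).of_iso (T.mapHomologyIso ((evaluation C _).obj Z)).symm

theorem rowEx_of_injective (I : Sh Y) [Injective I] : RowEx I := by
  intro U p c hc
  have := injective_obj I
  let φ : (freeCx U).X (p + 1) ⟶ I.obj := ofSection I.obj c
  have hφ : (freeCx U).d (p + 1 + 1) (p + 1) ≫ φ = 0 := rep_hom_ext (by
    rw [toSection_d, toSection_ofSection, hc]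
    rfl)
  refine ⟨toSection ((freeCx_exact U p).descToInjective φ hφ), ?_⟩
  rw [← toSection_d]
  exact (congrArg toSection ((freeCx_exact U p).comp_descToInjective φ hφ)).trans
    (toSection_ofSection _ _)

end Groth.Agent.Lib.FibDesc.Flasque
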