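import Groth.Agent.Lib.FibDesc.Step

/-!
# Hypercoverings for universal cohomological descent
-/

set_option autoImplicit false
set_option linter.style.haveILetI false

universe u

open CategoryTheory Limits TopologicalSpace Opposite Topology

/- `open Simplicial` would capture `|` in pattern matching for a geometric realisation. -/
local notation "⦋" n "⦌" => SimplexCategory.mk n
local notation:1000 X:1000 " _⦋" n "⦌" => Functor.obj X (op (SimplexCategory.mk n))

namespace Groth.Agent.Lib.FibDesc.Hyper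

open Groth.Agent.H30.Gode Groth.Agent.H30.E1 Transfer Htpy CoskExt Step

variable {S : TopCat.{u}}
  [∀ (n : ℕ) (G : (SimplexCategory.Truncated n)ᵒᵖ ⥤ Over S),
    (SimplexCategory.Truncated.inclusion n).op.HasRightKanExtension G]

lemma exists_hom {n : ℕ} {Q P : SimplicialObject (Over S)} (hP : Ext n P)
    (g : ∀ k, k ≤ n → (Q _⦋k⦌ ⟶ P _⦋k⦌))
    (hg : ∀ k l (hk : k ≤ n) (hl : l ≤ n) (ψ : ⦋l⦌ ⟶ ⦋k⦌),
      Q.map ψ.op ≫ g l hl = g k hk ≫ P.map ψ.op) :
    ∃ Φ : Q ⟶ P, ∀ k hk, Φ.app (op ⦋k⦌) = g k hk := by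
  have h : ∀ m : ℕ, ∃ a : Q _⦋m⦌ ⟶ P _⦋m⦌, ∀ k hk (φ : ⦋k⦌ ⟶ ⦋m⦌),
      a ≫ P.map φ.op = Q.map φ.op ≫ g k hk := fun m => by
    obtain ⟨a, ha, -⟩ := hP m (Q _⦋m⦌) (fun k hk φ => Q.map φ.op ≫ g k hk) fun k l hk hl ψ φ => by
      rw [Category.assoc, ← hg k l hk hl ψ, op_comp, Functor.map_comp, Category.assoc]
    exact ⟨a, ha⟩
  choose a ha using h
  refine ⟨{ app := fun m => a m.unop.len, naturality := fun m m' θ => ?_ }, fun k hk => ?_⟩
  · refine hP.hom_ext fun k hk φ => ?_
    rw [Category.assoc, ha m'.unop.len k hk φ, ← Category.assoc, ← Functor.map_comp, Category.assoc,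
      ← Functor.map_comp]
    exact (ha m.unop.len k hk (φ ≫ θ.unop)).symm
  · have := ha k k hk (𝟙 _)
    simpa using this

variable (K : SimplicialObject (Over S))

/-- The coskeleton. -/
noncomputable abbrev ck (n : ℕ) : SimplicialObject (Over S) := (SimplicialObject.cosk n).obj K

/-- The unit of the coskeleton. -/
noncomputable abbrev un (n : ℕ) : K ⟶ ck K n := (SimplicialObject.coskAdj n).unit.app K

lemma un_nat (n : ℕ) {k l : ℕ} (ψ : ⦋l⦌ ⟶ ⦋k⦌) :
    K.map ψ.op ≫ (un K n).app (op ⦋l⦌) = (un K n).app (op ⦋k⦌) ≫ (ck K n).map ψ.op :=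
  (un K n).naturality ψ.op

/-- The transition between consecutive coskeleta. -/
lemma exists_trans (n : ℕ) : ∃ π : ck K (n + 1) ⟶ ck K n,
    ∀ k, un K (n + 1) ≫ π = un K n ∧ (k ≤ n → IsIso (π.app (op ⦋k⦌))) := by
  have iso : ∀ k, k ≤ n → IsIso ((un K (n + 1)).app (op ⦋k⦌)) := fun k hk =>
    isIso_unit_app K (hk.trans (Nat.le_succ n))
  obtain ⟨π, hπ⟩ := exists_hom (Q := ck K (n + 1)) (ext_cosk (N := n) K)
    (fun k hk => haveI := iso k hk
      inv ((un K (n + 1)).app (op ⦋k⦌)) ≫ (un K n).app (op ⦋k⦌))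
    fun k l hk hl ψ => by
      have := iso k hk
      have := iso l hl
      rw [Category.assoc, IsIso.eq_inv_comp, ← Category.assoc, ← un_nat K (n + 1) ψ, Category.assoc,
        IsIso.hom_inv_id_assoc, un_nat K n ψ]
  refine ⟨π, fun k => ⟨NatTrans.ext (funext fun m => ?_), fun hk => ?_⟩⟩
  · refine (ext_cosk (N := n) K).hom_ext (m := m.unop.len) fun k hk φ => ?_
    have := iso k hk
    rw [NatTrans.comp_app, Category.assoc, ← π.naturality φ.op, hπ k hk, ← Category.assoc,
      ← (un K (n + 1)).naturality φ.op, Category.assoc]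
    exact (congrArg (K.map φ.op ≫ ·) (IsIso.hom_inv_id_assoc _ _)).trans ((un K n).naturality φ.op)
  · have := iso k hk
    have := isIso_unit_app (N := n) K hk
    rw [hπ k hk]
    infer_instance

variable (F : CohTop.Ab S) (U : Opens S)

/-- The coskeleton in dimension zero is the nerve of the augmentation. -/
theorem te_zero (h0 : _root_.FibDesc.IsUnivCohDescentMap (K _⦋0⦌).hom) : TE F (ck K 0) U := by
  have := isIso_unit_app (N := 0) K (le_refl 0)
  let h := (K _⦋0⦌).hom
  let e₀ := asIso ((un K 0).app (op ⦋0⦌))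
  let X := ck K 0
  let v : ∀ (m : ℕ), Fin (m + 1) → (X _⦋m⦌ ⟶ K _⦋0⦌) := fun m j =>
    X.map (SimplexCategory.const ⦋0⦌ ⦋m⦌ j).op ≫ e₀.inv
  have hv : ∀ {a b : SimplexCategoryᵒᵖ} (g : a ⟶ b) (j : Fin (b.unop.len + 1)),
      X.map g ≫ v b.unop.len j = v a.unop.len (g.unop.toOrderHom j) := fun {a b} g j => by
    change X.map g ≫ X.map _ ≫ e₀.inv = X.map _ ≫ e₀.inv
    rw [← Category.assoc, ← Functor.map_comp]
    rfl
  have pj : ∀ (m : ℕ) (j : Fin (m + 1)),
      ∃ p : (nerve h) _⦋m⦌ ⟶ K _⦋0⦌, p.left = pwπ h m j := fun m j =>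
    ⟨Over.homMk (pwπ h m j) (WidePullback.π_arrow _ j), rfl⟩
  choose p hp using pj
  have nerve_ext : ∀ {m : ℕ} {T : Over S} {f g : T ⟶ (nerve h) _⦋m⦌},
      (∀ j, f ≫ p m j = g ≫ p m j) → f = g := fun {m T f g} hh =>
    Over.OverMorphism.ext (WidePullback.hom_ext _ _ _
      (fun j => (congrArg (fun e => f.left ≫ e) (hp m j)).symm.trans
        ((congrArg CommaMorphism.left (hh j)).trans (congrArg (fun e => g.left ≫ e) (hp m j))))
      ((Over.w f).trans (Over.w g).symm))
  let θ : ∀ m : ℕ, X _⦋m⦌ ⟶ (nerve h) _⦋m⦌ := fun m =>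
    Over.homMk (WidePullback.lift (X _⦋m⦌).hom (fun j => (v m j).left) fun j => Over.w (v m j))
      (WidePullback.lift_base _ _ _ _)
  have hθ : ∀ m j, θ m ≫ p m j = v m j := fun m j => Over.OverMorphism.ext (by
    rw [Over.comp_left, hp]
    exact WidePullback.lift_π _ _ _ _ j)
  have hiso : ∀ m, IsIso (θ m) := fun m => by
    obtain ⟨a, ha, -⟩ := ext_cosk (N := 0) K m ((nerve h) _⦋m⦌)
      (fun k hk φ => (show k = 0 by omega) ▸
        (fun φ' : ⦋0⦌ ⟶ ⦋m⦌ => p m (φ'.toOrderHom 0) ≫ (un K 0).app (op ⦋0⦌))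
          ((show k = 0 by omega) ▸ φ))
      (fun k l hk hl ψ φ => by
        obtain rfl : k = 0 := by omega
        obtain rfl : l = 0 := by omega
        obtain rfl : ψ = 𝟙 _ := by
          ext i
          exact congrArg Fin.val (Subsingleton.elim (α := Fin 1) _ _)
        simp)
    refine ⟨a, (ext_cosk (N := 0) K).hom_ext fun k hk φ => ?_, nerve_ext fun j => ?_⟩
    · obtain rfl : k = 0 := by omega
      rw [Category.assoc, ha 0 hk φ, Category.id_comp, ← Category.assoc, hθ]
      change (X.map _ ≫ e₀.inv) ≫ e₀.hom = _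
      rw [Category.assoc, e₀.inv_hom_id, Category.comp_id]
      exact congrArg (fun t => X.map t.op) (SimplexCategory.eq_const_of_zero φ).symm
    · rw [Category.assoc, hθ, Category.id_comp]
      change a ≫ X.map _ ≫ e₀.inv = _
      rw [← Category.assoc, ha 0 le_rfl _]
      exact (Category.assoc _ _ _).trans ((congrArg (p m _ ≫ ·) e₀.hom_inv_id).trans (Category.comp_id _))
  let i : X ≅ nerve h := NatIso.ofComponents
    (fun m => haveI := hiso m.unop.len; asIso (θ m.unop.len)) fun {a b} g => nerve_ext fun j => by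
      change (X.map g ≫ θ b.unop.len) ≫ p b.unop.len j = (θ a.unop.len ≫ (nerve h).map g) ≫ _
      rw [Category.assoc, hθ, Category.assoc, hv g j, ← hθ a.unop.len (g.unop.toOrderHom j)]
      refine congrArg (θ a.unop.len ≫ ·) (Over.OverMorphism.ext ?_)
      rw [Over.comp_left, hp, hp]
      exact (WidePullback.lift_π (fun _ : Fin (b.unop.len + 1) => h) _
        (fun i => pwπ h a.unop.len (g.unop.toOrderHom i)) (fun _ => WidePullback.π_arrow _ _) j).symm
  refine (te_iff_of_iso F (nerve h) i U).1 ((isCohDescentMap_iff h).1 ?_ F U)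
  exact Univ.isCohDescentMap_of_iso (asIso (pullback.fst h (𝟙 _))).symm
    ((Iso.inv_comp_eq _).2 ((Category.comp_id _).symm.trans pullback.condition.symm)) (h0 _ (𝟙 _))

/-- Coskeleta of hypercoverings are of descent. -/
theorem te_cosk (h0 : _root_.FibDesc.IsUnivCohDescentMap (K _⦋0⦌).hom)
    (hn : ∀ n : ℕ, _root_.FibDesc.IsUnivCohDescentMap ((un K n).app (op ⦋n + 1⦌)).left) :
    ∀ n, TE F (ck K n) U
  | 0 => te_zero K F U h0
  | n + 1 => by
    obtain ⟨π, hπ⟩ := exists_trans K n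
    have : ∀ Δ : {Δ : SimplexCategory // Δ.len ≤ n}, IsIso (π.app (op Δ.1)) := fun Δ =>
      (hπ Δ.1.len).2 Δ.2
    have hQ := ext_cosk (N := n + 1) K
    have hP := (ext_cosk (N := n) K).succ
    refine te_step F U π hQ hP (isUniv_app π hQ hP ?_) (te_cosk h0 hn n)
    have := isIso_unit_app (N := n + 1) K (le_refl (n + 1))
    have e : ((un K (n + 1)).app (op ⦋n + 1⦌)).left ≫ (π.app (op ⦋n + 1⦌)).left =
        ((un K n).app (op ⦋n + 1⦌)).left := by
      rw [← Over.comp_left, ← NatTrans.comp_app, (hπ 0).1]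
    exact Univ.isUniv_of_iso
      ((Over.forget S).mapIso (asIso ((un K (n + 1)).app (op ⦋n + 1⦌)))).symm
      ((Iso.inv_comp_eq _).2 e.symm) (hn n)

omit [∀ (n : ℕ) (G : (SimplexCategory.Truncated n)ᵒᵖ ⥤ Over S),
    (SimplexCategory.Truncated.inclusion n).op.HasRightKanExtension G] in
lemma ind_bijective {X Y : SimplicialObject (Over S)} (f : X ⟶ Y) (p : ℕ)
    (h : ∀ m, p = m + 1 → IsIso (f.app (op ⦋m⦌))) (q : ℕ) :
    Function.Bijective ((ind F U f).f p q) := by
  have hi : IsIso (mapT f (𝟙 (Over.mk (𝟙 S))) p) := by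
    cases p with
    | zero => exact IsIso.id _
    | succ m => exact h m rfl
  let j := inv (mapT f (𝟙 (Over.mk (𝟙 S))) p)
  have hid : ∀ (T : Over S) (x : (lv F T.hom q).Fn), pb F q (𝟙 T) x = x := fun T x =>
    ConcreteCategory.congr_hom ((fnF F q).map_id (op T)) x
  let g := QuotientAddGroup.map (NB F X _ _ (toBase_cond X) U p q) (NB F Y _ _ (toBase_cond Y) U p q)
    (pb F q j) (fun x hx => mem_NB.2 fun t ht => pb_vanish _ (mem_NB.1 hx t ht))
  refine Function.bijective_iff_has_inverse.2 ⟨g, fun x => ?_, fun x => ?_⟩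
  · induction x using QuotientAddGroup.induction_on with
    | _ x =>
      refine congrArg (QuotientAddGroup.mk' _) ((pb_comp F q _ _ x).trans ?_)
      exact (congrArg (fun e => pb F q e x) (IsIso.inv_hom_id _)).trans (hid _ x)
  · induction x using QuotientAddGroup.induction_on with
    | _ x =>
      refine congrArg (QuotientAddGroup.mk' _) ((pb_comp F q _ _ x).trans ?_)
      exact (congrArg (fun e => pb F q e x) (IsIso.hom_inv_id _)).trans (hid _ x)

/-- **Hypercoverings for universal descent are of descent.** -/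
theorem te_hyper (h0 : _root_.FibDesc.IsUnivCohDescentMap (K _⦋0⦌).hom)
    (hn : ∀ n : ℕ, _root_.FibDesc.IsUnivCohDescentMap ((un K n).app (op ⦋n + 1⦌)).left) :
    TE F K U :=
  (exactTot_iff_exDeg _).2 fun N => exDeg_of_bijective (ind F U (un K N))
    (fun p q hp => ind_bijective F U (un K N) p (fun m hm => isIso_unit_app K (by omega)) q)
    ((exactTot_iff_exDeg _).1 (te_cosk K F U h0 hn N) N)

end Groth.Agent.Lib.FibDesc.Hyper
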