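import Groth.Agent.Lib.FibDesc.Rows
import Groth.Agent.Lib.FibDesc.Acyclic

/-!
# The resolution of the inverse image by families of stalk values
-/

set_option autoImplicit false

universe u

open CategoryTheory Limits Opposite TopologicalSpace Pseudofunctor.CoGrothendieck Simplicial Topology Filter

namespace Groth.Agent.Lib.FibDesc.Model

open Site Rows Flasque Groth.Agent.H30.Gode Groth.Agent.FibSiteLib

variable {Y : AugSp.{u}} (F : CohTop.Ab (S Y)) (q : ℕ)

/-- Families over the opens of the simplicial space. -/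
noncomputable abbrev Cpre : (Pt Y)ᵒᵖ ⥤ AddCommGrpCat.{u} := (space (Y := Y)).op ⋙ fnF F q

lemma pb_injective {T T' : Over (S Y)} (j : T' ⟶ T) (hj : IsOpenEmbedding j.left) (z : T'.left) :
    Function.Injective ((hom F j.left (Over.w j) q).m z) :=
  (hom_bijective F j.left (Over.w j) hj q z).1

section Sheaf

variable (p : SimplexCategory)

/-- The level in degree `p`. -/
noncomputable abbrev lvl : Lv (Sp Y p) := lv F (θ Y p) q

/-- Families on an open as families over it. -/
noncomputable def toFam (V : Opens (Sp Y p)) :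
    (godPre (lvl F q p)).obj (op V) →+ (Cpre F q).obj (op (mk p V)) :=
  (pb F q (toWhole (mk (Y := Y) p V))).comp (ext0 (lvl F q p) V)

lemma toFam_bijective (V : Opens (Sp Y p)) : Function.Bijective (toFam F q p V) := by
  refine ⟨fun a b e => ?_, fun x => ?_⟩
  · funext z
    have h1 := pb_faithful F (toWhole (mk (Y := Y) p V)) (isOpenEmbedding_toWhole _) e z
    rw [← ext0_of_mem (lvl F q p) a z.1 z.2, ← ext0_of_mem (lvl F q p) b z.1 z.2]
    exact h1
  · obtain ⟨φ, hφ⟩ := pb_surjective (F := F) (q := q) (toWhole (mk (Y := Y) p V))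
      (isOpenEmbedding_toWhole _) x
    refine ⟨fun z => φ z.1, ?_⟩
    rw [← hφ]
    funext z
    exact congrArg ((hom F (toWhole (mk (Y := Y) p V)).left (Over.w _) q).m z)
      (ext0_of_mem (lvl F q p) (fun y : V => φ y.1) ((toWhole (mk (Y := Y) p V)).left z) z.2)

lemma toFam_natural {U V : Opens (Sp Y p)} (i : U ⟶ V) (s : (godPre (lvl F q p)).obj (op V)) :
    toFam F q p U ((godPre (lvl F q p)).map i.op s) =
      upb F (vert (Y := Y) i.le) (toFam F q p V s) := by
  refine Eq.trans ?_ (pb_comp F q _ _ _).symm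
  have e : (space (Y := Y)).map (vert (Y := Y) i.le) ≫ toWhole (mk p V) = toWhole (mk p U) :=
    Over.OverMorphism.ext (by
      ext z
      exact ConcreteCategory.congr_hom (str_id Y p) z.1)
  refine Eq.trans ?_ (congrArg (fun g => pb F q g (ext0 (lvl F q p) V s)) e).symm
  funext z
  refine congrArg ((hom F (toWhole (mk (Y := Y) p U)).left (Over.w _) q).m z) ?_
  refine (ext0_of_mem (lvl F q p) _ _ z.2).trans ?_
  exact (ext0_of_mem (lvl F q p) s ((toWhole (mk (Y := Y) p U)).left z) (i.le z.2)).symm

/-- The families form the sheaf of families of values of the level. -/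
noncomputable def lvlIso :
    godPre (lvl F q p) ≅ (ι (_root_.FibDesc.part (Fam Y)) (op p)).op ⋙ Cpre F q :=
  NatIso.ofComponents
    (fun V => (AddEquiv.ofBijective (toFam F q p V.unop) (toFam_bijective F q p V.unop)).toAddCommGrpIso)
    (fun {V W} i => by
      ext s
      exact toFam_natural F q p i.unop s)

end Sheaf

theorem isSheaf : Presheaf.IsSheaf (_root_.FibDesc.totPart (Fam Y) (Top Y)) (Cpre F q) :=
  (isSheaf_total_iff (isPreFibSite_part Y) _).2 fun p =>
    (Presheaf.isSheaf_of_iso_iff (lvlIso F q p.unop)).1 (godPre_isSheaf _)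

/-- The sheaf. -/
noncomputable def C : Sh Y := ⟨Cpre F q, isSheaf F q⟩

lemma C_map {X X' : Pt Y} (a : X ⟶ X') (x : (lv F ((space (Y := Y)).obj X').hom q).Fn) :
    (C F q).obj.map a.op x = upb F a x := rfl

/-- The differential. -/
noncomputable def d : C F q ⟶ C F (q + 1) := ⟨Functor.whiskerLeft (space (Y := Y)).op (dNat F q)⟩

lemma d_apply {X : Pt Y} (x : (lv F ((space (Y := Y)).obj X).hom q).Fn) :
    (d F q).hom.app (op X) x = (lv F ((space (Y := Y)).obj X).hom q).d' x := rfl

lemma d_d : d F q ≫ d F (q + 1) = 0 := by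
  ext X x
  exact (lv F ((space (Y := Y)).obj X.unop).hom q).d'_d' x

lemma isOpenEmbedding_vert {p : SimplexCategory} {U V : Opens (Sp Y p)} (h : U ≤ V) :
    IsOpenEmbedding ((space (Y := Y)).map (vert (Y := Y) h)).left := by
  refine IsOpenEmbedding.of_comp _ (isOpenEmbedding_toWhole (mk (Y := Y) p V)) ?_
  have e : (toWhole (mk (Y := Y) p V)).left ∘ ((space (Y := Y)).map (vert (Y := Y) h)).left =
      (toWhole (mk (Y := Y) p U)).left :=
    funext fun z => ConcreteCategory.congr_hom (str_id Y p) z.1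
  rw [e]
  exact isOpenEmbedding_toWhole _

lemma lvlFlasque : LvlFlasque (C F q) := fun _ _ _ h =>
  pb_surjective (F := F) (q := q) _ (isOpenEmbedding_vert h)

variable {F} in
lemma rowEx (H : RowsExact F (simp Y)) : RowEx (C F q) := by
  intro U p c hc
  rw [rowD_apply] at hc
  obtain ⟨b, hb⟩ := exact_above H U p c hc
  exact ⟨b, (rowD_apply _ _ _ _).trans hb⟩

/-- Germs of a section of the base, at stalks indexed by equal points. -/
lemma pb_germFam {T T' : Over (S Y)} (g : T' ⟶ T) (U : Opens (S Y)) (t : F.obj.obj (op U)) :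
    pb F 0 g (germFam F T.hom U t) = germFam F T'.hom U t := by
  funext z
  have key : ∀ {s s' : S Y} (e : s = s') (hs : s ∈ U) ,
      eqToHom (congrArg (stk F) e) (germ F hs t) = germ F (e ▸ hs) t := by
    intro s s' e hs
    subst e
    rfl
  have e : T.hom (g.left z) = T'.hom z := ConcreteCategory.congr_hom (Over.w g) z
  by_cases h : T'.hom z ∈ U
  · refine Eq.trans ?_ (germFam_of_mem F T'.hom t z h).symm
    refine (congrArg (baseM F g.left (Over.w g) z)
      (germFam_of_mem F T.hom t (g.left z) (e.symm ▸ h))).trans ?_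
    exact key e (e.symm ▸ h)
  · classical
    refine Eq.trans ?_ (dif_neg h).symm
    refine (congrArg (baseM F g.left (Over.w g) z) (dif_neg (fun h' => h (e ▸ h')))).trans ?_
    exact map_zero _

lemma germFam_zero (T : Over (S Y)) (U : Opens (S Y)) :
    germFam F T.hom U 0 = (0 : (lv F T.hom 0).Fn) := by
  classical
  funext z
  change (if h : T.hom z ∈ U then germ F h 0 else 0) = 0
  split <;> simp

section Push

variable [(_root_.FibDesc.incl (Fam Y)).IsContinuous (_root_.FibDesc.totPart (Fam Y) (Top Y))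
    (_root_.FibDesc.totAug (Fam Y) (Top Y))]
  [(_root_.FibDesc.incl (Fam Y)).IsCocontinuous (_root_.FibDesc.totPart (Fam Y) (Top Y))
    (_root_.FibDesc.totAug (Fam Y) (Top Y))]
  [(_root_.FibDesc.eps (Fam Y)).IsContinuous (Top Y (_root_.FibDesc.bot _))
    (_root_.FibDesc.totAug (Fam Y) (Top Y))]

variable {F} {U : Opens (S Y)}

lemma eqCond_base (φ : (lv F (baseSp U).hom q).Fn) :
    EqCond (C F q) U (pb F q (toBase (above_below U (op ⦋0⦌))) φ) := by
  refine (pb_comp F q _ _ φ).trans (Eq.trans ?_ (pb_comp F q _ _ φ).symm)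
  exact congrArg (fun g => pb F q g φ) ((map_toBase _ _).trans (map_toBase _ _).symm)

/-- A family on an open of the base as a section of the direct image. -/
noncomputable def elt : (lv F (baseSp U).hom q).Fn →+ ((push (Y := Y)).obj (C F q)).obj.obj (op U) :=
  AddMonoidHom.mk' (fun φ => (exists_ev₀ (C F q) (eqCond_base q φ)).choose) fun φ ψ =>
    ev₀_injective (C F q) (by
      refine ((exists_ev₀ (C F q) (eqCond_base q (φ + ψ))).choose_spec).trans ?_
      refine (map_add (pb F q (toBase (above_below U (op ⦋0⦌)))) φ ψ).trans ?_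
      refine Eq.trans ?_ (map_add _ _ _).symm
      exact congrArg₂ (· + ·) (exists_ev₀ (C F q) (eqCond_base q φ)).choose_spec.symm
        (exists_ev₀ (C F q) (eqCond_base q ψ)).choose_spec.symm)

lemma ev_elt {X : Pt Y} (h : Below U X) (φ : (lv F (baseSp U).hom q).Fn) :
    ev (C F q) h (elt q φ) = pb F q (toBase h) φ := by
  refine (ev_eq (C F q) _ h).trans ?_
  refine (congrArg _ (exists_ev₀ (C F q) (eqCond_base q φ)).choose_spec).trans ?_
  refine (pb_comp F q _ _ φ).trans ?_
  exact congrArg (fun g => pb F q g φ) (map_toBase _ _)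

lemma elt_bijective (H : RowsExact F (simp Y)) : Function.Bijective (elt (F := F) (U := U) q) := by
  refine ⟨fun φ ψ e => base_injective H U ?_, fun a => ?_⟩
  · have := congrArg (ev (C F q) (above_below U (op ⦋0⦌))) e
    rwa [ev_elt, ev_elt] at this
  · obtain ⟨φ, hφ⟩ := exists_base H U _ (eqCond_ev (C F q) a)
    exact ⟨φ, ev₀_injective (C F q) ((ev_elt q _ φ).trans hφ)⟩

/-- The inclusion of opens of the base. -/
noncomputable def baseIncl {V : Opens (S Y)} (i : V ⟶ U) : baseSp V ⟶ baseSp U :=
  Over.homMk (TopCat.ofHom ⟨fun z : V => (⟨z.1, i.le z.2⟩ : U),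
    Continuous.subtype_mk continuous_subtype_val _⟩) rfl

lemma elt_res {V : Opens (S Y)} (i : V ⟶ U) (φ : (lv F (baseSp U).hom q).Fn) :
    ((push (Y := Y)).obj (C F q)).obj.map i.op (elt q φ) = elt q (pb F q (baseIncl i) φ) := by
  refine ev₀_injective (C F q) ?_
  refine (ConcreteCategory.congr_hom (ev_res (C F q) i _) (elt q φ)).trans ?_
  refine (ev_elt q _ φ).trans (Eq.trans ?_ (ev_elt q _ _).symm)
  refine Eq.trans ?_ (pb_comp F q _ _ φ).symm
  exact congrArg (fun g => pb F q g φ) (Over.OverMorphism.ext rfl)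

lemma push_d_elt (φ : (lv F (baseSp U).hom q).Fn) :
    ((push (Y := Y)).map (d F q)).hom.app (op U) (elt q φ) =
      elt (q + 1) ((lv F (baseSp U).hom q).d' φ) := by
  refine ev₀_injective (C F (q + 1)) ?_
  refine (ConcreteCategory.congr_hom (ev_naturality (d F q) _) (elt q φ)).trans ?_
  refine Eq.trans ?_ (ev_elt (q + 1) _ _).symm
  refine (congrArg ((d F q).hom.app _) (ev_elt q (above_below U (op ⦋0⦌)) φ)).trans ?_
  exact ((hom F (toBase (above_below U (op ⦋0⦌))).left (Over.w _) q).next_fn_d' φ).symm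

end Push

end Groth.Agent.Lib.FibDesc.Model
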