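import Groth.Agent.H30.E1.BicxAug

/-!
# Column quasi-isomorphisms are surjective on total cohomology; the zeroth column

Let `φ : D → D'` be a morphism of bicomplexes which is a quasi-isomorphism on every column of
positive index. If the total complex of `D` is exact and the rows of `D'` are exact, then `φ` is
surjective on the cohomology of the zeroth columns.
-/

set_option autoImplicit false

universe u

open CategoryTheory

namespace Groth.Agent.Lib.FibDesc.TotSurj

open Groth.Agent.H30.E1 Bicx Bicx.Hom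

variable {D D' : Bicx.{u}} {φ : Hom D D'}

/-- Exactness of the mapping cone of total complexes. -/
lemma totBij (H : φ.ColQis) : ∀ (m n k : ℕ) (c : D.G) (b' : D'.G), n + 2 ≤ m + k →
    c ∈ D.W (n + 1) → b' ∈ D'.W n → c ∈ D.Fil k → b' ∈ D'.Fil k → D.tot c = 0 →
      φ.map c = D'.tot b' → ∃ (b : D.G) (w : D'.G), b ∈ D.W n ∧ D.tot b = c ∧
        (∀ l, l + 1 = n → w ∈ D'.W l) ∧ (n = 0 → w = 0) ∧ b' = φ.map b + D'.tot w
  | 0, n, k, c, b', hk, hW, hW', hF, hF', _, _ => ⟨0, 0, zero_mem _, by
      rw [map_zero, eq_zero_of_W_of_Fil hW hF (by omega)], fun _ _ => zero_mem _, fun _ => rfl, by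
      rw [map_zero, map_zero, add_zero, eq_zero_of_W_of_Fil hW' hF' (by omega)]⟩
  | m + 1, n, k, c, b', hk, hW, hW', hF, hF', hd, he => by
    by_cases hkn : n + 1 < k
    · exact ⟨0, 0, zero_mem _, by rw [map_zero, eq_zero_of_W_of_Fil hW hF hkn],
        fun _ _ => zero_mem _, fun _ => rfl, by
        rw [map_zero, map_zero, add_zero, eq_zero_of_W_of_Fil hW' hF' (by omega)]⟩
    obtain ⟨q, hq⟩ : ∃ q, k + q = n + 1 := ⟨n + 1 - k, by omega⟩
    have hz : D.v k q (c k q) = 0 := by
      have := congrFun (congrFun hd k) (q + 1)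
      rcases k with _ | k
      · simpa [tot_apply] using this
      · simpa [tot_apply, hF k (q + 1) (Nat.lt_succ_self k), ← smul_right_inj
          (show ((-1 : ℤ) ^ (k + 1)) ≠ 0 by simp)] using this
    have he' := congrFun (congrFun he k) q
    rcases q with _ | q
    · have hb : b' = 0 := eq_zero_of_W_of_Fil hW' hF' (by omega)
      subst hb
      rw [map_zero] at he he'
      exact totBij H m n (k + 1) c 0 (by omega) hW (zero_mem _) (fun i j hi => by
        rcases Nat.lt_succ_iff_lt_or_eq.1 hi with hi | rfl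
        · exact hF i j hi
        · by_cases hj : j = 0
          · subst hj; exact H.inj_zero _ _ hz he'
          · exact hW _ j (by omega)) (zero_mem _) hd (by rw [map_zero]; exact he)
    · have e1 : φ.f k (q + 1) (c k (q + 1)) = ((-1 : ℤ) ^ k) • D'.v k q (b' k q) := by
        rcases k with _ | k
        · simpa [map_apply, tot_apply] using he'
        · simpa [map_apply, tot_apply, hF' k (q + 1) (Nat.lt_succ_self k)] using he'
      obtain ⟨a, ha⟩ := H.inj k q _ hz ⟨((-1 : ℤ) ^ k) • b' k q, by rw [map_zsmul, e1]⟩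
      have hz' : D'.v k q (φ.f k q (((-1 : ℤ) ^ k) • a) - b' k q) = 0 := by
        rw [map_sub, map_zsmul, map_zsmul, ← φ.fv, ha, e1, smul_neg_one_pow_self, sub_self]
      obtain ⟨z, w, hz1, hz2, hwW, hw0, hzw⟩ : ∃ (z : D.X k q) (w : D'.G), D.v k q z = 0 ∧
          w ∈ D'.Fil k ∧ (∀ l, l + 1 = n → w ∈ D'.W l) ∧ (n = 0 → w = 0) ∧
          φ.f k q z = φ.f k q (((-1 : ℤ) ^ k) • a) - b' k q + D'.tot w k q := by
        rcases q with _ | q
        · obtain ⟨z, h1, h2⟩ := H.surj_zero k _ hz'
          exact ⟨z, 0, h1, zero_mem _, fun _ _ => zero_mem _, fun _ => rfl, by simp [h2]⟩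
        · obtain ⟨z, y, h1, h2⟩ := H.surj k q _ hz'
          refine ⟨z, D'.single k q (((-1 : ℤ) ^ k) • y), h1, single_mem_Fil _ _ _,
            fun l hl i j h => single_mem_W _ _ _ i j (by omega), fun h => absurd h (by omega), ?_⟩
          rw [tot_single_v, h2, map_zsmul (D'.v k q), smul_neg_one_pow_self]
      have hwtot : D'.tot w ∈ D'.W n := by
        rcases n with _ | l
        · rw [hw0 rfl, map_zero]; exact zero_mem _
        · exact tot_mem_W (hwW l rfl)
      let a' := ((-1 : ℤ) ^ k) • a - z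
      have ha' : φ.f k q a' = b' k q - D'.tot w k q := by
        simp only [a', map_sub, hzw]; abel
      have hn : k + q = n := by omega
      have hW1 : c - D.tot (D.single k q a') ∈ D.W (n + 1) :=
        sub_mem hW (tot_mem_W (hn ▸ single_mem_W k q a'))
      have hW1' : b' - φ.map (D.single k q a') - D'.tot w ∈ D'.W n :=
        sub_mem (sub_mem hW' (φ.map_mem_W (hn ▸ single_mem_W k q a'))) hwtot
      have hF1 : c - D.tot (D.single k q a') ∈ D.Fil (k + 1) := fun i j hi => by
        rcases Nat.lt_succ_iff_lt_or_eq.1 hi with hi | rfl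
        · exact sub_mem hF (tot_mem_Fil (single_mem_Fil k q a')) i j hi
        · by_cases hj : j = q + 1
          · subst hj
            simp only [Pi.sub_apply, tot_single_v, a', map_sub, map_zsmul, hz1, sub_zero, ha,
              smul_neg_one_pow_self, sub_self]
          · exact hW1 _ j (by omega)
      have hF1' : b' - φ.map (D.single k q a') - D'.tot w ∈ D'.Fil (k + 1) := fun i j hi => by
        rcases Nat.lt_succ_iff_lt_or_eq.1 hi with hi | rfl
        · exact sub_mem (sub_mem hF' (φ.map_mem_Fil (single_mem_Fil k q a')))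
            (tot_mem_Fil hz2) i j hi
        · by_cases hj : j = q
          · subst hj
            simp [map_single, ha']
          · exact hW1' _ j (by omega)
      obtain ⟨b, w', hb, e, hw'W, hw'0, e'⟩ := totBij H m n (k + 1) _ _ (by omega) hW1 hW1' hF1 hF1'
        (by rw [map_sub, hd, tot_tot, sub_zero])
        (by simp [map_sub, he, map_tot, tot_tot])
      refine ⟨b + D.single k q a', w' + w, add_mem hb (hn ▸ single_mem_W k q a'), ?_,
        fun l hl => add_mem (hw'W l hl) (hwW l hl), fun h => by rw [hw'0 h, hw0 h, add_zero], ?_⟩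
      · rw [map_add, e, sub_add_cancel]
      · rw [map_add, map_add]
        rw [sub_eq_iff_eq_add, sub_eq_iff_eq_add] at e'
        rw [e']
        abel

/-- The morphism away from the zeroth columns. -/
def tailHom (φ : Hom D D') : Hom D.tail D'.tail where
  f p q := φ.f (p + 1) q
  fh p q := φ.fh (p + 1) q
  fv p q := φ.fv (p + 1) q

lemma map_shift (φ : Hom D D') (b : D.tail.G) :
    φ.map (D.shift b) = D'.shift ((tailHom φ).map b) := by
  funext p q
  rcases p with _ | p
  · simp [map_apply]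
  · simp [map_apply, shift_succ, tailHom]

/-- Surjectivity on the cohomology of the zeroth columns, both degrees at once. -/
lemma exists_col (H : (tailHom φ).ColQis)
    (hex : ∀ n c, c ∈ D.W (n + 1) → D.tot c = 0 → ∃ b, b ∈ D.W n ∧ D.tot b = c)
    (H' : RowsAcyclic D') (m : ℕ) (a : D'.X 0 m) (ha : D'.v 0 m a = 0) :
      ∃ x : D.X 0 m, D.v 0 m x = 0 ∧
        ((∀ (n : ℕ) (h : n + 1 = m), ∃ y : D'.X 0 n, D'.v 0 n y = h ▸ (φ.f 0 m x - a)) ∧
          (m = 0 → φ.f 0 m x = a)) := by
    let z : D'.tail.G := ((-1 : ℤ) ^ m) • D'.tail.single 0 m (D'.h 0 m a)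
    have hzW : z ∈ D'.tail.W m := zsmul_mem (show D'.tail.single 0 m (D'.h 0 m a) ∈ D'.tail.W m from
      fun i j h => single_mem_W 0 m _ i j (by omega)) _
    have htot : D'.tot (D'.single 0 m a) = D'.shift z := by
      rw [tot_single_zero, ha, single_zero, zero_add, map_zsmul]
    have hz0 : D'.tail.tot z = 0 := by
      apply shift_injective (D := D')
      rw [← tot_shift, ← htot, tot_tot, map_zero]
    obtain ⟨c, w, hc, hc0, hwW, hw0, e⟩ := totBij H (m + 2) m 0 0 z (by omega) (zero_mem _) hzW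
      (fil_zero _) (fil_zero _) (map_zero _) (by rw [map_zero, hz0])
    obtain ⟨b, hb, heb⟩ := hex m (D.shift c) (shift_mem_W hc) (by rw [tot_shift, hc0, map_zero])
    refine ⟨b 0 m, by simpa [tot_apply] using congrFun (congrFun heb 0) (m + 1), ?_⟩
    have hsW : D'.shift w ∈ D'.W m := by
      rcases m with _ | l
      · rw [hw0 rfl, map_zero]; exact zero_mem _
      · exact shift_mem_W (hwW l rfl)
    let u : D'.G := φ.map b - D'.single 0 m a + D'.shift w
    have huW : u ∈ D'.W m :=
      add_mem (sub_mem (φ.map_mem_W hb) (fun i j h => single_mem_W 0 m a i j (by omega))) hsW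
    have hu : D'.tot u = 0 := by
      rw [map_add, map_sub, ← φ.map_tot, heb, htot, tot_shift, map_shift, e, map_add]
      abel
    have hu0 : u 0 m = φ.f 0 m (b 0 m) - a := by
      simp [u, map_apply]
    refine ⟨fun n hn => ?_, fun hm => ?_⟩
    · subst hn
      obtain ⟨y, hy, hey⟩ := H'.exact (n + 2) n 0 u (by omega) huW (filV_zero _) hu
      refine ⟨y 0 n, ?_⟩
      have := congrFun (congrFun hey 0) (n + 1)
      rw [hu0] at this
      simpa [tot_apply] using this
    · subst hm
      have := congrFun (congrFun (H'.zero_of huW hu) 0) 0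
      rw [hu0] at this
      exact sub_eq_zero.1 this

/-- Surjectivity in degree zero. -/
theorem surj_zero (H : (tailHom φ).ColQis)
    (hex : ∀ n c, c ∈ D.W (n + 1) → D.tot c = 0 → ∃ b, b ∈ D.W n ∧ D.tot b = c)
    (H' : RowsAcyclic D') (a : D'.X 0 0) (ha : D'.v 0 0 a = 0) :
    ∃ x : D.X 0 0, D.v 0 0 x = 0 ∧ φ.f 0 0 x = a := by
  obtain ⟨x, hx, -, h0⟩ := exists_col H hex H' 0 a ha
  exact ⟨x, hx, h0 rfl⟩

/-- Surjectivity in positive degrees. -/
theorem surj_succ (H : (tailHom φ).ColQis)
    (hex : ∀ n c, c ∈ D.W (n + 1) → D.tot c = 0 → ∃ b, b ∈ D.W n ∧ D.tot b = c)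
    (H' : RowsAcyclic D') (n : ℕ) (a : D'.X 0 (n + 1)) (ha : D'.v 0 (n + 1) a = 0) :
    ∃ (x : D.X 0 (n + 1)) (y : D'.X 0 n),
      D.v 0 (n + 1) x = 0 ∧ D'.v 0 n y = φ.f 0 (n + 1) x - a := by
  obtain ⟨x, hx, h1, -⟩ := exists_col H hex H' (n + 1) a ha
  obtain ⟨y, hy⟩ := h1 n rfl
  exact ⟨x, y, hx, hy⟩

end Groth.Agent.Lib.FibDesc.TotSurj
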