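import Groth.Agent.Lib.FibDesc.Cone
import Groth.Agent.Lib.FibDesc.TotSurj
import Groth.Agent.H30.Gode.ProperDescent

/-!
# Proper simplicial spaces with acyclic fibres are of cohomological descent

Above an open `U` of the base the families of stalk values, modulo those vanishing on `U`, form a
bicomplex with exact total complex; it maps to the sections above `U` of an injective resolution of
the inverse image, and this map is a quasi-isomorphism away from the zeroth column.
-/

set_option autoImplicit false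
set_option linter.style.haveILetI false

universe u

open CategoryTheory Limits Opposite TopologicalSpace Pseudofunctor.CoGrothendieck Simplicial Topology Filter

namespace Groth.Agent.Lib.FibDesc.Proper

open Site Rows Flasque Acyclic Model Gen Descent Cone
open Groth.Agent.H30.Gode (lv pb bicx vanish FibAcyclic row hom incU Lv pb_comp pb_apply pb_surjective)
open Groth.Agent.H30.E1 Groth.Agent.FibSiteLib

variable {Y : AugSp.{u}} (F : CohTop.Ab (S Y))

/-- The inclusion of an open of the base into the base. -/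
noncomputable def jU (U : Opens (S Y)) : baseSp U ⟶ Over.mk (𝟙 (S Y)) :=
  Over.homMk (incU U) (Category.comp_id _)

/-- The augmented bicomplex. -/
noncomputable abbrev D : Bicx.{u} :=
  bicx F (simp Y) (Over.mk (𝟙 (S Y))) (Groth.Agent.H30.Gode.toBase (simp Y))
    (Groth.Agent.H30.Gode.toBase_cond (simp Y))

/-- The families vanishing on an open of the base. -/
noncomputable def NU (U : Opens (S Y)) : ∀ p q, AddSubgroup ((D F).X p q) :=
  fun _ q => ⨅ t : U, vanish F q t.1

lemma mem_NU {U : Opens (S Y)} {p q : ℕ} {x : (D F).X p q} :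
    x ∈ NU F U p q ↔ ∀ t ∈ U, x ∈ vanish F q t :=
  ⟨fun h t ht => AddSubgroup.mem_iInf.1 h ⟨t, ht⟩, fun h => AddSubgroup.mem_iInf.2 fun t => h t.1 t.2⟩

theorem stable_NU (U : Opens (S Y)) : (D F).Stable (NU F U) where
  h p q _ hx := (mem_NU F).2 fun t ht =>
    Groth.Agent.H30.Gode.aH_vanish p q _ ((mem_NU F).1 hx t ht)
  v _ _ _ hx := (mem_NU F).2 fun t ht =>
    Groth.Agent.H30.Gode.dl_vanish U.isOpen ((mem_NU F).1 hx) t ht

/-- The families on an open of the base. -/
noncomputable abbrev DU (U : Opens (S Y)) : Bicx.{u} := (D F).quot (stable_NU F U)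

/-- The augmented bicomplex has exact total complex above every open of the base. -/
def TotExact : Prop := ∀ U : Opens (S Y),
  (∀ c, c ∈ (DU F U).W 0 → (DU F U).tot c = 0 → c = 0) ∧
    ∀ n c, c ∈ (DU F U).W (n + 1) → (DU F U).tot c = 0 → ∃ b, b ∈ (DU F U).W n ∧ (DU F U).tot b = c

variable {F} in
/-- Fibrewise acyclicity gives exactness above every open. -/
theorem totExact_of_fibAcyclic
    (H : FibAcyclic (simp Y) (Over.mk (𝟙 (S Y))) (Groth.Agent.H30.Gode.toBase (simp Y))) :
    TotExact F := by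
  refine fun U => ⟨fun c hc hd => ?_, fun n c hc hd => ?_⟩
  · obtain ⟨c', hc', rfl⟩ := Bicx.exists_lift (stable_NU F U) hc
    rw [← Bicx.Hom.map_tot, Bicx.proj_eq_zero_iff] at hd
    rw [Bicx.proj_eq_zero_iff]
    exact fun p q => (mem_NU F).2 fun t ht => (Groth.Agent.H30.Gode.totPt F H).inj t ⟨c', hc'⟩
      (Filter.mem_of_superset (U.isOpen.mem_nhds ht) fun t' ht' p q => (mem_NU F).1 (hd p q) t' ht') p q
  · obtain ⟨c', hc', rfl⟩ := Bicx.exists_lift (stable_NU F U) hc
    rw [← Bicx.Hom.map_tot, Bicx.proj_eq_zero_iff] at hd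
    obtain ⟨b, hb⟩ := (Groth.Agent.H30.Gode.totPt F H).exists_on n U U.isOpen ⟨c', hc'⟩
      (fun t ht p q => (mem_NU F).1 (hd p q) t ht)
    refine ⟨(Bicx.proj (stable_NU F U)).map b.1, Bicx.Hom.map_mem_W _ b.2, ?_⟩
    rw [← Bicx.Hom.map_tot, eq_comm, ← sub_eq_zero, ← map_sub, Bicx.proj_eq_zero_iff]
    exact fun p q => (mem_NU F).2 fun t ht => hb t ht p q

lemma pb_jU_eq_zero {U : Opens (S Y)} {q : ℕ} {φ : (lv F (Over.mk (𝟙 (S Y))).hom q).Fn}
    (h : ∀ t ∈ U, φ ∈ vanish F q t) : pb F q (jU U) φ = 0 :=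
  funext fun (z : U) => by
    exact (congrArg ((hom F (jU U).left (Over.w (jU U)) q).m z)
      (h z.1 z.2 ((jU U).left z) rfl)).trans (map_zero _)

lemma pb_toWhole_eq_zero {U : Opens (S Y)} {p q : ℕ} {x : (lv F ((simp Y) _⦋p⦌).hom q).Fn}
    (h : ∀ t ∈ U, x ∈ vanish F q t) : pb F q (toWhole ((above U) _⦋p⦌)) x = 0 :=
  funext fun z => by
    exact (congrArg ((hom F (toWhole ((above U) _⦋p⦌)).left (Over.w (toWhole ((above U) _⦋p⦌))) q).m z)
      (h _ z.2 ((toWhole ((above U) _⦋p⦌)).left z) rfl)).trans (map_zero _)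

lemma mem_vanish_of_pb {U : Opens (S Y)} {p q : ℕ} {x : (lv F ((simp Y) _⦋p⦌).hom q).Fn}
    (h : pb F q (toWhole ((above U) _⦋p⦌)) x = 0) : ∀ t ∈ U, x ∈ vanish F q t := by
  intro t ht y hy
  exact pb_faithful F (toWhole ((above U) _⦋p⦌)) (isOpenEmbedding_toWhole _) (b := 0)
    (h.trans (map_zero _).symm) ⟨y, show θ Y ⦋p⦌ y ∈ U from hy.symm ▸ ht⟩

lemma pb_toWhole_row (U : Opens (S Y)) (p q : ℕ) (x : (lv F ((simp Y) _⦋p⦌).hom q).Fn) :
    pb F q (toWhole ((above U) _⦋p + 1⦌)) ((row F (simp Y) q).d p (p + 1) x) =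
      rowD (C F q) U p (pb F q (toWhole ((above U) _⦋p⦌)) x) := by
  rw [Groth.Agent.H30.Gode.row_d_apply, rowD_apply]
  refine (map_sum (pb F q (toWhole ((above U) _⦋p + 1⦌))) _ _).trans ?_
  refine Finset.sum_congr rfl fun i _ => ?_
  exact (map_zsmul (pb F q (toWhole ((above U) _⦋p + 1⦌))) _ _).trans
    (congrArg _ (upb_δ_restrict U p i x).symm)

lemma rowD_rowD (G : Sh Y) (U : Opens (S Y)) (p : ℕ) (c : G.obj.obj (op ((above U) _⦋p⦌))) :
    rowD G U (p + 1) (rowD G U p c) = 0 := by
  let K := (AlgebraicTopology.alternatingCofaceMapComplex AddCommGrpCat.{u}).obj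
    ((above U).rightOp ⋙ G.obj)
  have e : ∀ m, K.d m (m + 1) = rowD G U m := fun m => by
    dsimp only [K, AlgebraicTopology.alternatingCofaceMapComplex,
      AlgebraicTopology.AlternatingCofaceMapComplex.obj]
    rw [CochainComplex.of_d]
    rfl
  rw [← e, ← e]
  exact ConcreteCategory.congr_hom (K.d_comp_d p (p + 1) (p + 1 + 1)) c

section Resolution

variable [(_root_.FibDesc.incl (Fam Y)).IsContinuous (_root_.FibDesc.totPart (Fam Y) (Top Y))
    (_root_.FibDesc.totAug (Fam Y) (Top Y))]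
  [(_root_.FibDesc.incl (Fam Y)).IsCocontinuous (_root_.FibDesc.totPart (Fam Y) (Top Y))
    (_root_.FibDesc.totAug (Fam Y) (Top Y))]
  [(_root_.FibDesc.eps (Fam Y)).IsContinuous (Top Y (_root_.FibDesc.bot _))
    (_root_.FibDesc.totAug (Fam Y) (Top Y))]

variable (R : InjectiveResolution ((pull (Y := Y)).obj F)) (U : Opens (S Y))

/-- The groups of sections of the resolution above `U`. -/
noncomputable abbrev RX : ℕ → ℕ → AddCommGrpCat.{u}
  | 0, q => ((push (Y := Y)).obj (R.cocomplex.X q)).obj.obj (op U)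
  | p + 1, q => (R.cocomplex.X q).obj.obj (op ((above U) _⦋p⦌))

/-- The horizontal differentials. -/
noncomputable def hR : ∀ p q, RX F R U p q →+ RX F R U (p + 1) q
  | 0, q => (ev (R.cocomplex.X q) (above_below U (op ⦋0⦌))).hom
  | p + 1, q => (rowD (R.cocomplex.X q) U p).hom

/-- The vertical differentials. -/
noncomputable def vR : ∀ p q, RX F R U p q →+ RX F R U p (q + 1)
  | 0, q => (((push (Y := Y)).map (R.cocomplex.d q (q + 1))).hom.app (op U)).hom
  | p + 1, q => ((R.cocomplex.d q (q + 1)).hom.app (op ((above U) _⦋p⦌))).hom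

/-- The sections of the resolution above `U`. -/
noncomputable def DR : Bicx.{u} where
  X := RX F R U
  h := hR F R U
  v := vR F R U
  hh p q x := match p with
    | 0 => (rowD_zero_apply _ _ _).trans (sub_eq_zero.2 (eqCond_ev (R.cocomplex.X q) x))
    | p + 1 => rowD_rowD _ U p x
  vv p q x := match p with
    | 0 => ConcreteCategory.congr_hom (congrArg (fun φ => φ.hom.app (op U))
        (show (push (Y := Y)).map (R.cocomplex.d q (q + 1)) ≫
          (push (Y := Y)).map (R.cocomplex.d (q + 1) (q + 1 + 1)) = 0 by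
          rw [← Functor.map_comp, R.cocomplex.d_comp_d, Functor.map_zero])) x
    | p + 1 => ConcreteCategory.congr_hom (congrArg (fun φ => φ.hom.app (op ((above U) _⦋p⦌)))
        (R.cocomplex.d_comp_d q (q + 1) (q + 1 + 1))) x
  comm p q x := match p with
    | 0 => ConcreteCategory.congr_hom
        (ev_naturality (R.cocomplex.d q (q + 1)) (above_below U (op ⦋0⦌))) x
    | p + 1 => (rowD_naturality (R.cocomplex.d q (q + 1)) U p x).symm

theorem DR_rowsAcyclic : Bicx.RowsAcyclic (DR F R U) where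
  zero q x h := ev₀_injective (R.cocomplex.X q) (h.trans (map_zero _).symm)
  succ p q x h := by
    rcases p with _ | p
    · exact exists_ev₀ (R.cocomplex.X q) (sub_eq_zero.1 ((rowD_zero_apply _ _ _).symm.trans h))
    · exact rowEx_of_injective (R.cocomplex.X q) U p x h

/-- The comparison on each term. -/
noncomputable def ψf : ∀ p q, (D F).X p q →+ RX F R U p q
  | 0, q => (((push (Y := Y)).map (cmp F R q)).hom.app (op U)).hom.comp
      ((elt (F := F) (U := U) q).comp (pb F q (jU U)))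
  | p + 1, q => ((cmp F R q).hom.app (op ((above U) _⦋p⦌))).hom.comp
      (pb F q (toWhole ((above U) _⦋p⦌)))

lemma ψf_h : ∀ p q x, ψf F R U (p + 1) q ((D F).h p q x) = (DR F R U).h p q (ψf F R U p q x)
  | 0, q, x => by
    change (cmp F R q).hom.app _ (pb F q (toWhole ((above U) _⦋0⦌))
        (pb F q (Groth.Agent.H30.Gode.toBase (simp Y)) x)) =
      ev (R.cocomplex.X q) (above_below U (op ⦋0⦌))
        (((push (Y := Y)).map (cmp F R q)).hom.app (op U) (elt q (pb F q (jU U) x)))
    refine Eq.trans ?_ (ConcreteCategory.congr_hom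
      (ev_naturality (cmp F R q) (above_below U (op ⦋0⦌))) _).symm
    refine congrArg ((cmp F R q).hom.app _) ?_
    refine Eq.trans ?_ (ev_elt q (above_below U (op ⦋0⦌)) (pb F q (jU U) x)).symm
    refine (pb_comp F q _ _ x).trans (Eq.trans ?_ (pb_comp F q _ _ x).symm)
    exact congrArg (fun g => pb F q g x) (Over.OverMorphism.ext rfl)
  | p + 1, q, x => by
    refine (congrArg ((cmp F R q).hom.app _) (pb_toWhole_row F U p q x)).trans ?_
    exact rowD_naturality (cmp F R q) U p _

lemma ψf_v : ∀ p q x, ψf F R U p (q + 1) ((D F).v p q x) = (DR F R U).v p q (ψf F R U p q x)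
  | 0, q, x => by
    change ((push (Y := Y)).map (cmp F R (q + 1))).hom.app (op U)
        (elt (q + 1) (pb F (q + 1) (jU U) ((lv F (Over.mk (𝟙 (S Y))).hom q).d' x))) =
      ((push (Y := Y)).map (R.cocomplex.d q (q + 1))).hom.app (op U)
        (((push (Y := Y)).map (cmp F R q)).hom.app (op U) (elt q (pb F q (jU U) x)))
    have e : (push (Y := Y)).map (d F q) ≫ (push (Y := Y)).map (cmp F R (q + 1)) =
        (push (Y := Y)).map (cmp F R q) ≫ (push (Y := Y)).map (R.cocomplex.d q (q + 1)) := by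
      rw [← Functor.map_comp, ← Functor.map_comp, d_cmp]
    refine Eq.trans ?_ (ConcreteCategory.congr_hom (congrArg (fun φ => φ.hom.app (op U)) e) _)
    exact congrArg _ (push_d_elt q _).symm
  | p + 1, q, x =>
    ConcreteCategory.congr_hom (congrArg (fun φ => φ.hom.app (op ((above U) _⦋p⦌))) (d_cmp F R q))
      (pb F q (toWhole ((above U) _⦋p⦌)) x)

/-- The comparison. -/
noncomputable def ψ : Bicx.Hom (D F) (DR F R U) where
  f := ψf F R U
  fh := ψf_h F R U
  fv := ψf_v F R U

lemma ψ_eq_zero : ∀ p q x, x ∈ NU F U p q → (ψ F R U).f p q x = 0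
  | 0, q, x, hx => by
    change ((push (Y := Y)).map (cmp F R q)).hom.app (op U) (elt q (pb F q (jU U) x)) = 0
    rw [pb_jU_eq_zero F ((mem_NU F).1 hx), map_zero]
    exact map_zero _
  | p + 1, q, x, hx => by
    change (cmp F R q).hom.app _ (pb F q (toWhole ((above U) _⦋p⦌)) x) = 0
    exact (congrArg _ (pb_toWhole_eq_zero F ((mem_NU F).1 hx))).trans (map_zero _)

/-- The comparison out of the families on `U`. -/
noncomputable def ψU : Bicx.Hom (DU F U) (DR F R U) :=
  Bicx.quotLift (stable_NU F U) (ψ F R U) (ψ_eq_zero F R U)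

lemma d_pb_toWhole (p q : ℕ) (x : (lv F ((simp Y) _⦋p⦌).hom q).Fn) :
    (d F q).hom.app (op ((above U) _⦋p⦌)) (pb F q (toWhole ((above U) _⦋p⦌)) x) =
      pb F (q + 1) (toWhole ((above U) _⦋p⦌)) ((lv F ((simp Y) _⦋p⦌).hom q).d' x) :=
  ((hom F (toWhole ((above U) _⦋p⦌)).left (Over.w _) q).next_fn_d' x).symm

theorem ψU_tail_colQis : (TotSurj.tailHom (ψU F R U)).ColQis where
  inj_zero p x := by
    induction x using QuotientAddGroup.induction_on with
    | _ x =>
      intro h1 h2
      have h1' := (mem_NU F).1 ((QuotientAddGroup.eq_zero_iff _).1 h1)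
      refine (QuotientAddGroup.eq_zero_iff x).2 ((mem_NU F).2 (mem_vanish_of_pb F ?_))
      exact col_inj_zero F R _ ((d_pb_toWhole F U p 0 x).trans (pb_toWhole_eq_zero F h1')) h2
  inj p q x := by
    induction x using QuotientAddGroup.induction_on with
    | _ x =>
      rintro h1 ⟨y', hy'⟩
      have h1' := (mem_NU F).1 ((QuotientAddGroup.eq_zero_iff _).1 h1)
      obtain ⟨b, hb⟩ := col_inj F R q (pb F (q + 1) (toWhole ((above U) _⦋p⦌)) x)
        ((d_pb_toWhole F U p (q + 1) x).trans (pb_toWhole_eq_zero F h1')) y' hy'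
      obtain ⟨y, hy⟩ := pb_surjective (F := F) (q := q) (toWhole ((above U) _⦋p⦌))
        (isOpenEmbedding_toWhole _) b
      refine ⟨QuotientAddGroup.mk y, (QuotientAddGroup.eq_iff_sub_mem.2 ((mem_NU F).2 ?_)).symm⟩
      refine mem_vanish_of_pb F ((map_sub _ _ _).trans (sub_eq_zero.2 ?_))
      exact hb.symm.trans ((congrArg _ hy.symm).trans (d_pb_toWhole F U p q y))
  surj_zero p x' hx' := by
    obtain ⟨c, hc, hc'⟩ := col_surj_zero F R x' hx'
    obtain ⟨x, hx⟩ := pb_surjective (F := F) (q := 0) (toWhole ((above U) _⦋p⦌))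
      (isOpenEmbedding_toWhole _) c
    refine ⟨QuotientAddGroup.mk x, (QuotientAddGroup.eq_zero_iff _).2 ((mem_NU F).2
      (mem_vanish_of_pb F ?_)), (congrArg _ hx).trans hc'⟩
    exact ((d_pb_toWhole F U p 0 x).symm.trans (congrArg _ hx)).trans hc
  surj p q x' hx' := by
    obtain ⟨c, y', hc, hc'⟩ := col_surj F R q x' hx'
    obtain ⟨x, hx⟩ := pb_surjective (F := F) (q := q + 1) (toWhole ((above U) _⦋p⦌))
      (isOpenEmbedding_toWhole _) c
    refine ⟨QuotientAddGroup.mk x, y', (QuotientAddGroup.eq_zero_iff _).2 ((mem_NU F).2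
      (mem_vanish_of_pb F ?_)), (congrArg _ hx).trans hc'⟩
    exact ((d_pb_toWhole F U p (q + 1) x).symm.trans (congrArg _ hx)).trans hc

lemma d'_pb_jU {q : ℕ} {x : (D F).X 0 q} (hx : (D F).v 0 q x ∈ NU F U 0 (q + 1)) :
    (lv F (baseSp U).hom q).d' (pb F q (jU U) x) = 0 :=
  ((hom F (jU U).left (Over.w _) q).next_fn_d' x).symm.trans
    (pb_jU_eq_zero F ((mem_NU F).1 hx))

/-- Cocycles of the direct image of the resolution come from families on `U`, in degree zero. -/
theorem exists_elt_zero (T : TotExact F) (a : ((push (Y := Y)).obj (R.cocomplex.X 0)).obj.obj (op U))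
    (ha : ((push (Y := Y)).map (R.cocomplex.d 0 1)).hom.app (op U) a = 0) :
    ∃ x : (lv F (baseSp U).hom 0).Fn, (lv F (baseSp U).hom 0).d' x = 0 ∧
      ((push (Y := Y)).map (cmp F R 0)).hom.app (op U) (elt 0 x) = a := by
  obtain ⟨x, hx, e⟩ := TotSurj.surj_zero (ψU_tail_colQis F R U) (T U).2
    (DR_rowsAcyclic F R U) a ha
  obtain ⟨x, rfl⟩ := QuotientAddGroup.mk'_surjective _ x
  exact ⟨pb F 0 (jU U) x, d'_pb_jU F U ((QuotientAddGroup.eq_zero_iff _).1 hx), e⟩

/-- Cocycles of the direct image of the resolution come from families on `U`. -/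
theorem exists_elt_succ (T : TotExact F) (n : ℕ) (a : ((push (Y := Y)).obj (R.cocomplex.X (n + 1))).obj.obj (op U))
    (ha : ((push (Y := Y)).map (R.cocomplex.d (n + 1) (n + 1 + 1))).hom.app (op U) a = 0) :
    ∃ (x : (lv F (baseSp U).hom (n + 1)).Fn)
      (y : ((push (Y := Y)).obj (R.cocomplex.X n)).obj.obj (op U)),
      (lv F (baseSp U).hom (n + 1)).d' x = 0 ∧
      ((push (Y := Y)).map (R.cocomplex.d n (n + 1))).hom.app (op U) y =
        ((push (Y := Y)).map (cmp F R (n + 1))).hom.app (op U) (elt (n + 1) x) - a := by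
  obtain ⟨x, y, hx, e⟩ := TotSurj.surj_succ (ψU_tail_colQis F R U) (T U).2
    (DR_rowsAcyclic F R U) n a ha
  obtain ⟨x, rfl⟩ := QuotientAddGroup.mk'_surjective _ x
  exact ⟨pb F (n + 1) (jU U) x, y, d'_pb_jU F U ((QuotientAddGroup.eq_zero_iff _).1 hx), e⟩

/-- Positive cocycles on an open of the base are locally coboundaries. -/
lemma exists_res_eq {q : ℕ} (x : (lv F (baseSp U).hom (q + 1)).Fn)
    (hx : (lv F (baseSp U).hom (q + 1)).d' x = 0) (y : U) :
    ∃ (V : Opens (S Y)) (hV : V ≤ U) (ψ : (lv F (baseSp V).hom q).Fn), y.1 ∈ V ∧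
      ((push (Y := Y)).obj (C F (q + 1))).obj.map (homOfLE hV).op (elt (q + 1) x) =
        ((push (Y := Y)).map (d F q)).hom.app (op V) (elt q ψ) := by
  obtain ⟨ψ, hψ⟩ := exists_near F (T := baseSp U) q x hx y
  obtain ⟨O, hO, hOo, hyO⟩ := eventually_nhds_iff.1 hψ
  let V : Opens (S Y) := ⟨Subtype.val '' O, U.isOpenEmbedding'.isOpenMap O hOo⟩
  have hVU : V ≤ U := by rintro _ ⟨w, -, rfl⟩; exact w.2
  refine ⟨V, hVU, pb F q (baseIncl (homOfLE hVU)) ψ, ⟨y, hyO, rfl⟩, ?_⟩
  refine (elt_res (q + 1) (homOfLE hVU) x).trans ?_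
  refine Eq.trans ?_ (push_d_elt q _).symm
  refine congrArg (elt (q + 1)) ?_
  refine Eq.trans ?_ ((hom F (baseIncl (homOfLE hVU)).left (Over.w _) q).next_fn_d' ψ)
  funext w
  obtain ⟨v, hv, e⟩ := w.2
  refine congrArg ((hom F (baseIncl (homOfLE hVU)).left (Over.w _) (q + 1)).m w) (hO _ ?_)
  exact (Subtype.ext e : v = (baseIncl (homOfLE hVU)).left w) ▸ hv

/-- The direct image of the resolution is exact in positive degrees. -/
theorem push_exact (T : TotExact F) (n : ℕ) :
    (ShortComplex.mk ((push (Y := Y)).map (R.cocomplex.d n (n + 1)))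
      ((push (Y := Y)).map (R.cocomplex.d (n + 1) (n + 1 + 1)))
      (by rw [← Functor.map_comp, R.cocomplex.d_comp_d, Functor.map_zero])).Exact := by
  refine exact_of_locally _ fun (U : Opens (S Y)) a ha => ?_
  obtain ⟨x, y₀, hx, e⟩ := exists_elt_succ F R U T n a ha
  refine ⟨⟨fun V i => ∃ w, ((push (Y := Y)).map (R.cocomplex.d n (n + 1))).hom.app (op V) w =
      ((push (Y := Y)).obj (R.cocomplex.X (n + 1))).obj.map i.op a, ?_⟩, ?_, fun V i h => h⟩
  · rintro V V' i ⟨w, hw⟩ j
    refine ⟨((push (Y := Y)).obj (R.cocomplex.X n)).obj.map j.op w, ?_⟩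
    rw [NatTrans.naturality_apply, hw]
    exact (ConcreteCategory.congr_hom
      (((push (Y := Y)).obj (R.cocomplex.X (n + 1))).obj.map_comp i.op j.op) _).symm
  · intro y hy
    obtain ⟨V, hV, ψ, hyV, hψ⟩ := exists_res_eq F U x hx ⟨y, hy⟩
    let a₁ : ((push (Y := Y)).obj (R.cocomplex.X n)).obj.obj (op V) :=
      ((push (Y := Y)).map (cmp F R n)).hom.app (op V) (elt n ψ)
    let b₁ : ((push (Y := Y)).obj (R.cocomplex.X n)).obj.obj (op V) :=
      ((push (Y := Y)).obj (R.cocomplex.X n)).obj.map (homOfLE hV).op y₀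
    refine ⟨V, homOfLE hV, ⟨a₁ - b₁, ?_⟩, hyV⟩
    have e1 : (push (Y := Y)).map (d F n) ≫ (push (Y := Y)).map (cmp F R (n + 1)) =
        (push (Y := Y)).map (cmp F R n) ≫ (push (Y := Y)).map (R.cocomplex.d n (n + 1)) := by
      rw [← Functor.map_comp, ← Functor.map_comp, d_cmp]
    refine (map_sub _ _ _).trans ?_
    rw [sub_eq_iff_eq_add]
    refine (ConcreteCategory.congr_hom (congrArg (fun φ => φ.hom.app (op V)) e1) _).symm.trans ?_
    refine (congrArg (((push (Y := Y)).map (cmp F R (n + 1))).hom.app (op V)) hψ.symm).trans ?_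
    refine (NatTrans.naturality_apply ((push (Y := Y)).map (cmp F R (n + 1))).hom
      (homOfLE hV).op _).trans ?_
    refine Eq.trans ?_ (congrArg _ (NatTrans.naturality_apply
      ((push (Y := Y)).map (R.cocomplex.d n (n + 1))).hom (homOfLE hV).op y₀).symm)
    refine Eq.trans ?_ (map_add _ _ _)
    exact congrArg _ (sub_eq_iff_eq_add'.1 e.symm)

/-- Inverse images are acyclic for the direct image. -/
theorem acyc_pull (T : TotExact F) : DerCat.RFAcyclic.Acyc (push (Y := Y)) ((pull (Y := Y)).obj F) := by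
  intro i hi
  obtain ⟨n, rfl⟩ : ∃ n, i = n + 1 := ⟨i - 1, by omega⟩
  let R := InjectiveResolution.of ((pull (Y := Y)).obj F)
  refine IsZero.of_iso ?_ (R.isoRightDerivedObj (push (Y := Y)) (n + 1))
  refine (HomologicalComplex.exactAt_iff_isZero_homology _ _).1 ?_
  rw [HomologicalComplex.exactAt_iff' _ n (n + 1) (n + 1 + 1) (by simp) (by simp)]
  exact push_exact F R T n

/-- The augmentation of the direct image of the resolution. -/
noncomputable def uR : (F : _root_.FibDesc.BaseSh (Fam Y) (Top Y) AddCommGrpCat.{u}) ⟶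
    (push (Y := Y)).obj (R.cocomplex.X 0) :=
  ε F ≫ (push (Y := Y)).map (cmp F R 0)

lemma uR_eq : uR F R = adj.unit.app F ≫ (push (Y := Y)).map (aug F R) := by
  have he : adj.unit.app F ≫ (push (Y := Y)).map (φ F) = ε F :=
    (Adjunction.homEquiv_unit adj _ _ (φ F)).symm.trans
      ((adj.homEquiv F (C F 0)).apply_symm_apply (ε F))
  rw [uR, ← he, ← φ_cmp F R, Functor.map_comp]
  exact Category.assoc _ _ _

lemma uR_d : uR F R ≫ (push (Y := Y)).map (R.cocomplex.d 0 1) = 0 := by
  rw [uR_eq]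
  refine (Category.assoc _ _ _).trans ?_
  exact (congrArg (adj.unit.app F ≫ ·) (((push (Y := Y)).map_comp _ _).symm.trans
    ((congrArg (push (Y := Y)).map (aug_d F R)).trans ((push (Y := Y)).map_zero _ _)))).trans comp_zero

theorem uR_exact (T : TotExact F) : (ShortComplex.mk (uR F R) ((push (Y := Y)).map (R.cocomplex.d 0 1))
    (uR_d F R)).Exact := by
  refine exact_of_locally _ fun (U : Opens (S Y)) a ha => ?_
  obtain ⟨x, hx, rfl⟩ := exists_elt_zero F R U T a ha
  refine ⟨⟨fun V i => ∃ w, (uR F R).hom.app (op V) w = ((push (Y := Y)).obj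
      (R.cocomplex.X 0)).obj.map i.op (((push (Y := Y)).map (cmp F R 0)).hom.app (op U) (elt 0 x)),
      ?_⟩, ?_, fun V i h => h⟩
  · rintro V V' i ⟨w, hw⟩ j
    refine ⟨F.obj.map j.op w, ?_⟩
    rw [NatTrans.naturality_apply, hw]
    exact (ConcreteCategory.congr_hom
      (((push (Y := Y)).obj (R.cocomplex.X 0)).obj.map_comp i.op j.op) _).symm
  · intro y hy
    obtain ⟨W, hW, t, ht⟩ := exists_near_zero F (T := baseSp U) x hx (⟨y, hy⟩ : U)
    obtain ⟨O, hO, hOo, hyO⟩ := eventually_nhds_iff.1 ht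
    let V : Opens (S Y) := ⟨Subtype.val '' O, U.isOpenEmbedding'.isOpenMap O hOo⟩ ⊓ W
    have hVU : V ≤ U := by rintro _ ⟨⟨w, -, rfl⟩, -⟩; exact w.2
    refine ⟨V, homOfLE hVU, ⟨F.obj.map (homOfLE (inf_le_right : V ≤ W)).op t, ?_⟩,
      ⟨⟨_, hyO, rfl⟩, hW⟩⟩
    refine Eq.trans ?_ (NatTrans.naturality_apply ((push (Y := Y)).map (cmp F R 0)).hom
      (homOfLE hVU).op (elt 0 x))
    refine congrArg (((push (Y := Y)).map (cmp F R 0)).hom.app (op V)) ?_
    refine Eq.trans ?_ (elt_res 0 (homOfLE hVU) x).symm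
    refine congrArg (elt 0) ?_
    funext w
    obtain ⟨⟨v, hv, e⟩, -⟩ := w.2
    have hv' : (baseIncl (homOfLE hVU)).left w ∈ O :=
      (Subtype.ext e : v = (baseIncl (homOfLE hVU)).left w) ▸ hv
    refine Eq.trans ?_
      (congrArg ((hom F (baseIncl (homOfLE hVU)).left (Over.w _) 0).m w) (hO _ hv')).symm
    refine Eq.trans ?_ (congrFun (Model.pb_germFam F (baseIncl (homOfLE hVU)) W t) w).symm
    refine Eq.trans ?_ (Groth.Agent.H30.Gode.germFam_of_mem F (baseSp V).hom t w w.2.2).symm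
    exact TopCat.Presheaf.germ_res_apply F.obj (homOfLE (inf_le_right : V ≤ W)) w.1 w.2 t

/-- A section killed by the augmentation vanishes above `U`. -/
lemma uR_eq_zero (t : F.obj.obj (op U)) (ht : (uR F R).hom.app (op U) t = 0) :
    Groth.Agent.H30.Gode.germFam F ((space (Y := Y)).obj ((above U) _⦋0⦌)).hom U t = 0 := by
  let c : (C F 0).obj.obj (op ((above U) _⦋0⦌)) :=
    Groth.Agent.H30.Gode.germFam F ((space (Y := Y)).obj ((above U) _⦋0⦌)).hom U t
  refine col_inj_zero F R c (d'_germFam F ((space (Y := Y)).obj ((above U) _⦋0⦌)) U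
    (fun z : opn ((above U) _⦋0⦌) => z.2) t) ?_
  refine (congrArg ((cmp F R 0).hom.app _) (ev_ε F (above_below U (op ⦋0⦌)) t).symm).trans ?_
  refine (ConcreteCategory.congr_hom
    (ev_naturality (cmp F R 0) (above_below U (op ⦋0⦌))) _).symm.trans ?_
  exact (congrArg (ev (R.cocomplex.X 0) (above_below U (op ⦋0⦌))) ht).trans (map_zero _)

lemma uR_injective (T : TotExact F) : Function.Injective ((uR F R).hom.app (op U)) := by
  rw [injective_iff_map_eq_zero]
  intro t ht
  let g : (lv F (baseSp U).hom 0).Fn := Groth.Agent.H30.Gode.germFam F (baseSp U).hom U t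
  obtain ⟨x, hx⟩ := pb_surjective (F := F) (q := 0) (jU U) U.isOpenEmbedding' g
  have hxv : (D F).v 0 0 x ∈ NU F U 0 1 := (mem_NU F).2 fun s hs y hy => by
    subst hy
    have e : pb F 1 (jU U) ((lv F (Over.mk (𝟙 (S Y))).hom 0).d' x) = 0 :=
      ((hom F (jU U).left (Over.w (jU U)) 0).next_fn_d' x).trans
        ((congrArg _ hx).trans (d'_germFam F (baseSp U) U (fun z : U => z.2) t))
    exact pb_faithful F (jU U) U.isOpenEmbedding' (b := 0) (e.trans (map_zero _).symm) ⟨y, hs⟩
  have hxh : (D F).h 0 0 x ∈ NU F U 1 0 := (mem_NU F).2 (mem_vanish_of_pb F (by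
    refine Eq.trans ?_ (uR_eq_zero F R U t ht)
    rw [← Model.pb_germFam F (Rows.toBase (above_below U (op ⦋0⦌))) U t]
    refine Eq.trans ?_ (congrArg (pb F 0 (Rows.toBase (above_below U (op ⦋0⦌)))) hx)
    refine (pb_comp F 0 _ _ x).trans (Eq.trans ?_ (pb_comp F 0 _ _ x).symm)
    exact congrArg (fun k => pb F 0 k x) (Over.OverMorphism.ext rfl)))
  have h0 := (T U).1 ((DU F U).single 0 0 (QuotientAddGroup.mk x))
    (fun i j h => Bicx.single_mem_W 0 0 _ i j h) (by
      rw [Bicx.tot_single_zero]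
      have hh : (DU F U).h 0 0 (QuotientAddGroup.mk x) = 0 := (QuotientAddGroup.eq_zero_iff _).2 hxh
      have hv : (DU F U).v 0 0 (QuotientAddGroup.mk x) = 0 := (QuotientAddGroup.eq_zero_iff _).2 hxv
      rw [hh, hv, Bicx.single_zero, Bicx.single_zero, map_zero, smul_zero, add_zero])
  have h1 : x ∈ NU F U 0 0 := by
    have e := congrFun (congrFun h0 0) 0
    rw [Bicx.single_self] at e
    exact (QuotientAddGroup.eq_zero_iff x).1 e
  refine TopCat.Presheaf.section_ext (F : TopCat.Sheaf AddCommGrpCat.{u} (S Y)) U t 0 fun s hs => ?_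
  refine Eq.trans ?_ (map_zero _).symm
  exact (Groth.Agent.H30.Gode.germFam_of_mem F (baseSp U).hom t ⟨s, hs⟩ hs).symm.trans
    (congrFun (hx.symm.trans (pb_jU_eq_zero F ((mem_NU F).1 h1))) ⟨s, hs⟩)

/-- The unit is an isomorphism. -/
theorem isIso_unit (T : TotExact F) : IsIso ((adj (Y := Y)).unit.app F) := by
  let R := InjectiveResolution.of ((pull (Y := Y)).obj F)
  have hw : (push (Y := Y)).map (aug F R) ≫ (push (Y := Y)).map (R.cocomplex.d 0 1) = 0 := by
    rw [← Functor.map_comp, aug_d, Functor.map_zero]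
  have hK : IsLimit (KernelFork.ofι ((push (Y := Y)).map (aug F R)) hw) :=
    isLimitForkMapOfIsLimit' (push (Y := Y)) (aug_d F R)
      (haveI : Mono (ShortComplex.mk (aug F R) (R.cocomplex.d 0 1) (aug_d F R)).f := mono_aug F R
       (aug_exact F R).fIsKernel)
  haveI : Mono (uR F R) := by
    haveI : ∀ V, Mono ((uR F R).hom.app V) := fun V =>
      (AddCommGrpCat.mono_iff_injective _).2 (uR_injective F R V.unop T)
    haveI : Mono ((sheafToPresheaf _ _).map (uR F R)) := NatTrans.mono_of_mono_app (uR F R).hom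
    exact (sheafToPresheaf _ _).mono_of_mono_map inferInstance
  have hE : IsLimit (KernelFork.ofι (uR F R) (uR_d F R)) :=
    haveI : Mono (ShortComplex.mk (uR F R) ((push (Y := Y)).map (R.cocomplex.d 0 1)) (uR_d F R)).f :=
      ‹Mono (uR F R)›
    (uR_exact F R T).fIsKernel
  let e := hE.conePointUniqueUpToIso hK
  have : adj.unit.app F = e.hom := by
    refine Fork.IsLimit.hom_ext hK ?_
    exact (uR_eq F R).symm.trans
      (hE.conePointUniqueUpToIso_hom_comp hK WalkingParallelPair.zero).symm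
  rw [this]
  infer_instance

end Resolution

/-- **Exactness above every open gives cohomological descent.** -/
theorem isCohDescentTop_of_totExact (T : ∀ F : CohTop.Ab (S Y), TotExact F) :
    _root_.FibDesc.IsCohDescentTop Y := by
  haveI := isContinuous_eps Y
  haveI := isContinuous_incl Y
  haveI := isCocontinuous_incl Y
  haveI hP := preservesFiniteLimits_pull (Y := Y)
  haveI : PreservesFiniteColimits (pull (Y := Y)) :=
    PreservesColimitsOfSize.preservesFiniteColimits.{0, 0} _
  letI := HasDerivedCategory.standard (_root_.FibDesc.BaseSh (Fam Y) (Top Y) AddCommGrpCat.{u})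
  letI := HasDerivedCategory.standard (Sh Y)
  exact ⟨inferInstance, inferInstance, inferInstance, inferInstance, inferInstance, hP,
    Criterion.bijective_map (adj (Y := Y)) (fun F => isIso_unit F (T F)) (fun F => acyc_pull F (T F))⟩

open Groth.Agent.H30.Gode in
/-- **Proper surjective maps are of cohomological descent.** -/
theorem isCohDescentMap {X S : TopCat.{u}} (f : X ⟶ S) (hf : IsProperMap f)
    (hs : ∀ x x' : X, f x = f x' → x ≠ x' → ∃ U V : Set X, IsOpen U ∧ IsOpen V ∧ x ∈ U ∧ x' ∈ V ∧ Disjoint U V)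
    (hsurj : Function.Surjective f) : _root_.FibDesc.IsCohDescentMap f :=
  isCohDescentTop_of_totExact (Y := _root_.FibDesc.cechAug f) fun F =>
    totExact_of_fibAcyclic (F := F) (show FibAcyclic (nerve f)
    (Over.mk (𝟙 S)) (Groth.Agent.H30.Gode.toBase (nerve f)) from
      ⟨toBase_cond _, IsProperSep.id, fun p => isProperSep_nerve f p hf hs, fun G s =>
        (fibNerveExtraDeg f (hsurj s).choose (hsurj s).choose_spec).rowsAcyclic G _⟩)

end Groth.Agent.Lib.FibDesc.Proper
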