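import Groth.Agent.Lib.FibDesc.Proper
import Mathlib.Topology.Maps.Proper.Basic
import Mathlib.Topology.Category.TopCat.Limits.Pullbacks

/-!
# Proper separated surjective maps are of universal descent
-/

set_option autoImplicit false

universe u

open CategoryTheory CategoryTheory.Limits Filter Topology

namespace Groth.Agent.Lib.FibDesc.ProperUniv

theorem isProperMap_snd {X S S' : TopCat.{u}} (f : X ⟶ S) (g : S' ⟶ S) (hf : IsProperMap f) :
    IsProperMap (pullback.snd f g) := by
  refine isProperMap_iff_ultrafilter.2 ⟨(pullback.snd f g).hom.continuous, fun ℱ y hy => ?_⟩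
  let e := TopCat.homeoOfIso (TopCat.pullbackIsoProdSubtype f g)
  have hsnd : ∀ z, pullback.snd f g z = (e z).1.2 := fun z =>
    (ConcreteCategory.congr_hom (TopCat.pullbackIsoProdSubtype_hom_snd f g) z).symm
  have hfst : ∀ z, pullback.fst f g z = (e z).1.1 := fun z =>
    (ConcreteCategory.congr_hom (TopCat.pullbackIsoProdSubtype_hom_fst f g) z).symm
  have hg : Tendsto (fun z => f (pullback.fst f g z)) ℱ (𝓝 (g y)) := by
    have : (fun z => f (pullback.fst f g z)) = g ∘ pullback.snd f g :=
      funext fun z => ConcreteCategory.congr_hom (pullback.condition (f := f) (g := g)) z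
    rw [this]
    exact (g.hom.continuous.tendsto y).comp hy
  obtain ⟨x, hx, hℱ⟩ := hf.ultrafilter_le_nhds_of_tendsto (𝒰 := ℱ.map (pullback.fst f g)) hg
  refine ⟨e.symm ⟨(x, y), hx⟩, by rw [hsnd, Homeomorph.apply_symm_apply], ?_⟩
  have h1 : Tendsto (fun z => (e z).1) ℱ (𝓝 (x, y)) := by
    rw [nhds_prod_eq]
    refine Tendsto.prodMk ?_ ?_
    · simp only [← hfst]; exact hℱ
    · simp only [← hsnd]; exact hy
  have h2 : Tendsto e ℱ (𝓝 ⟨(x, y), hx⟩) := tendsto_subtype_rng.2 h1
  have h3 := (e.symm.continuous.tendsto ⟨(x, y), hx⟩).comp h2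
  rwa [show e.symm ∘ e = id from funext e.symm_apply_apply, tendsto_id'] at h3

theorem isUnivCohDescentMap {X S : TopCat.{u}} (f : X ⟶ S) (hf : IsProperMap f)
    (hs : ∀ x x' : X, f x = f x' → x ≠ x' →
      ∃ U V : Set X, IsOpen U ∧ IsOpen V ∧ x ∈ U ∧ x' ∈ V ∧ Disjoint U V)
    (hsurj : Function.Surjective f) : _root_.FibDesc.IsUnivCohDescentMap f := by
  intro S' g
  refine Proper.isCohDescentMap _ (isProperMap_snd f g hf) (fun z z' e hne => ?_) fun y => ?_
  · have hfne : pullback.fst f g z ≠ pullback.fst f g z' := fun h => hne (by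
      apply (TopCat.homeoOfIso (TopCat.pullbackIsoProdSubtype f g)).injective
      refine Subtype.ext (Prod.ext ?_ ?_)
      · exact (ConcreteCategory.congr_hom (TopCat.pullbackIsoProdSubtype_hom_fst f g) z).trans
          (h.trans (ConcreteCategory.congr_hom (TopCat.pullbackIsoProdSubtype_hom_fst f g) z').symm)
      · exact (ConcreteCategory.congr_hom (TopCat.pullbackIsoProdSubtype_hom_snd f g) z).trans
          (e.trans (ConcreteCategory.congr_hom (TopCat.pullbackIsoProdSubtype_hom_snd f g) z').symm))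
    have hb : f (pullback.fst f g z) = f (pullback.fst f g z') :=
      (ConcreteCategory.congr_hom pullback.condition z).trans
        ((congrArg g e).trans (ConcreteCategory.congr_hom pullback.condition z').symm)
    obtain ⟨U, V, hU, hV, hzU, hzV, hd⟩ := hs _ _ hb hfne
    exact ⟨pullback.fst f g ⁻¹' U, pullback.fst f g ⁻¹' V,
      hU.preimage (pullback.fst f g).hom.continuous, hV.preimage (pullback.fst f g).hom.continuous,
      hzU, hzV, hd.preimage _⟩
  · obtain ⟨x, hx⟩ := hsurj (g y)
    refine ⟨(TopCat.pullbackIsoProdSubtype f g).inv ⟨(x, y), hx⟩, ?_⟩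
    exact ConcreteCategory.congr_hom (TopCat.pullbackIsoProdSubtype_inv_snd f g) ⟨(x, y), hx⟩

end Groth.Agent.Lib.FibDesc.ProperUniv
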