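import Groth.Agent.Lib.FibDesc.Site
import Groth.Agent.H30.Gode.Descent
import Groth.Agent.H30.Gode.Nerve

/-!
# Families of stalk values on the simplicial space, and rows above the opens of the base
-/

set_option autoImplicit false

universe u

open CategoryTheory Limits Opposite TopologicalSpace Pseudofunctor.CoGrothendieck Simplicial Topology

namespace Groth.Agent.Lib.FibDesc.Rows

open Site Groth.Agent.H30.Gode

variable (Y : AugSp.{u})

lemma str_id (p : SimplexCategory) : str Y (𝟙 p) = 𝟙 _ :=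
  (congrArg (fun k => Y.map k.op) (WithInitial.incl.map_id p)).trans (Y.map_id _)

lemma str_comp {p n k : SimplexCategory} (m : p ⟶ n) (m' : n ⟶ k) :
    str Y (m ≫ m') = str Y m' ≫ str Y m :=
  (congrArg (fun t => Y.map t.op) (WithInitial.incl.map_comp m m')).trans (Y.map_comp _ _)

/-- The simplicial space over the base. -/
noncomputable def simp : SimplicialObject (Over (S Y)) where
  obj n := Over.mk (θ Y n.unop)
  map g := Over.homMk (str Y g.unop) (str_θ Y g.unop)
  map_id n := Over.OverMorphism.ext (by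
    exact str_id Y n.unop)
  map_comp g g' := Over.OverMorphism.ext (by
    exact str_comp Y g'.unop g.unop)

variable {Y}

lemma hom_mem {X X' : Pt Y} (a : X ⟶ X') (z : opn X) : str Y a.base.unop z.1 ∈ opn X' :=
  hom_le a z.2

/-- An open of the simplicial space, over the base. -/
noncomputable def space : Pt Y ⥤ Over (S Y) where
  obj X := Over.mk ((TopCat.ofHom ⟨Subtype.val, continuous_subtype_val⟩ :
    TopCat.of (opn X) ⟶ Sp Y (deg X)) ≫ θ Y (deg X))
  map {X X'} a := Over.homMk
    (TopCat.ofHom ⟨fun z : opn X => (⟨str Y a.base.unop z.1, hom_mem a z⟩ : opn X'),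
      Continuous.subtype_mk ((str Y a.base.unop).hom.continuous.comp continuous_subtype_val) _⟩)
    (by
      ext z
      exact ConcreteCategory.congr_hom (str_θ Y a.base.unop) z.1)
  map_id X := Over.OverMorphism.ext (by
    ext z
    exact Subtype.ext (ConcreteCategory.congr_hom (str_id Y (deg X)) z.1))
  map_comp {X X' X''} a b := Over.OverMorphism.ext (by
    ext z
    exact Subtype.ext (ConcreteCategory.congr_hom
      (str_comp Y b.base.unop a.base.unop) z.1))

/-- The whole space in a degree contains every open of it. -/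
noncomputable def toWhole (X : Pt Y) : (space (Y := Y)).obj X ⟶ (simp Y).obj (op (deg X)) :=
  Over.homMk (TopCat.ofHom ⟨Subtype.val, continuous_subtype_val⟩) rfl

lemma isOpenEmbedding_toWhole (X : Pt Y) : IsOpenEmbedding (toWhole X).left :=
  (opn X).isOpenEmbedding'

/-- An open of the base, over the base. -/
noncomputable abbrev baseSp (U : Opens (S Y)) : Over (S Y) := Over.mk (incU U)

/-- The map to an open of the base. -/
noncomputable def toBase {U : Opens (S Y)} {X : Pt Y} (h : Below U X) :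
    (space (Y := Y)).obj X ⟶ baseSp U :=
  Over.homMk (TopCat.ofHom ⟨fun z : opn X => (⟨θ Y (deg X) z.1, h z.2⟩ : U),
    Continuous.subtype_mk ((θ Y (deg X)).hom.continuous.comp continuous_subtype_val) _⟩) rfl

lemma map_toBase {U : Opens (S Y)} {X X' : Pt Y} (a : X ⟶ X') (h : Below U X') :
    (space (Y := Y)).map a ≫ toBase h = toBase (below_of_hom a h) :=
  Over.OverMorphism.ext (by
    ext z
    exact Subtype.ext (ConcreteCategory.congr_hom (str_θ Y a.base.unop) z.1))

variable (F : CohTop.Ab (S Y)) {q : ℕ}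

/-- Families over the part of degree `p` above `U`. -/
noncomputable abbrev upb {X X' : Pt Y} (a : X ⟶ X') :
    (lv F ((space (Y := Y)).obj X').hom q).Fn →+ (lv F ((space (Y := Y)).obj X).hom q).Fn :=
  pb F q ((space (Y := Y)).map a)

lemma pb_faithful {T T' : Over (S Y)} (j : T' ⟶ T) (hj : IsOpenEmbedding j.left)
    {a b : (lv F T.hom q).Fn} (h : pb F q j a = pb F q j b) (z : T'.left) :
    a (j.left z) = b (j.left z) :=
  pb_eq_at j hj z (congrFun h z)

open Classical in
/-- Vanishing outside an open of the base. -/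
noncomputable def mask (U : Opens (S Y)) {T : Over (S Y)} (φ : (lv F T.hom q).Fn) :
    (lv F T.hom q).Fn :=
  fun z => if T.hom z ∈ U then φ z else 0

lemma mask_of_mem (U : Opens (S Y)) {T : Over (S Y)} (φ : (lv F T.hom q).Fn) {z : T.left}
    (h : T.hom z ∈ U) : mask F U φ z = φ z := by
  classical exact if_pos h

lemma mask_of_not_mem (U : Opens (S Y)) {T : Over (S Y)} (φ : (lv F T.hom q).Fn) {z : T.left}
    (h : ¬ T.hom z ∈ U) : mask F U φ z = 0 := by
  classical exact if_neg h

lemma pb_mask (U : Opens (S Y)) {T T' : Over (S Y)} (g : T' ⟶ T) (φ : (lv F T.hom q).Fn) :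
    pb F q g (mask F U φ) = mask F U (pb F q g φ) := by
  funext z
  have e : T.hom (g.left z) = T'.hom z := ConcreteCategory.congr_hom (Over.w g) z
  by_cases h : T'.hom z ∈ U
  · rw [mask_of_mem F U _ h, pb_apply, pb_apply]
    exact congrArg _ (mask_of_mem F U φ (e.symm ▸ h))
  · rw [mask_of_not_mem F U _ h, pb_apply]
    exact (congrArg _ (mask_of_not_mem F U φ (e.symm ▸ h))).trans (map_zero _)

lemma mask_eq_of_restrict {U : Opens (S Y)} {X : Pt Y}
    (hX : ∀ z, θ Y (deg X) z ∈ U → z ∈ opn X)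
    {a b : (lv F ((simp Y).obj (op (deg X))).hom q).Fn}
    (h : pb F q (toWhole X) a = pb F q (toWhole X) b) : mask F U a = mask F U b := by
  funext z
  by_cases hz : ((simp Y).obj (op (deg X))).hom z ∈ U
  · rw [mask_of_mem F U _ hz, mask_of_mem F U _ hz]
    exact pb_faithful F (toWhole X) (isOpenEmbedding_toWhole X) h
      (⟨z, hX z hz⟩ : opn X)
  · rw [mask_of_not_mem F U _ hz, mask_of_not_mem F U _ hz]

lemma pb_mask_restrict {U : Opens (S Y)} {X : Pt Y} (hX : Below U X)
    (a : (lv F ((simp Y).obj (op (deg X))).hom q).Fn) :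
    pb F q (toWhole X) (mask F U a) = pb F q (toWhole X) a := by
  rw [pb_mask]
  funext z
  exact mask_of_mem F U _ (hX z.2)

variable {F}

lemma above_full (U : Opens (S Y)) (n : SimplexCategoryᵒᵖ) :
    ∀ z, θ Y (deg ((above U).obj n)) z ∈ U → z ∈ opn ((above U).obj n) :=
  fun _ h => h

lemma δ_toWhole (U : Opens (S Y)) (p : ℕ) (i : Fin (p + 2)) :
    (space (Y := Y)).map ((above U).δ i) ≫ toWhole ((above U) _⦋p⦌) =
      toWhole ((above U) _⦋p + 1⦌) ≫ (simp Y).δ i :=
  Over.OverMorphism.ext rfl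

lemma upb_δ_restrict (U : Opens (S Y)) (p : ℕ) (i : Fin (p + 2))
    (a : (lv F ((simp Y) _⦋p⦌).hom q).Fn) :
    upb F ((above U).δ i) (pb F q (toWhole ((above U) _⦋p⦌)) a) =
      pb F q (toWhole ((above U) _⦋p + 1⦌)) (pb F q ((simp Y).δ i) a) := by
  refine (pb_comp F q _ _ a).trans (Eq.trans ?_ (pb_comp F q _ _ a).symm)
  exact congrArg (fun g => pb F q g a) (δ_toWhole U p i)

variable (H : RowsExact F (simp Y))
include H

/-- Exactness above `U` in positive degrees. -/
theorem exact_above (U : Opens (S Y)) (p : ℕ)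
    (c : (lv F ((space (Y := Y)).obj ((above U) _⦋p + 1⦌)).hom q).Fn)
    (hc : ∑ i : Fin (p + 3), ((-1 : ℤ) ^ (i : ℕ)) • upb F ((above U).δ i) c = 0) :
    ∃ b, ∑ i : Fin (p + 2), ((-1 : ℤ) ^ (i : ℕ)) • upb F ((above U).δ i) b = c := by
  have key : ∀ (m : ℕ) (a : (lv F ((simp Y) _⦋m⦌).hom q).Fn),
      pb F q (toWhole ((above U) _⦋m + 1⦌)) ((row F (simp Y) q).d m (m + 1) a) =
        ∑ i : Fin (m + 2), ((-1 : ℤ) ^ (i : ℕ)) •
          upb F ((above U).δ i) (pb F q (toWhole ((above U) _⦋m⦌)) a) := by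
    intro m a
    rw [row_d_apply]
    refine (map_sum (pb F q (toWhole ((above U) _⦋m + 1⦌))) _ _).trans ?_
    refine Finset.sum_congr rfl fun i _ => ?_
    exact (map_zsmul (pb F q (toWhole ((above U) _⦋m + 1⦌))) _ _).trans
      (congrArg _ (upb_δ_restrict U m i a).symm)
  obtain ⟨c₀, hc₀⟩ := pb_surjective (F := F) (q := q) (toWhole ((above U) _⦋p + 1⦌))
    (isOpenEmbedding_toWhole _) c
  have h0 : (row F (simp Y) q).d (p + 1) (p + 1 + 1) (mask F U c₀) = 0 := by
    have e : (row F (simp Y) q).d (p + 1) (p + 1 + 1) (mask F U c₀) =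
        mask F U ((row F (simp Y) q).d (p + 1) (p + 1 + 1) c₀) := by
      rw [row_d_apply, row_d_apply]
      funext z
      rw [Finset.sum_apply]
      by_cases hz : ((simp Y) _⦋p + 1 + 1⦌).hom z ∈ U
      · rw [mask_of_mem F U _ hz, Finset.sum_apply]
        refine Finset.sum_congr rfl fun i _ => ?_
        rw [Pi.smul_apply, Pi.smul_apply, pb_mask, mask_of_mem F U _ hz]
      · rw [mask_of_not_mem F U _ hz]
        refine Finset.sum_eq_zero fun i _ => ?_
        rw [Pi.smul_apply, pb_mask, mask_of_not_mem F U _ hz, smul_zero]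
    rw [e]
    refine (mask_eq_of_restrict F (X := (above U) _⦋p + 1 + 1⦌) (above_full U _) (b := 0) ?_).trans ?_
    · rw [key, hc₀, hc, map_zero]
    · funext z
      by_cases hz : ((simp Y) _⦋p + 1 + 1⦌).hom z ∈ U
      · exact mask_of_mem F U _ hz
      · exact mask_of_not_mem F U _ hz
  obtain ⟨b, hb⟩ := H.exact q p _ h0
  refine ⟨pb F q (toWhole ((above U) _⦋p⦌)) b, ?_⟩
  rw [← key, hb]
  exact (pb_mask_restrict F (X := (above U) _⦋p + 1⦌) (above_below U _) c₀).trans hc₀

/-- The sections above `U` with equal pull backs come from `U`. -/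
theorem exists_base (U : Opens (S Y))
    (c : (lv F ((space (Y := Y)).obj ((above U) _⦋0⦌)).hom q).Fn)
    (hc : upb F ((above U).δ (0 : Fin 2)) c = upb F ((above U).δ (1 : Fin 2)) c) :
    ∃ φ : (lv F (incU U) q).Fn,
      pb F q (toBase (above_below U (op ⦋0⦌))) (φ : (lv F (baseSp U).hom q).Fn) = c := by
  obtain ⟨c₀, hc₀⟩ := pb_surjective (F := F) (q := q) (toWhole ((above U) _⦋0⦌))
    (isOpenEmbedding_toWhole _) c
  have h0 : pb F q ((simp Y).δ 0) (mask F U c₀) = pb F q ((simp Y).δ (1 : Fin 2)) (mask F U c₀) := by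
    rw [pb_mask, pb_mask]
    refine mask_eq_of_restrict F (X := (above U) _⦋1⦌) (above_full U _) ?_
    rw [← upb_δ_restrict, ← upb_δ_restrict, hc₀]
    exact hc
  obtain ⟨φ, hφ⟩ := H.ker q _ h0
  let jU : baseSp U ⟶ Over.mk (𝟙 (S Y)) := Over.homMk (incU U) (Category.comp_id _)
  refine ⟨pb F q jU φ, ?_⟩
  refine (pb_comp F q _ _ φ).trans ?_
  rw [← hc₀]
  refine Eq.trans ?_ ((congrArg (pb F q (toWhole ((above U) _⦋0⦌))) hφ).trans
    (pb_mask_restrict F (X := (above U) _⦋0⦌) (above_below U _) c₀))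
  refine Eq.trans ?_ (pb_comp F q _ _ φ).symm
  exact congrArg (fun g => pb F q g φ) (Over.OverMorphism.ext rfl)

/-- Families on `U` are determined above `U`. -/
theorem base_injective (U : Opens (S Y)) :
    Function.Injective (pb F q (toBase (above_below U (op ⦋0⦌)) (U := U))) := by
  intro φ φ' e
  let jU : baseSp U ⟶ Over.mk (𝟙 (S Y)) := Over.homMk (incU U) (Category.comp_id _)
  obtain ⟨ψ, rfl⟩ := pb_surjective (F := F) (q := q) jU U.isOpenEmbedding' φ
  obtain ⟨ψ', rfl⟩ := pb_surjective (F := F) (q := q) jU U.isOpenEmbedding' φ'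
  have e1 : aug (F := F) (K := simp Y) q (mask F U ψ) = aug (F := F) (K := simp Y) q (mask F U ψ') := by
    simp only [aug]
    rw [pb_mask, pb_mask]
    refine mask_eq_of_restrict F (X := (above U) _⦋0⦌) (above_full U _) ?_
    refine (pb_comp F q _ _ _).trans (Eq.trans ?_ (pb_comp F q _ _ _).symm)
    replace e := ((pb_comp F q _ _ _).symm.trans e).trans (pb_comp F q _ _ _)
    have e2 : toBase (above_below U (op ⦋0⦌)) ≫ jU =
        toWhole ((above U) _⦋0⦌) ≫ (Over.homMk ((simp Y) _⦋0⦌).hom (Category.comp_id _) :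
          (simp Y) _⦋0⦌ ⟶ Over.mk (𝟙 (S Y))) :=
      Over.OverMorphism.ext rfl
    exact ((congrArg (fun g => pb F q g ψ) e2).symm.trans e).trans
      (congrArg (fun g => pb F q g ψ') e2)
  have e3 := H.inj q e1
  funext z
  have := congrFun e3 z.1
  rw [mask_of_mem F U _ (show (Over.mk (𝟙 (S Y))).hom z.1 ∈ U from z.2),
    mask_of_mem F U _ (show (Over.mk (𝟙 (S Y))).hom z.1 ∈ U from z.2)] at this
  rw [pb_apply, pb_apply]
  exact congrArg _ this

end Groth.Agent.Lib.FibDesc.Rows
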