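import Groth.Prelude.Def_FibDesc
import Groth.Agent.Lib.FibSite.Basic
import Mathlib.CategoryTheory.Functor.KanExtension.Adjunction

/-!
# The total site of an augmented simplicial space, and the sections of `θ̄_*`

The arrows of the total site are determined by their base component; the sections of `θ̄_* G` over
an open `U` of the base are the sections of `G` over the part of degree zero above `U` which have
equal pull backs in degree one.
-/

set_option autoImplicit false

universe u

open CategoryTheory Limits Opposite TopologicalSpace Pseudofunctor.CoGrothendieck Simplicial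

namespace Groth.Agent.Lib.FibDesc.Site

open Groth.Agent.FibSiteLib

/-- Augmented simplicial spaces. -/
abbrev AugSp : Type (u + 1) := (WithInitial SimplexCategory)ᵒᵖ ⥤ TopCat.{u}

variable (Y : AugSp.{u})

/-- The base space. -/
abbrev S : TopCat.{u} := Y.obj (_root_.FibDesc.bot SimplexCategory)

/-- The space of `p`-simplices. -/
abbrev Sp (p : SimplexCategory) : TopCat.{u} := Y.obj (op (WithInitial.of p))

/-- The augmentation. -/
abbrev θ (p : SimplexCategory) : Sp Y p ⟶ S Y :=
  Y.map (WithInitial.starInitial.to (WithInitial.of p)).op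

/-- The simplicial operators. -/
abbrev str {p n : SimplexCategory} (m : p ⟶ n) : Sp Y n ⟶ Sp Y p :=
  Y.map (WithInitial.incl.map m).op

lemma str_θ {p n : SimplexCategory} (m : p ⟶ n) : str Y m ≫ θ Y p = θ Y n := by
  exact (Y.map_comp _ _).symm.trans (congrArg (fun k => Y.map k.op)
    (WithInitial.starInitial.hom_ext
      (WithInitial.starInitial.to (WithInitial.of p) ≫ WithInitial.incl.map m)
      (WithInitial.starInitial.to (WithInitial.of n))))

/-- Inclusions from arrows. -/
lemma le_of_hom' (T : TopCat.{u}) {A B : Opens T} (f : A ⟶ B) : A ≤ B := f.le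

lemma opens_hom_eq (T : TopCat.{u}) {A B : Opens T} (f g : A ⟶ B) : f = g := Subsingleton.elim f g

lemma homF_ext {X X' : ∫ᶜ (_root_.FibDesc.topAug Y)} {a a' : X ⟶ X'} (h : a.base = a'.base) :
    a = a' := by
  obtain ⟨b, φ⟩ := a
  obtain ⟨b', φ'⟩ := a'
  obtain rfl : b = b' := h
  obtain rfl : φ = φ' := opens_hom_eq (Y.obj X.base) φ φ'
  rfl

/-- The fibred site of the augmented family. -/
noncomputable abbrev Fam := _root_.FibDesc.topAug Y

/-- Its topologies. -/
abbrev Top := _root_.FibDesc.topAugTop Y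

theorem isPreFibSite : FibSite.IsPreFibSite (Fam Y) (Top Y) := fun R S f => by
  change Functor.IsContinuous (Opens.map (Y.map f)) (Opens.grothendieckTopology _)
    (Opens.grothendieckTopology _)
  infer_instance

theorem isPreFibSite_part :
    FibSite.IsPreFibSite (_root_.FibDesc.part (Fam Y)) (_root_.FibDesc.partTop (Fam Y) (Top Y)) :=
  fun _ _ f => isPreFibSite Y ((_root_.FibDesc.toAug SimplexCategory).map f)

theorem isContinuous_eps : (_root_.FibDesc.eps (Fam Y)).IsContinuous (Top Y (_root_.FibDesc.bot _))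
    (_root_.FibDesc.totAug (Fam Y) (Top Y)) :=
  isContinuous_ι (isPreFibSite Y) _

theorem isContinuous_incl : (_root_.FibDesc.incl (Fam Y)).IsContinuous
    (_root_.FibDesc.totPart (Fam Y) (Top Y)) (_root_.FibDesc.totAug (Fam Y) (Top Y)) where
  op_comp_isSheaf_of_types G := isSheaf_total_of_fibre (isPreFibSite_part Y) fun S =>
    isSheaf_fibre_of_total (isPreFibSite Y) ((isSheaf_iff_isSheaf_of_type _ _).1 G.property)
      ((_root_.FibDesc.toAug SimplexCategory).obj S)

theorem isCocontinuous_incl : (_root_.FibDesc.incl (Fam Y)).IsCocontinuous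
    (_root_.FibDesc.totPart (Fam Y) (Top Y)) (_root_.FibDesc.totAug (Fam Y) (Top Y)) where
  cover_lift {X A} hA := by
    obtain ⟨R, hR, hle⟩ := (mem_total_iff (isPreFibSite Y) _ A).1 hA
    refine (mem_total_iff (isPreFibSite_part Y) _ _).2 ⟨R, hR, ?_⟩
    rw [Sieve.functorPushforward_le_iff_le_functorPullback]
    intro V r hr
    exact hle _ (Sieve.image_mem_functorPushforward _ _ hr)

/-- The total category of the simplicial space. -/
abbrev Pt : Type u := ∫ᶜ (_root_.FibDesc.part (Fam Y))

variable {Y}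

/-- The underlying degree. -/
abbrev deg (X : Pt Y) : SimplexCategory := X.base.unop

/-- The underlying open. -/
abbrev opn (X : Pt Y) : Opens (Sp Y (deg X)) := X.fiber

/-- An object. -/
noncomputable abbrev mk (p : SimplexCategory) (U : Opens (Sp Y p)) : Pt Y :=
  (ι (_root_.FibDesc.part (Fam Y)) (op p)).obj U

lemma hom_le {X X' : Pt Y} (a : X ⟶ X') : opn X ≤ (Opens.map (str Y a.base.unop)).obj (opn X') :=
  le_of_hom' (Sp Y (deg X)) a.fiber

/-- An arrow. -/
noncomputable def mkHom {X X' : Pt Y} (m : deg X' ⟶ deg X)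
    (h : opn X ≤ (Opens.map (str Y m)).obj (opn X')) : X ⟶ X' :=
  ⟨m.op, (homOfLE h : (opn X : Opens (Sp Y (deg X))) ⟶ (Opens.map (str Y m)).obj (opn X'))⟩

@[simp] lemma mkHom_base {X X' : Pt Y} (m : deg X' ⟶ deg X)
    (h : opn X ≤ (Opens.map (str Y m)).obj (opn X')) : (mkHom m h).base = m.op := rfl

lemma hom_ext_base {X X' : Pt Y} {a a' : X ⟶ X'} (h : a.base = a'.base) : a = a' := by
  obtain ⟨b, φ⟩ := a
  obtain ⟨b', φ'⟩ := a'
  obtain rfl : b = b' := h
  have : Subsingleton (opn X ⟶ (Opens.map (str Y b.unop)).obj (opn X')) := inferInstance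
  obtain rfl : φ = φ' := this.elim φ φ'
  rfl

/-- Being over an open of the base. -/
abbrev Below (U : Opens (S Y)) (X : Pt Y) : Prop := opn X ≤ (Opens.map (θ Y (deg X))).obj U

lemma map_θ_eq {p n : SimplexCategory} (m : p ⟶ n) (U : Opens (S Y)) :
    (Opens.map (str Y m)).obj ((Opens.map (θ Y p)).obj U) = (Opens.map (θ Y n)).obj U := by
  rw [← str_θ Y m]
  rfl

/-- The part above an open of the base, as a simplicial object of the total site. -/
noncomputable def above (U : Opens (S Y)) : SimplicialObject (Pt Y) where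
  obj n := mk n.unop ((Opens.map (θ Y n.unop)).obj U)
  map g := mkHom g.unop (map_θ_eq g.unop U).ge
  map_id _ := hom_ext_base rfl
  map_comp _ _ := hom_ext_base rfl

lemma above_below (U : Opens (S Y)) (n : SimplexCategoryᵒᵖ) : Below U ((above U).obj n) := le_rfl

/-- The vertex. -/
noncomputable def toAbove {U : Opens (S Y)} {X : Pt Y} (h : Below U X) {p : SimplexCategory}
    (m : p ⟶ deg X) : X ⟶ (above U).obj (op p) :=
  mkHom m (h.trans (map_θ_eq m U).ge)

lemma below_of_hom {U : Opens (S Y)} {X X' : Pt Y} (a : X ⟶ X') (h : Below U X') : Below U X :=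
  (hom_le a).trans (((Opens.map (str Y a.base.unop)).map (homOfLE h)).le.trans
    (map_θ_eq a.base.unop U).le)

lemma below_mono {U V : Opens (S Y)} (i : U ≤ V) {X : Pt Y} (h : Below U X) : Below V X :=
  h.trans ((Opens.map (θ Y (deg X))).map (homOfLE i)).le

/-- The sheaves on the simplicial space. -/
abbrev Sh (Y : AugSp.{u}) := _root_.FibDesc.DSh (Fam Y) (Top Y) AddCommGrpCat.{u}

section Eq

variable (G : Sh Y) {U : Opens (S Y)}

/-- Sections in degree zero with equal pull backs in degree one. -/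
def EqCond (U : Opens (S Y)) (x : G.obj.obj (op ((above U) _⦋0⦌))) : Prop :=
  G.obj.map ((above U).δ (0 : Fin 2)).op x = G.obj.map ((above U).δ (1 : Fin 2)).op x

lemma vertex_indep {x : G.obj.obj (op ((above U) _⦋0⦌))} (hx : EqCond G U x) {X : Pt Y}
    (h : Below U X) (v w : Fin ((deg X).len + 1)) (hvw : v ≤ w) :
    G.obj.map (toAbove h (SimplexCategory.const ⦋0⦌ (deg X) v)).op x =
      G.obj.map (toAbove h (SimplexCategory.const ⦋0⦌ (deg X) w)).op x := by
  let e : (⦋1⦌ : SimplexCategory) ⟶ deg X := SimplexCategory.Hom.mk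
    ⟨fun i => if i = 0 then v else w, by
      intro i j hij
      fin_cases i <;> fin_cases j <;> simp_all⟩
  have h0 : toAbove h e ≫ (above U).δ (0 : Fin 2) = toAbove h (SimplexCategory.const ⦋0⦌ (deg X) w) :=
    hom_ext_base (Quiver.Hom.unop_inj (by ext i; fin_cases i; rfl))
  have h1 : toAbove h e ≫ (above U).δ (1 : Fin 2) = toAbove h (SimplexCategory.const ⦋0⦌ (deg X) v) :=
    hom_ext_base (Quiver.Hom.unop_inj (by ext i; fin_cases i; rfl))
  rw [← h0, ← h1, op_comp, op_comp, G.obj.map_comp, G.obj.map_comp, ConcreteCategory.comp_apply,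
    ConcreteCategory.comp_apply]
  exact congrArg _ hx.symm

end Eq

section Push

variable [(_root_.FibDesc.incl (Fam Y)).IsContinuous (_root_.FibDesc.totPart (Fam Y) (Top Y))
    (_root_.FibDesc.totAug (Fam Y) (Top Y))]
  [(_root_.FibDesc.incl (Fam Y)).IsCocontinuous (_root_.FibDesc.totPart (Fam Y) (Top Y))
    (_root_.FibDesc.totAug (Fam Y) (Top Y))]
  [(_root_.FibDesc.eps (Fam Y)).IsContinuous (Top Y (_root_.FibDesc.bot _))
    (_root_.FibDesc.totAug (Fam Y) (Top Y))]

/-- The direct image. -/
noncomputable abbrev push : Sh Y ⥤ _root_.FibDesc.BaseSh (Fam Y) (Top Y) AddCommGrpCat.{u} :=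
  _root_.FibDesc.push (Fam Y) (Top Y) AddCommGrpCat.{u}

/-- The arrow to the base. -/
noncomputable def bHom {U : Opens (S Y)} {X : Pt Y} (h : Below U X) :
    (_root_.FibDesc.incl (Fam Y)).obj X ⟶ (_root_.FibDesc.eps (Fam Y)).obj U :=
  ⟨(WithInitial.starInitial.to (WithInitial.of (deg X))).op,
    (homOfLE h : (opn X : Opens (Sp Y (deg X))) ⟶ (Opens.map (θ Y (deg X))).obj U)⟩

lemma bHom_unique {U : Opens (S Y)} {X : Pt Y}
    (k : (_root_.FibDesc.incl (Fam Y)).obj X ⟶ (_root_.FibDesc.eps (Fam Y)).obj U) :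
    ∃ h : Below U X, k = bHom h := by
  obtain ⟨b, φ⟩ := k
  obtain rfl : b = (WithInitial.starInitial.to (WithInitial.of (deg X))).op :=
    Quiver.Hom.unop_inj (WithInitial.starInitial.hom_ext _ _)
  exact ⟨le_of_hom' (Sp Y (deg X)) φ, homF_ext Y rfl⟩

variable (G : Sh Y) {U : Opens (S Y)}

/-- The projection of a section of the direct image. -/
noncomputable def ev {X : Pt Y} (h : Below U X) :
    ((push (Y := Y)).obj G).obj.obj (op U) ⟶ G.obj.obj (op X) :=
  ((_root_.FibDesc.incl (Fam Y)).op.ran.obj G.obj).map (bHom h).op ≫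
    ((_root_.FibDesc.incl (Fam Y)).op.ranCounit.app G.obj).app (op X)

lemma ev_comp {X X' : Pt Y} (a : X ⟶ X') (h : Below U X') :
    ev G h ≫ G.obj.map a.op = ev G (below_of_hom a h) := by
  obtain ⟨h', e⟩ := bHom_unique ((_root_.FibDesc.incl (Fam Y)).map a ≫ bHom h)
  change (_ ≫ _) ≫ _ = _ ≫ _
  refine (Category.assoc _ _ _).trans ((congrArg (_ ≫ ·)
    (((_root_.FibDesc.incl (Fam Y)).op.ranCounit.app G.obj).naturality a.op).symm).trans
    ((Category.assoc _ _ _).symm.trans ?_))
  refine congrArg (· ≫ _) ?_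
  refine (((_root_.FibDesc.incl (Fam Y)).op.ran.obj G.obj).map_comp _ _).symm.trans ?_
  exact congrArg (fun k => ((_root_.FibDesc.incl (Fam Y)).op.ran.obj G.obj).map k.op) e

lemma ev_res {V : Opens (S Y)} (i : V ⟶ U) {X : Pt Y} (h : Below V X) :
    ((push (Y := Y)).obj G).obj.map i.op ≫ ev G h = ev G (below_mono i.le h) := by
  obtain ⟨h', e⟩ := bHom_unique (bHom h ≫ (_root_.FibDesc.eps (Fam Y)).map i)
  change _ ≫ (_ ≫ _) = _ ≫ _
  rw [← Category.assoc]
  refine congrArg (· ≫ _) ?_
  refine (((_root_.FibDesc.incl (Fam Y)).op.ran.obj G.obj).map_comp _ _).symm.trans ?_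
  exact congrArg (fun k => ((_root_.FibDesc.incl (Fam Y)).op.ran.obj G.obj).map k.op) e

variable {G} in
lemma ev_naturality {G' : Sh Y} (φ : G ⟶ G') {X : Pt Y} (h : Below U X) :
    ((push (Y := Y)).map φ).hom.app (op U) ≫ ev G' h = ev G h ≫ φ.hom.app (op X) := by
  change ((_root_.FibDesc.incl (Fam Y)).op.ran.map φ.hom).app _ ≫ (_ ≫ _) = (_ ≫ _) ≫ _
  rw [← Category.assoc, ← NatTrans.naturality, Category.assoc, Category.assoc]
  refine congrArg (_ ≫ ·) ?_
  exact NatTrans.congr_app ((_root_.FibDesc.incl (Fam Y)).op.ranCounit.naturality φ.hom) (op X)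

lemma push_ext {a b : ((push (Y := Y)).obj G).obj.obj (op U)}
    (h : ∀ (X : Pt Y) (hX : Below U X), ev G hX a = ev G hX b) : a = b := by
  refine Concrete.isLimit_ext _ (((_root_.FibDesc.incl (Fam Y)).op.isPointwiseRightKanExtensionRanCounit
    G.obj) (op ((_root_.FibDesc.eps (Fam Y)).obj U))) _ _ fun k => ?_
  obtain ⟨hk, e⟩ := bHom_unique k.hom.unop
  have e' : k.hom = (bHom hk).op := Quiver.Hom.unop_inj e
  have := h k.right.unop hk
  change (((_root_.FibDesc.incl (Fam Y)).op.ran.obj G.obj).map k.hom ≫ _) a =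
    (((_root_.FibDesc.incl (Fam Y)).op.ran.obj G.obj).map k.hom ≫ _) b
  rw [e']
  exact this

lemma eqCond_ev (a : ((push (Y := Y)).obj G).obj.obj (op U)) :
    EqCond G U (ev G (above_below U (op ⦋0⦌)) a) :=
  (ConcreteCategory.congr_hom (ev_comp G ((above U).δ (0 : Fin 2)) _) a).trans
    (ConcreteCategory.congr_hom (ev_comp G ((above U).δ (1 : Fin 2)) _) a).symm

lemma ev_eq (a : ((push (Y := Y)).obj G).obj.obj (op U)) {X : Pt Y} (h : Below U X) :
    ev G h a = G.obj.map (toAbove h (SimplexCategory.const ⦋0⦌ (deg X) 0)).op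
      (ev G (above_below U (op ⦋0⦌)) a) :=
  (ConcreteCategory.congr_hom (ev_comp G (toAbove h (SimplexCategory.const ⦋0⦌ (deg X) 0)) _) a).symm

lemma ev₀_injective : Function.Injective (ev G (above_below U (op ⦋0⦌))) := fun a b e =>
  push_ext G fun X hX => by rw [ev_eq G a hX, ev_eq G b hX, e]

/-- Elements from equalized sections. -/
lemma exists_ev₀ {x : G.obj.obj (op ((above U) _⦋0⦌))} (hx : EqCond G U x) :
    ∃ a, ev G (above_below U (op ⦋0⦌)) a = x := by
  let Z := (_root_.FibDesc.eps (Fam Y)).obj U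
  let val (k : StructuredArrow (op Z) (_root_.FibDesc.incl (Fam Y)).op) : G.obj.obj k.right :=
    G.obj.map (toAbove (bHom_unique k.hom.unop).choose
      (SimplexCategory.const ⦋0⦌ (deg k.right.unop) 0)).op x
  let c : Cone (StructuredArrow.proj (op Z) (_root_.FibDesc.incl (Fam Y)).op ⋙ G.obj) :=
    { pt := AddCommGrpCat.of (ULift.{u} ℤ)
      π :=
        { app := fun k => AddCommGrpCat.ofHom
            ((zmultiplesHom _ (val k)).comp AddEquiv.ulift.toAddMonoidHom)
          naturality := fun k k' g => by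
            ext ⟨n⟩
            change n • val k' = G.obj.map g.right (n • val k)
            rw [map_zsmul]
            refine congrArg (n • ·) ?_
            have hk := (bHom_unique k.hom.unop).choose
            have hk' := (bHom_unique k'.hom.unop).choose
            have : g.right.unop ≫ toAbove hk (SimplexCategory.const ⦋0⦌ (deg k.right.unop) 0) =
                toAbove hk' (SimplexCategory.const ⦋0⦌ (deg k'.right.unop)
                  (g.right.unop.base.unop.toOrderHom 0)) :=
              hom_ext_base (Quiver.Hom.unop_inj (by ext i; rfl))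
            refine (vertex_indep G hx hk' 0 (g.right.unop.base.unop.toOrderHom 0) (Fin.zero_le _)).trans ?_
            rw [← this]
            exact ConcreteCategory.congr_hom (G.obj.map_comp _ g.right) x } }
  let hl := ((_root_.FibDesc.incl (Fam Y)).op.isPointwiseRightKanExtensionRanCounit G.obj) (op Z)
  refine ⟨hl.lift c ⟨1⟩, ?_⟩
  let k₀ : StructuredArrow (op Z) (_root_.FibDesc.incl (Fam Y)).op :=
    StructuredArrow.mk (Y := op ((above U) _⦋0⦌)) (bHom (above_below U (op ⦋0⦌))).op
  refine (ConcreteCategory.congr_hom (hl.fac c k₀) ⟨1⟩).trans ?_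
  change (1 : ℤ) • val k₀ = x
  rw [one_smul]
  have e : toAbove (bHom_unique k₀.hom.unop).choose
      (SimplexCategory.const ⦋0⦌ (deg k₀.right.unop) 0) = 𝟙 _ :=
    hom_ext_base (Quiver.Hom.unop_inj (by ext i; fin_cases i; rfl))
  change G.obj.map (toAbove (bHom_unique k₀.hom.unop).choose _).op x = x
  rw [e]
  exact ConcreteCategory.congr_hom (G.obj.map_id _) x

end Push

end Groth.Agent.Lib.FibDesc.Site
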