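import Groth.Agent.Lib.FibDesc.Bisimp

/-!
# One step of a hypercovering: descent passes from a coskeleton to the next
-/

set_option autoImplicit false
set_option linter.style.haveILetI false

universe u

open CategoryTheory Limits TopologicalSpace Opposite Topology

/- `open Simplicial` would capture `|` in pattern matching for a geometric realisation. -/
local notation "⦋" n "⦌" => SimplexCategory.mk n
local notation:1000 X:1000 " _⦋" n "⦌" => Functor.obj X (op (SimplexCategory.mk n))

namespace Groth.Agent.Lib.FibDesc.Step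

open Groth.Agent.H30.Gode Groth.Agent.H30.E1 Transfer Tri Htpy CoskExt Bisimp

section Fill

variable {T : Tri.{u}}

/-- A cocycle whose slices carry no cohomology is a coboundary. -/
theorem exists_fill : ∀ (m n k : ℕ) (c : T.G), n + 2 ≤ m + k →
    (∀ a j, k ≤ a → a + j = n + 1 → ExDeg (T.slice a) j) →
    c ∈ T.W (n + 1) → c ∈ T.Fil k → T.tot c = 0 → ∃ b, b ∈ T.W n ∧ b ∈ T.Fil k ∧ T.tot b = c := by
  intro m
  induction m with
  | zero =>
    intro n k c hk _ hc hF _
    refine ⟨0, zero_mem _, zero_mem _, ?_⟩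
    rw [map_zero]
    funext a
    by_cases ha : a < k
    · exact (hF a ha).symm
    · exact (slice_eq_zero hc (by omega)).symm
  | succ m ih =>
    intro n k c hk hex hc hF hd
    by_cases hkn : n + 1 < k
    · refine ⟨0, zero_mem _, zero_mem _, ?_⟩
      rw [map_zero]
      funext a
      by_cases ha : a < k
      · exact (hF a ha).symm
      · exact (slice_eq_zero hc (by omega)).symm
    have hs := slice_cocycle hF hd
    by_cases hkn' : k = n + 1
    · subst hkn'
      have h0 := hex _ 0 le_rfl rfl _ (slice_mem_W hc (j := 0) rfl) hs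
      obtain ⟨b, hb, hbF, e⟩ := ih n (n + 1 + 1) c (by omega)
        (fun a j ha => hex a j (by omega)) hc (fil_succ hF h0) hd
      exact ⟨b, hb, fun a ha => hbF a (by omega), e⟩
    obtain ⟨j, hj⟩ : ∃ j, k + (j + 1) = n + 1 := ⟨n - k, by omega⟩
    obtain ⟨z, hz, hze⟩ := hex k (j + 1) le_rfl hj (c k) (slice_mem_W hc hj) hs
    let b₀ : T.G := Pi.single k (((-1 : ℤ) ^ k) • z)
    have hb₀ : b₀ ∈ T.W n := single_mem_W (j := j) (by omega) (zsmul_mem hz _)
    have h0 : (c - T.tot b₀) k = 0 := by
      rw [Pi.sub_apply, tot_single_self, map_zsmul, smul_sgn, hze, sub_self]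
    obtain ⟨b, hb, hbF, e⟩ := ih n (k + 1) (c - T.tot b₀) (by omega)
      (fun a j ha => hex a j (by omega)) (sub_mem hc (tot_mem_W hb₀))
      (fil_succ (sub_mem hF (tot_mem_Fil (single_mem_Fil k _))) h0)
      (by rw [map_sub, hd, tot_tot, sub_zero])
    refine ⟨b + b₀, add_mem hb hb₀,
      add_mem (fun a ha => hbF a (by omega)) (single_mem_Fil k _), ?_⟩
    rw [map_add, e, sub_add_cancel]

/-- Exact slices in the other direction give exactness of the total complex. -/
theorem tot_exact_of_transp (hB : ∀ b, ExactTot (T.transp.slice b)) :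
    (∀ c, c ∈ T.W 0 → T.tot c = 0 → c = 0) ∧
      ∀ n c, c ∈ T.W (n + 1) → T.tot c = 0 → ∃ b, b ∈ T.W n ∧ T.tot b = c := by
  refine ⟨fun c hc hd => ?_, fun n c hc hd => ?_⟩
  · have h := eq_zero_of_slices (T := T.transp) (fun _ => hB 0) (c := τ c) (τ_mem_W hc)
      (fun a h => absurd h (Nat.not_lt_zero a))
      ((τ_tot c).symm.trans ((congrArg _ hd).trans (map_zero _)))
    exact (τ_τ c).symm.trans ((congrArg _ h).trans (map_zero _))
  · obtain ⟨b, hb, -, e⟩ := exists_tot_eq (T := T.transp) (n + 2) n 0 (τ c) le_rfl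
      (fun a _ => hB a) (τ_mem_W hc) (fun a h => absurd h (Nat.not_lt_zero a))
      ((τ_tot c).symm.trans ((congrArg _ hd).trans (map_zero _)))
    refine ⟨τ (T := T.transp) b, τ_mem_W (T := T.transp) hb, ?_⟩
    exact ((τ_tot (T := T.transp) b).symm.trans (congrArg _ e)).trans (τ_τ c)

/-- Vanishing in the first slice from the neighbouring ones. -/
theorem exDeg_one (hB : ∀ b, ExactTot (T.transp.slice b)) (h0 : ExactTot (T.slice 0)) (N : ℕ)
    (hδ0 : ∀ c, c ∈ (T.slice 1).W 0 → (T.slice 1).tot c = 0 → (T.δ 1).map c = 0)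
    (hδ : ∀ M c, c ∈ (T.slice 1).W (M + 1) → (T.slice 1).tot c = 0 →
      ∃ e, e ∈ (T.slice 2).W M ∧ (T.slice 2).tot e = (T.δ 1).map c)
    (hhigh : ∀ a j, 3 ≤ a → j < N → ExDeg (T.slice a) j) : ExDeg (T.slice 1) N := by
  cases N with
  | zero =>
    intro c hc hd
    let z : T.G := Pi.single 1 c
    have hz : z ∈ T.W 1 := single_mem_W (j := 0) rfl hc
    have hzd : T.tot z = 0 := by
      funext i
      match i with
      | 0 => exact tot_mem_Fil (single_mem_Fil 1 c) 0 Nat.zero_lt_one
      | 1 =>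
        rw [tot_single_self, hd]
        exact smul_zero _
      | i + 2 =>
        rw [tot_succ, show z (i + 1 + 1) = 0 from Pi.single_eq_of_ne (M := fun a => (T.slice a).G) (by omega) c, map_zero, smul_zero,
          add_zero]
        cases i with
        | zero =>
          rw [show z (0 + 1) = c from Pi.single_eq_same (M := fun a => (T.slice a).G) 1 c]
          exact hδ0 c hc hd
        | succ i =>
          rw [show z (i + 1 + 1) = 0 from Pi.single_eq_of_ne (M := fun a => (T.slice a).G) (by omega) c, map_zero]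
          rfl
    obtain ⟨w, hw, hwe⟩ := (tot_exact_of_transp hB).2 0 z hz hzd
    have hw0 : w 0 = 0 := h0.1 _ (slice_mem_W hw rfl)
      ((tot_zero w).symm.trans ((congrFun hwe 0).trans
        (show z 0 = 0 from Pi.single_eq_of_ne (M := fun a => (T.slice a).G) (by omega) c)))
    have := congrFun hwe 1
    rw [tot_succ, hw0, map_zero, slice_eq_zero hw (by omega), map_zero, smul_zero, add_zero,
      show z 1 = c from Pi.single_eq_same (M := fun a => (T.slice a).G) 1 c] at this
    exact this.symm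
  | succ M =>
    intro c hc hd
    obtain ⟨e, he, hee⟩ := hδ M c hc hd
    let z₁ : T.G := Pi.single 1 c - Pi.single 2 e
    have hz₁ : z₁ ∈ T.W (M + 2) :=
      sub_mem (single_mem_W (j := M + 1) (by omega) hc) (single_mem_W (j := M) (by omega) he)
    have h3 : T.tot z₁ ∈ T.Fil 3 := by
      intro i hi
      rw [map_sub, Pi.sub_apply]
      match i with
      | 0 =>
        rw [tot_mem_Fil (single_mem_Fil 1 c) 0 Nat.zero_lt_one,
          tot_mem_Fil (single_mem_Fil 2 e) 0 (by omega), sub_zero]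
      | 1 =>
        rw [tot_single_self, hd, tot_mem_Fil (single_mem_Fil 2 e) 1 (by omega), smul_zero, sub_zero]
      | 2 =>
        rw [tot_single_self, tot_succ, Pi.single_eq_same, Pi.single_eq_of_ne (by omega), map_zero,
          smul_zero, add_zero, neg_one_sq, one_smul, hee, sub_self]
    have hex : ∀ i j, 3 ≤ i → i + j = M + 3 → ExDeg (T.slice i) j := fun i j hi hj =>
      hhigh i j hi (by omega)
    obtain ⟨y, hy, hyF, hye⟩ := exists_fill (M + 2) (M + 2) 3 (T.tot z₁) (by omega) hex
      (tot_mem_W hz₁) h3 (tot_tot z₁)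
    obtain ⟨w, hw, hwe⟩ := (tot_exact_of_transp hB).2 (M + 1) (z₁ - y) (sub_mem hz₁ hy)
      (by rw [map_sub, hye, sub_self])
    have hz0 : (z₁ - y) 0 = 0 := by
      rw [Pi.sub_apply, hyF 0 (by omega), sub_zero]
      change (Pi.single 1 c : T.G) 0 - (Pi.single 2 e : T.G) 0 = 0
      rw [Pi.single_eq_of_ne (by omega), Pi.single_eq_of_ne (by omega), sub_zero]
    have hz1 : (z₁ - y) 1 = c := by
      rw [Pi.sub_apply, hyF 1 (by omega), sub_zero]
      change (Pi.single 1 c : T.G) 1 - (Pi.single 2 e : T.G) 1 = c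
      rw [Pi.single_eq_same, Pi.single_eq_of_ne (by omega), sub_zero]
    obtain ⟨v, hv, hve⟩ := h0.2 M (w 0) (slice_mem_W hw (zero_add _))
      ((tot_zero w).symm.trans ((congrFun hwe 0).trans hz0))
    refine ⟨(T.δ 0).map v - w 1,
      sub_mem ((T.δ 0).map_mem_W hv) (slice_mem_W hw (by omega)), ?_⟩
    rw [← hz1, ← hwe, tot_succ, map_sub, ← Bicx.Hom.map_tot, hve]
    simp [sub_eq_add_neg]

end Fill

variable {S : TopCat.{u}} (F : CohTop.Ab S) (U : Opens S)

/-- Maps into an `N`-coskeletal space agreeing below `N` act alike on cocycles, up to coboundaries. -/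
theorem ind_sub_exact {N : ℕ} [∀ (G : (SimplexCategory.Truncated N)ᵒᵖ ⥤ Over S),
    (SimplexCategory.Truncated.inclusion N).op.HasRightKanExtension G]
    {X Y : SimplicialObject (Over S)} (hY : Ext N Y) (f g : X ⟶ Y)
    (h : ∀ i : ℕ, i < N → f.app (op ⦋i⦌) = g.app (op ⦋i⦌)) :
    (∀ c, c ∈ (Bb F U Y).W 0 → (Bb F U Y).tot c = 0 → (ind F U f).map c = (ind F U g).map c) ∧
      ∀ n c, c ∈ (Bb F U Y).W (n + 1) → (Bb F U Y).tot c = 0 →
        ∃ e, e ∈ (Bb F U X).W n ∧ (Bb F U X).tot e = (ind F U f).map c - (ind F U g).map c := by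
  obtain ⟨H⟩ := nonempty_homotopy f g h
  have := isIso_unit hY
  let v := inv ((SimplicialObject.coskAdj N).unit.app Y)
  let w := (SimplicialObject.coskAdj N).unit.app X
  have key : ∀ (φ : X ⟶ Y) c, (ind F U φ).map c =
      (ind F U w).map ((ind F U ((SimplicialObject.cosk N).map φ)).map ((ind F U v).map c)) := by
    intro φ c
    rw [ind_comp, ind_comp]
    refine congrArg (fun e => (ind F U e).map c) ?_
    have hn : φ ≫ (SimplicialObject.coskAdj N).unit.app Y =
        (SimplicialObject.coskAdj N).unit.app X ≫ (SimplicialObject.cosk N).map φ :=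
      (SimplicialObject.coskAdj N).unit.naturality φ
    exact ((IsIso.eq_comp_inv _).2 hn).trans rfl
  have hv : ∀ c, (Bb F U Y).tot c = 0 →
      (Bb F U ((SimplicialObject.cosk N).obj Y)).tot ((ind F U v).map c) = 0 := fun c hd => by
    rw [← Bicx.Hom.map_tot, hd, map_zero]
  refine ⟨fun c hc hd => ?_, fun n c hc hd => ?_⟩
  · rw [key f, key g, ((hop F U H).map_eq ((ind F U v).map_mem_W hc) (hv c hd)).symm]
  · obtain ⟨e, he, hee⟩ := (hop F U H).exists_tot_eq ((ind F U v).map_mem_W hc) (hv c hd)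
    refine ⟨-(ind F U w).map e, neg_mem ((ind F U w).map_mem_W he), ?_⟩
    rw [map_neg, ← Bicx.Hom.map_tot, hee, map_sub, ← key, ← key, neg_sub]

variable {P Q : SimplicialObject (Over S)} (π : Q ⟶ P)

/-- The two faces give the differential between the first two slices. -/
lemma δ_one_map (c : ((triU π F U).slice 1).G) :
    ((triU π F U).δ 1).map c = (ind F U (SimplicialObject.δ (bi π) (0 : Fin 2))).map c -
      (ind F U (SimplicialObject.δ (bi π) (1 : Fin 2))).map c := by
  funext b q
  simp only [Bicx.Hom.map_apply, Pi.sub_apply]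
  induction c b q using QuotientAddGroup.induction_on with
  | _ x => exact congrArg (QuotientAddGroup.mk' _) (row_d_zero F (rowSp π b) q x)

variable {n : ℕ} [∀ (G : (SimplexCategory.Truncated (n + 1))ᵒᵖ ⥤ Over S),
    (SimplexCategory.Truncated.inclusion (n + 1)).op.HasRightKanExtension G]
  [∀ Δ : {Δ : SimplexCategory // Δ.len ≤ n}, IsIso (π.app (op Δ.1))]
  (hQ : Ext (n + 1) Q) (hP : Ext (n + 1) P)

lemma agree {A B : SimplexCategoryᵒᵖ} (h h' : A ⟶ B) (i : ℕ) (hi : i < n + 1) :
    ((bi π).map h).app (op ⦋i⦌) = ((bi π).map h').app (op ⦋i⦌) := by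
  have : IsIso (π.app (op ⦋i⦌)) := inferInstanceAs (IsIso (π.app
    (op (⟨⦋i⦌, Nat.lt_succ_iff.1 hi⟩ : {Δ : SimplexCategory // Δ.len ≤ n}).1)))
  exact bi_map_agree π h h' _

include hQ hP

/-- The higher slices are exact in a degree when the first is. -/
theorem exDeg_of_first (a N : ℕ) (h : ExDeg ((triU π F U).slice 1) N) :
    ExDeg ((triU π F U).slice (a + 1)) N := by
  let A : SimplexCategoryᵒᵖ := op ⦋a⦌
  let A₀ : SimplexCategoryᵒᵖ := op ⦋0⦌
  let d : A₀ ⟶ A := (SimplexCategory.const ⦋a⦌ ⦋0⦌ 0).op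
  let p : A ⟶ A₀ := (SimplexCategory.const ⦋0⦌ ⦋a⦌ 0).op
  have e := ind_sub_exact F U (ext_biObj π hP hQ a) ((bi π).map (𝟙 A)) ((bi π).map (p ≫ d))
    fun i hi => agree π _ _ i hi
  have hid : ∀ c : (Bb F U ((bi π).obj A)).G, (ind F U ((bi π).map (𝟙 A))).map c = c := fun c => by
    rw [(bi π).map_id]; exact ind_id F U c
  have hcomp : ∀ c : (Bb F U ((bi π).obj A)).G, (ind F U ((bi π).map (p ≫ d))).map c =
      (ind F U ((bi π).map p)).map ((ind F U ((bi π).map d)).map c) := fun c => by
    rw [ind_comp, (bi π).map_comp]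
  cases N with
  | zero =>
    intro c hc hd
    have h0 : (ind F U ((bi π).map d)).map c = 0 := h _ ((ind F U ((bi π).map d)).map_mem_W hc) (by
      exact ((ind F U ((bi π).map d)).map_tot c).symm.trans ((congrArg _ hd).trans (map_zero _)))
    exact ((hid c).symm.trans (e.1 c hc hd)).trans
      ((hcomp c).trans ((congrArg _ h0).trans (map_zero _)))
  | succ M =>
    intro c hc hd
    obtain ⟨x, hx, hxe⟩ := h _ ((ind F U ((bi π).map d)).map_mem_W hc)
      (((ind F U ((bi π).map d)).map_tot c).symm.trans ((congrArg _ hd).trans (map_zero _)))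
    obtain ⟨y, hy, hye⟩ := e.2 M c hc hd
    refine ⟨y + (ind F U ((bi π).map p)).map x,
      add_mem hy ((ind F U ((bi π).map p)).map_mem_W hx), ?_⟩
    refine ((Bicx.tot _).map_add _ _).trans ?_
    refine (congrArg₂ (· + ·) hye (((ind F U ((bi π).map p)).map_tot x).symm.trans
      (congrArg _ hxe))).trans ?_
    exact (congrArg₂ (fun s t => s - t + (ind F U ((bi π).map p)).map
      ((ind F U ((bi π).map d)).map c)) (hid c) (hcomp c)).trans (sub_add_cancel _ _)

/-- The slices of the fibre powers are exact if the slice of the target is. -/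
theorem exDeg_slice (hB : ∀ b, ExactTot ((triU π F U).transp.slice b))
    (h0 : ExactTot ((triU π F U).slice 0)) : ∀ N a, ExDeg ((triU π F U).slice (a + 1)) N := by
  intro N
  induction N using Nat.strong_induction_on with
  | _ N IH =>
  intro a
  refine exDeg_of_first F U π hQ hP a N ?_
  have hδ := ind_sub_exact F U (ext_biObj π hP hQ 0) (SimplicialObject.δ (bi π) (0 : Fin 2))
    (SimplicialObject.δ (bi π) (1 : Fin 2)) fun i hi => agree π _ _ i hi
  refine exDeg_one hB h0 N ?_ ?_ fun i j hi hj => ?_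
  · intro c hc hd
    exact (δ_one_map F U π c).trans (sub_eq_zero.2 (hδ.1 c hc hd))
  · intro M c hc hd
    obtain ⟨e, he, hee⟩ := hδ.2 M c hc hd
    exact ⟨e, he, hee.trans (δ_one_map F U π c).symm⟩
  · obtain ⟨i, rfl⟩ : ∃ k, i = k + 1 := ⟨i - 1, by omega⟩
    exact IH j hj i

/-- **The step.** -/
theorem te_step (hπ : ∀ m : ℕ, _root_.FibDesc.IsUnivCohDescentMap (π.app (op ⦋m⦌)).left)
    (h : TE F P U) : TE F Q U := by
  have h1 : TE F ((bi π).obj (op ⦋0⦌)) U := (exactTot_iff_exDeg _).2 fun N =>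
    exDeg_slice F U π hQ hP (exactTot_transp_slice π F U hπ) h N 0
  refine (te_iff_of_iso F Q ?_ U).2 h1
  refine NatIso.ofComponents (fun m => Over.isoMk
    { hom := pwπ (π.app m).left 0 0
      inv := (WidePullback.lift (π.app m).left (fun _ : Fin 1 => 𝟙 (Q.obj m).left)
        (fun _ => Category.id_comp _) : (Q.obj m).left ⟶ Pw (π.app m).left 0)
      hom_inv_id := ?_
      inv_hom_id := WidePullback.lift_π (fun _ : Fin 1 => (π.app m).left) _ _ _ 0 } (Over.w ((projN π 0 0).app m)))
    fun {a b} g => (projN π 0 0).naturality g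
  apply WidePullback.hom_ext
  · intro j
    obtain rfl := Subsingleton.elim (α := Fin 1) j 0
    refine ((Category.assoc _ _ _).trans ((congrArg (pwπ (π.app m).left 0 0 ≫ ·)
      (WidePullback.lift_π (fun _ : Fin 1 => (π.app m).left) _ _ _ 0)).trans (Category.comp_id _))).trans (Category.id_comp _).symm
  · exact ((Category.assoc _ _ _).trans ((congrArg (pwπ (π.app m).left 0 0 ≫ ·)
      (WidePullback.lift_base (fun _ : Fin 1 => (π.app m).left) _ _ _)).trans (WidePullback.π_arrow _ 0))).trans (Category.id_comp _).symm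

end Groth.Agent.Lib.FibDesc.Step
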