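import Groth.Agent.Lib.FibDesc.Proper
import Groth.Agent.Lib.FibDesc.Converse

/-!
# Cohomological descent is exactness of the total complexes above the opens of the base

The condition is local on the base; conversely descent makes the comparison with an injective
resolution bijective on germs of cohomology in the zeroth column, which gives exactness.
-/

set_option autoImplicit false
set_option linter.style.haveILetI false

universe u

open CategoryTheory Limits Opposite TopologicalSpace Pseudofunctor.CoGrothendieck Simplicial Topology Filter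

namespace Groth.Agent.Lib.FibDesc.TotExactIff

open Site Rows Flasque Acyclic Model Gen Descent Cone Proper
open Groth.Agent.H30.Gode (lv pb bicx vanish row hom incU Lv pb_comp pb_apply pb_surjective)
open Groth.Agent.H30.E1 Groth.Agent.FibSiteLib

variable {Y : AugSp.{u}} (F : CohTop.Ab (S Y))

lemma NU_anti {U V : Opens (S Y)} (i : V ≤ U) {p q : ℕ} {x : (D F).X p q} (h : x ∈ NU F U p q) :
    x ∈ NU F V p q :=
  (mem_NU F).2 fun t ht => (mem_NU F).1 h t (i ht)

/-- Restriction to a smaller open of the base. -/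
noncomputable def resD {U V : Opens (S Y)} (i : V ≤ U) : Bicx.Hom (DU F U) (DU F V) :=
  Bicx.quotLift (stable_NU F U) (Bicx.proj (stable_NU F V)) fun _ _ x hx =>
    (QuotientAddGroup.eq_zero_iff x).2 (NU_anti F i hx)

lemma resD_proj {U V : Opens (S Y)} (i : V ≤ U) (c : (D F).G) :
    (resD F i).map ((Bicx.proj (stable_NU F U)).map c) = (Bicx.proj (stable_NU F V)).map c := rfl

lemma resD_resD {U V W : Opens (S Y)} (i : V ≤ U) (j : W ≤ V) (c : (DU F U).G) :
    (resD F j).map ((resD F i).map c) = (resD F (j.trans i)).map c := by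
  funext p q
  simp only [Bicx.Hom.map_apply]
  induction c p q using QuotientAddGroup.induction_on with
  | _ x => rfl

lemma mem_NU_of_pb_jU {U : Opens (S Y)} {q : ℕ} {x : (D F).X 0 q}
    (h : pb F q (jU U) x = 0) : x ∈ NU F U 0 q := by
  refine (mem_NU F).2 fun s hs y hy => ?_
  subst hy
  exact pb_faithful F (jU U) U.isOpenEmbedding' (b := 0) (h.trans (map_zero _).symm) ⟨y, hs⟩

lemma pb_baseIncl_jU {U V : Opens (S Y)} (i : V ≤ U) {q : ℕ} (x : (D F).X 0 q) :
    pb F q (baseIncl (homOfLE i)) (pb F q (jU U) x) = pb F q (jU V) x :=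
  (pb_comp F q _ _ x).trans (congrArg (fun g => pb F q g x) (Over.OverMorphism.ext rfl))

/-- Exactness after shrinking the open around any point. -/
def LocExact : Prop := ∀ (U : Opens (S Y)) (s : S Y), s ∈ U →
  (∀ c, c ∈ (DU F U).W 0 → (DU F U).tot c = 0 →
    ∃ (V : Opens (S Y)) (i : V ≤ U), s ∈ V ∧ (resD F i).map c = 0) ∧
  ∀ n c, c ∈ (DU F U).W (n + 1) → (DU F U).tot c = 0 →
    ∃ (V : Opens (S Y)) (i : V ≤ U) (b : (DU F V).G),
      s ∈ V ∧ b ∈ (DU F V).W n ∧ (DU F V).tot b = (resD F i).map c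

/-- The total complex as a complex of pointwise glued families. -/
noncomputable def locPt (L : LocExact F) : Groth.Agent.H30.Gode.PtCx.{u, u} (S Y) where
  C n := (D F).W n
  d n := ((D F).tot.comp ((D F).W n).subtype).codRestrict _ fun c => Bicx.tot_mem_W c.2
  Z := Groth.Agent.H30.Gode.tVanish F (simp Y) (Over.mk (𝟙 (S Y)))
    (Groth.Agent.H30.Gode.toBase (simp Y)) (Groth.Agent.H30.Gode.toBase_cond (simp Y))
  sep n c h := Subtype.ext (funext fun p => funext fun q => funext fun y => h _ p q y rfl)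
  glue n b := by
    refine ⟨⟨fun p q y => (b ((Groth.Agent.H30.Gode.aT (simp Y) (Over.mk (𝟙 (S Y))) p).hom y)).1 p q y,
      fun p q hpq => funext fun y => congrFun
        ((b ((Groth.Agent.H30.Gode.aT (simp Y) (Over.mk (𝟙 (S Y))) p).hom y)).2 p q hpq) y⟩,
      fun s p q y hy => ?_⟩
    subst hy
    exact sub_self _
  local' n U hU c h := fun s hs p q =>
    Groth.Agent.H30.Gode.tot_vanish hU (fun p q t ht => h t ht p q) p q s hs
  d_d n c := Subtype.ext (Bicx.tot_tot _)
  inj s c h := by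
    obtain ⟨O, hO, hOo, hsO⟩ := eventually_nhds_iff.1 h
    obtain ⟨V, i, hsV, e⟩ := (L ⟨O, hOo⟩ s hsO).1 ((Bicx.proj (stable_NU F ⟨O, hOo⟩)).map c.1)
      (Bicx.Hom.map_mem_W _ c.2) (by
        rw [← Bicx.Hom.map_tot, Bicx.proj_eq_zero_iff]
        exact fun p q => (mem_NU F).2 fun t ht => hO t ht p q)
    rw [resD_proj, Bicx.proj_eq_zero_iff] at e
    exact fun p q => (mem_NU F).1 (e p q) s hsV
  exact n s c h := by
    obtain ⟨O, hO, hOo, hsO⟩ := eventually_nhds_iff.1 h
    obtain ⟨V, i, b, hsV, hb, e⟩ := (L ⟨O, hOo⟩ s hsO).2 n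
      ((Bicx.proj (stable_NU F ⟨O, hOo⟩)).map c.1) (Bicx.Hom.map_mem_W _ c.2) (by
        rw [← Bicx.Hom.map_tot, Bicx.proj_eq_zero_iff]
        exact fun p q => (mem_NU F).2 fun t ht => hO t ht p q)
    obtain ⟨b', hb', rfl⟩ := Bicx.exists_lift _ hb
    rw [resD_proj, ← Bicx.Hom.map_tot, eq_comm, ← sub_eq_zero, ← map_sub, Bicx.proj_eq_zero_iff] at e
    exact ⟨⟨b', hb'⟩, Filter.mem_of_superset (V.isOpen.mem_nhds hsV) fun t ht p q =>
      (mem_NU F).1 (e p q) t ht⟩

/-- Exactness is local on the base. -/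
theorem totExact_of_locExact (L : LocExact F) : TotExact F := by
  refine fun U => ⟨fun c hc hd => ?_, fun n c hc hd => ?_⟩
  · obtain ⟨c', hc', rfl⟩ := Bicx.exists_lift (stable_NU F U) hc
    rw [← Bicx.Hom.map_tot, Bicx.proj_eq_zero_iff] at hd
    rw [Bicx.proj_eq_zero_iff]
    exact fun p q => (mem_NU F).2 fun t ht => (locPt F L).inj t ⟨c', hc'⟩
      (Filter.mem_of_superset (U.isOpen.mem_nhds ht) fun t' ht' p q => (mem_NU F).1 (hd p q) t' ht') p q
  · obtain ⟨c', hc', rfl⟩ := Bicx.exists_lift (stable_NU F U) hc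
    rw [← Bicx.Hom.map_tot, Bicx.proj_eq_zero_iff] at hd
    obtain ⟨b, hb⟩ := (locPt F L).exists_on n U U.isOpen ⟨c', hc'⟩
      (fun t ht p q => (mem_NU F).1 (hd p q) t ht)
    refine ⟨(Bicx.proj (stable_NU F U)).map b.1, Bicx.Hom.map_mem_W _ b.2, ?_⟩
    rw [← Bicx.Hom.map_tot, eq_comm, ← sub_eq_zero, ← map_sub, Bicx.proj_eq_zero_iff]
    exact fun p q => (mem_NU F).2 fun t ht => hb t ht p q

/-- Positive cocycles on an open are coboundaries near each point. -/
lemma exists_pb_eq {U : Opens (S Y)} {q : ℕ} (x : (lv F (baseSp U).hom (q + 1)).Fn)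
    (hx : (lv F (baseSp U).hom (q + 1)).d' x = 0) (y : U) :
    ∃ (V : Opens (S Y)) (hV : V ≤ U) (ψ : (lv F (baseSp V).hom q).Fn), y.1 ∈ V ∧
      pb F (q + 1) (baseIncl (homOfLE hV)) x = (lv F (baseSp V).hom q).d' ψ := by
  obtain ⟨ψ, hψ⟩ := exists_near F (T := baseSp U) q x hx y
  obtain ⟨O, hO, hOo, hyO⟩ := eventually_nhds_iff.1 hψ
  let V : Opens (S Y) := ⟨Subtype.val '' O, U.isOpenEmbedding'.isOpenMap O hOo⟩
  have hVU : V ≤ U := by rintro _ ⟨w, -, rfl⟩; exact w.2
  refine ⟨V, hVU, pb F q (baseIncl (homOfLE hVU)) ψ, ⟨y, hyO, rfl⟩, ?_⟩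
  refine Eq.trans ?_ ((hom F (baseIncl (homOfLE hVU)).left (Over.w _) q).next_fn_d' ψ)
  funext w
  obtain ⟨v, hv, e⟩ := w.2
  refine congrArg ((hom F (baseIncl (homOfLE hVU)).left (Over.w _) (q + 1)).m w) (hO _ ?_)
  exact (Subtype.ext e : v = (baseIncl (homOfLE hVU)).left w) ▸ hv

/-- Cocycles of degree zero on an open are germs near each point. -/
lemma exists_germs_eq {U : Opens (S Y)} (x : (lv F (baseSp U).hom 0).Fn)
    (hx : (lv F (baseSp U).hom 0).d' x = 0) (y : U) :
    ∃ (V : Opens (S Y)) (hV : V ≤ U) (t : F.obj.obj (op V)), y.1 ∈ V ∧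
      pb F 0 (baseIncl (homOfLE hV)) x = germs F V t := by
  obtain ⟨W, hW, t, ht⟩ := exists_near_zero F (T := baseSp U) x hx y
  obtain ⟨O, hO, hOo, hyO⟩ := eventually_nhds_iff.1 ht
  let V : Opens (S Y) := ⟨Subtype.val '' O, U.isOpenEmbedding'.isOpenMap O hOo⟩ ⊓ W
  have hVU : V ≤ U := by rintro _ ⟨⟨w, -, rfl⟩, -⟩; exact w.2
  refine ⟨V, hVU, F.obj.map (homOfLE (inf_le_right : V ≤ W)).op t, ⟨⟨_, hyO, rfl⟩, hW⟩, ?_⟩
  funext w
  obtain ⟨⟨v, hv, e⟩, -⟩ := w.2
  have hv' : (baseIncl (homOfLE hVU)).left w ∈ O :=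
    (Subtype.ext e : v = (baseIncl (homOfLE hVU)).left w) ▸ hv
  refine (congrArg ((hom F (baseIncl (homOfLE hVU)).left (Over.w _) 0).m w) (hO _ hv')).trans ?_
  refine (congrFun (Model.pb_germFam F (baseIncl (homOfLE hVU)) W t) w).trans ?_
  refine (Groth.Agent.H30.Gode.germFam_of_mem F (baseSp V).hom t w w.2.2).trans ?_
  exact (TopCat.Presheaf.germ_res_apply F.obj (homOfLE (inf_le_right : V ≤ W)) w.1 w.2 t).symm

section Resolution

variable [(_root_.FibDesc.incl (Fam Y)).IsContinuous (_root_.FibDesc.totPart (Fam Y) (Top Y))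
    (_root_.FibDesc.totAug (Fam Y) (Top Y))]
  [(_root_.FibDesc.incl (Fam Y)).IsCocontinuous (_root_.FibDesc.totPart (Fam Y) (Top Y))
    (_root_.FibDesc.totAug (Fam Y) (Top Y))]
  [(_root_.FibDesc.eps (Fam Y)).IsContinuous (Top Y (_root_.FibDesc.bot _))
    (_root_.FibDesc.totAug (Fam Y) (Top Y))]

variable (R : InjectiveResolution ((pull (Y := Y)).obj F))

/-- The part above a smaller open. -/
noncomputable def aboveIncl {U V : Opens (S Y)} (i : V ≤ U) (p : ℕ) :
    ((above V) _⦋p⦌) ⟶ ((above U) _⦋p⦌) :=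
  mkHom (𝟙 _) fun z hz => by
    change θ Y ⦋p⦌ (str Y (𝟙 ⦋p⦌) z) ∈ U
    rw [str_id]
    exact i hz

lemma aboveIncl_δ {U V : Opens (S Y)} (i : V ≤ U) (p : ℕ) (j : Fin (p + 2)) :
    (above V).δ j ≫ aboveIncl i p = aboveIncl i (p + 1) ≫ (above U).δ j :=
  hom_ext_base (by
    change ((above V).δ j).base ≫ 𝟙 _ = 𝟙 _ ≫ ((above U).δ j).base
    rw [Category.comp_id, Category.id_comp]
    rfl)

/-- The maps of sections to a smaller open. -/
noncomputable def resRf {U V : Opens (S Y)} (i : V ≤ U) : ∀ p q, RX F R U p q →+ RX F R V p q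
  | 0, q => (((push (Y := Y)).obj (R.cocomplex.X q)).obj.map (homOfLE i).op).hom
  | p + 1, q => ((R.cocomplex.X q).obj.map (aboveIncl i p).op).hom

/-- Restriction of the sections of the resolution. -/
noncomputable def resR {U V : Opens (S Y)} (i : V ≤ U) : Bicx.Hom (DR F R U) (DR F R V) where
  f := resRf F R i
  fh p q x := match p with
    | 0 => by
      change (R.cocomplex.X q).obj.map (aboveIncl i 0).op (ev _ (above_below U (op ⦋0⦌)) x) =
        ev _ (above_below V (op ⦋0⦌)) (((push (Y := Y)).obj (R.cocomplex.X q)).obj.map (homOfLE i).op x)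
      refine (ConcreteCategory.congr_hom (ev_comp (R.cocomplex.X q) (aboveIncl i 0) _) x).trans ?_
      exact (ConcreteCategory.congr_hom
        (ev_res (R.cocomplex.X q) (homOfLE i) (above_below V (op ⦋0⦌))) x).symm
    | p + 1 => by
      change (R.cocomplex.X q).obj.map (aboveIncl i (p + 1)).op (rowD (R.cocomplex.X q) U p x) =
        rowD (R.cocomplex.X q) V p ((R.cocomplex.X q).obj.map (aboveIncl i p).op x)
      rw [rowD_apply, rowD_apply, map_sum]
      refine Finset.sum_congr rfl fun j _ => ?_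
      rw [map_zsmul]
      refine congrArg _ ?_
      refine ((ConcreteCategory.congr_hom ((R.cocomplex.X q).obj.map_comp _ _) x).symm.trans
        ?_).trans (ConcreteCategory.congr_hom ((R.cocomplex.X q).obj.map_comp _ _) x)
      exact congrArg (fun a : ((above V) _⦋p + 1⦌) ⟶ ((above U) _⦋p⦌) =>
        (R.cocomplex.X q).obj.map a.op x) (aboveIncl_δ i p j).symm
  fv p q x := match p with
    | 0 => (NatTrans.naturality_apply ((push (Y := Y)).map (R.cocomplex.d q (q + 1))).hom
        (homOfLE i).op x).symm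
    | p + 1 => (NatTrans.naturality_apply (R.cocomplex.d q (q + 1)).hom (aboveIncl i p).op x).symm

lemma ψU_res {U V : Opens (S Y)} (i : V ≤ U) : ∀ p q x,
    (resR F R i).f p q ((ψU F R U).f p q x) = (ψU F R V).f p q ((resD F i).f p q x)
  | 0, q, x => by
    induction x using QuotientAddGroup.induction_on with
    | _ x =>
      refine (NatTrans.naturality_apply ((push (Y := Y)).map (cmp F R q)).hom
        (homOfLE i).op (elt q (pb F q (jU U) x))).symm.trans ?_
      refine congrArg (((push (Y := Y)).map (cmp F R q)).hom.app (op V)) ?_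
      exact (elt_res q (homOfLE i) _).trans (congrArg (elt q) (pb_baseIncl_jU F i x))
  | p + 1, q, x => by
    induction x using QuotientAddGroup.induction_on with
    | _ x =>
      refine (NatTrans.naturality_apply (cmp F R q).hom (aboveIncl i p).op
        (pb F q (toWhole ((above U) _⦋p⦌)) x)).symm.trans ?_
      refine congrArg ((cmp F R q).hom.app _) ?_
      refine (pb_comp F q _ _ x).trans ?_
      refine congrArg (fun g => pb F q g x) (Over.OverMorphism.ext ?_)
      ext z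
      exact ConcreteCategory.congr_hom (str_id Y ⦋p⦌) z.1

lemma ψU_res_map {U V : Opens (S Y)} (i : V ≤ U) (c : (DU F U).G) :
    (resR F R i).map ((ψU F R U).map c) = (ψU F R V).map ((resD F i).map c) :=
  funext fun p => funext fun q => ψU_res F R i p q (c p q)

variable {F} (hunit : IsIso ((adj (Y := Y)).unit.app F))
  (hac : DerCat.RFAcyclic.Acyc (push (Y := Y)) ((pull (Y := Y)).obj F))

include hunit in
lemma uR_sections (U : Opens (S Y)) :
    Function.Injective ((uR F R).hom.app (op U)) ∧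
      ∀ a : ((push (Y := Y)).obj (R.cocomplex.X 0)).obj.obj (op U),
        ((push (Y := Y)).map (R.cocomplex.d 0 1)).hom.app (op U) a = 0 →
          ∃ t, (uR F R).hom.app (op U) t = a := by
  have hw : (push (Y := Y)).map (aug F R) ≫ (push (Y := Y)).map (R.cocomplex.d 0 1) = 0 := by
    rw [← Functor.map_comp, aug_d, Functor.map_zero]
  have hK : IsLimit (KernelFork.ofι ((push (Y := Y)).map (aug F R)) hw) :=
    isLimitForkMapOfIsLimit' (push (Y := Y)) (aug_d F R)
      (haveI : Mono (ShortComplex.mk (aug F R) (R.cocomplex.d 0 1) (aug_d F R)).f := mono_aug F R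
       (aug_exact F R).fIsKernel)
  have hu : IsLimit (KernelFork.ofι (uR F R) (uR_d F R)) :=
    IsLimit.ofIsoLimit hK (Fork.ext (@asIso _ _ _ _ _ hunit) (uR_eq F R).symm).symm
  let E' : CohTop.Ab (S Y) ⥤ AddCommGrpCat.{u} :=
    sheafToPresheaf _ _ ⋙ (evaluation _ _).obj (op U)
  haveI : E'.Additive := ⟨fun {_ _ _ _} => rfl⟩
  haveI : PreservesFiniteLimits E' := comp_preservesFiniteLimits _ _
  have hm : Mono (uR F R) := mono_of_isLimit_fork hu
  haveI : Mono (E'.map (uR F R)) := E'.map_mono _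
  have hk : (ShortComplex.mk (uR F R) ((push (Y := Y)).map (R.cocomplex.d 0 1)) (uR_d F R)).Exact :=
    ShortComplex.exact_of_f_is_kernel _ hu
  have hk' := hk.map_of_mono_of_preservesKernel E' hm inferInstance
  refine ⟨(AddCommGrpCat.mono_iff_injective _).1 (inferInstance : Mono (E'.map (uR F R))),
    fun a ha => ?_⟩
  exact (ShortComplex.ab_exact_iff _).1 hk' a ha

include hac in
lemma push_exact_of_acyc (n : ℕ) :
    (ShortComplex.mk ((push (Y := Y)).map (R.cocomplex.d n (n + 1)))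
      ((push (Y := Y)).map (R.cocomplex.d (n + 1) (n + 1 + 1)))
      (by rw [← Functor.map_comp, R.cocomplex.d_comp_d, Functor.map_zero])).Exact := by
  have h := (hac (n + 1) (Nat.succ_pos n)).of_iso (R.isoRightDerivedObj (push (Y := Y)) (n + 1)).symm
  have h' := (HomologicalComplex.exactAt_iff_isZero_homology _ _).2 h
  rw [HomologicalComplex.exactAt_iff' _ n (n + 1) (n + 1 + 1) (by simp) (by simp)] at h'
  exact h'

include hac in
lemma exists_push_eq (n : ℕ) {U : Opens (S Y)}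
    (a : ((push (Y := Y)).obj (R.cocomplex.X (n + 1))).obj.obj (op U))
    (ha : ((push (Y := Y)).map (R.cocomplex.d (n + 1) (n + 1 + 1))).hom.app (op U) a = 0)
    {s : S Y} (hs : s ∈ U) :
    ∃ (V : Opens (S Y)) (i : V ≤ U) (w : ((push (Y := Y)).obj (R.cocomplex.X n)).obj.obj (op V)),
      s ∈ V ∧ ((push (Y := Y)).map (R.cocomplex.d n (n + 1))).hom.app (op V) w =
        ((push (Y := Y)).obj (R.cocomplex.X (n + 1))).obj.map (homOfLE i).op a := by
  have h := push_exact_of_acyc R hac n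
  let f := (push (Y := Y)).map (R.cocomplex.d n (n + 1))
  let g := (push (Y := Y)).map (R.cocomplex.d (n + 1) (n + 1 + 1))
  have w : f ≫ g = 0 := by rw [← Functor.map_comp, R.cocomplex.d_comp_d, Functor.map_zero]
  let l := kernel.lift g f w
  haveI : Epi l := h.epi_kernelLift
  have hls : Presheaf.IsLocallySurjective (Top Y (_root_.FibDesc.bot _)) l.hom :=
    (Sheaf.isLocallySurjective_iff_epi' _ l).2 inferInstance
  let E' : Sheaf (Top Y (_root_.FibDesc.bot _)) AddCommGrpCat.{u} ⥤ AddCommGrpCat.{u} :=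
    sheafToPresheaf _ _ ⋙ (evaluation _ _).obj (op U)
  haveI : E'.Additive := ⟨fun {_ _ _ _} => rfl⟩
  haveI : PreservesFiniteLimits E' := comp_preservesFiniteLimits _ _
  obtain ⟨z, hz⟩ := (ShortComplex.ab_exact_iff _).1 ((ShortComplex.exact_of_f_is_kernel
    (ShortComplex.mk (kernel.ι g) g (kernel.condition g)) (kernelIsKernel _)).map_of_mono_of_preservesKernel
      E' inferInstance inferInstance) a ha
  obtain ⟨V, i, ⟨v, hv⟩, hsV⟩ := Presheaf.imageSieve_mem (Top Y (_root_.FibDesc.bot _)) l.hom z s hs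
  refine ⟨V, i.le, v, hsV, ?_⟩
  refine (ConcreteCategory.congr_hom (congrArg (fun ψ => ψ.hom.app (op V))
    (kernel.lift_ι g f w)) v).symm.trans ?_
  refine (congrArg ((kernel.ι g).hom.app (op V)) hv).trans ?_
  refine (NatTrans.naturality_apply (kernel.ι g).hom i.op z).trans ?_
  exact congrArg _ hz

include R hunit in
lemma locExact_zero {U : Opens (S Y)} {s : S Y} (hs : s ∈ U) (c : (DU F U).G)
    (hc : c ∈ (DU F U).W 0) (hd : (DU F U).tot c = 0) :
    ∃ (V : Opens (S Y)) (i : V ≤ U), s ∈ V ∧ (resD F i).map c = 0 := by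
  have h0 := (DR_rowsAcyclic F R U).zero_of (Bicx.Hom.map_mem_W (ψU F R U) hc)
    (by rw [← Bicx.Hom.map_tot, hd, map_zero])
  have hv : (DU F U).v 0 0 (c 0 0) = 0 := by
    simpa [Bicx.tot_apply] using congrFun (congrFun hd 0) 1
  obtain ⟨x, hx⟩ := QuotientAddGroup.mk'_surjective _ (c 0 0)
  rw [← hx] at hv
  obtain ⟨V, i, t, hsV, ht⟩ := exists_germs_eq F (pb F 0 (jU U) x)
    (d'_pb_jU F U ((QuotientAddGroup.eq_zero_iff _).1 hv)) ⟨s, hs⟩
  rw [pb_baseIncl_jU] at ht
  have hψ : (ψU F R V).f 0 0 ((resD F i).f 0 0 (c 0 0)) = 0 := by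
    rw [← ψU_res]
    exact (congrArg _ (congrFun (congrFun h0 0) 0)).trans (map_zero _)
  have ht0 : t = 0 := by
    refine (uR_sections R hunit V).1 (Eq.trans ?_ (map_zero _).symm)
    rw [← hx] at hψ
    refine Eq.trans ?_ hψ
    change ((push (Y := Y)).map (cmp F R 0)).hom.app (op V) (elt 0 (germs F V t)) =
      ((push (Y := Y)).map (cmp F R 0)).hom.app (op V) (elt 0 (pb F 0 (jU V) x))
    rw [ht]
  refine ⟨V, i, hsV, funext fun p => funext fun q => ?_⟩
  by_cases hpq : p + q = 0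
  · obtain ⟨rfl, rfl⟩ : p = 0 ∧ q = 0 := by omega
    rw [Bicx.Hom.map_apply, ← hx]
    refine (QuotientAddGroup.eq_zero_iff x).2 (mem_NU_of_pb_jU F ?_)
    rw [ht, ht0, map_zero]
  · rw [Bicx.Hom.map_apply, hc p q hpq, map_zero]
    rfl

include R hunit hac in
lemma locExact_succ {U : Opens (S Y)} {s : S Y} (hs : s ∈ U) (n : ℕ) (c : (DU F U).G)
    (hc : c ∈ (DU F U).W (n + 1)) (hd : (DU F U).tot c = 0) :
    ∃ (V : Opens (S Y)) (i : V ≤ U) (b : (DU F V).G),
      s ∈ V ∧ b ∈ (DU F V).W n ∧ (DU F V).tot b = (resD F i).map c := by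
  have hv : (DU F U).v 0 (n + 1) (c 0 (n + 1)) = 0 := by
    simpa [Bicx.tot_apply] using congrFun (congrFun hd 0) (n + 1 + 1)
  obtain ⟨x, hx⟩ := QuotientAddGroup.mk'_surjective _ (c 0 (n + 1))
  rw [← hx] at hv
  obtain ⟨V, i, χ, hsV, hχ⟩ := exists_pb_eq F (pb F (n + 1) (jU U) x)
    (d'_pb_jU F U ((QuotientAddGroup.eq_zero_iff _).1 hv)) ⟨s, hs⟩
  rw [pb_baseIncl_jU] at hχ
  obtain ⟨y, hy⟩ := pb_surjective (F := F) (q := n) (jU V) V.isOpenEmbedding' χ
  let y' : (DU F V).X 0 n := QuotientAddGroup.mk y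
  have hy' : (DU F V).v 0 n y' = (resD F i).f 0 (n + 1) (c 0 (n + 1)) := by
    rw [← hx]
    refine (QuotientAddGroup.eq_iff_sub_mem).2 (mem_NU_of_pb_jU F ?_)
    refine (map_sub _ _ _).trans (sub_eq_zero.2 ?_)
    refine ((hom F (jU V).left (Over.w (jU V)) n).next_fn_d' y).trans (Eq.trans ?_ hχ.symm)
    exact congrArg _ hy
  let c₁ : (DU F V).G := (resD F i).map c - (DU F V).tot ((DU F V).single 0 n y')
  have hyW : (DU F V).single 0 n y' ∈ (DU F V).W n := fun p q h => Bicx.single_mem_W 0 n y' p q (by omega)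
  have hc₁ : c₁ ∈ (DU F V).W (n + 1) := sub_mem (Bicx.Hom.map_mem_W _ hc) (Bicx.tot_mem_W hyW)
  have hc₁0 : c₁ 0 (n + 1) = 0 := by
    change (resD F i).f 0 (n + 1) (c 0 (n + 1)) - _ = 0
    rw [Bicx.tot_single_v, pow_zero, one_smul, hy', sub_self]
  have hd₁ : (DU F V).tot c₁ = 0 := by
    rw [map_sub, ← Bicx.Hom.map_tot, hd, map_zero, Bicx.tot_tot, sub_zero]
  suffices ∃ (W : Opens (S Y)) (j : W ≤ V) (b : (DU F W).G),
      s ∈ W ∧ b ∈ (DU F W).W n ∧ (DU F W).tot b = (resD F j).map c₁ by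
    obtain ⟨W, j, b, hsW, hb, e⟩ := this
    refine ⟨W, j.trans i, b + (resD F j).map ((DU F V).single 0 n y'), hsW,
      add_mem hb (Bicx.Hom.map_mem_W _ hyW), ?_⟩
    rw [map_add, e, ← Bicx.Hom.map_tot, ← map_add, sub_add_cancel, resD_resD]
  obtain ⟨b', hb', e'⟩ := (DR_rowsAcyclic F R V).exact (n + 2) n 0 ((ψU F R V).map c₁) (by omega)
    (Bicx.Hom.map_mem_W _ hc₁) (Bicx.filV_zero _) (by rw [← Bicx.Hom.map_tot, hd₁, map_zero])
  have ha : (DR F R V).v 0 n (b' 0 n) = 0 := by
    have := congrFun (congrFun e' 0) (n + 1)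
    simpa [Bicx.tot_apply, Bicx.Hom.map_apply, hc₁0] using this
  cases n with
  | zero =>
    obtain ⟨t, ht⟩ := (uR_sections R hunit V).2 (b' 0 0) ha
    obtain ⟨g, hg⟩ := pb_surjective (F := F) (q := 0) (jU V) V.isOpenEmbedding' (germs F V t)
    let g' : (DU F V).X 0 0 := QuotientAddGroup.mk g
    have hψg : (ψU F R V).f 0 0 g' = b' 0 0 := by
      refine Eq.trans ?_ ht
      change ((push (Y := Y)).map (cmp F R 0)).hom.app (op V) (elt 0 (pb F 0 (jU V) g)) = _
      rw [hg]
      rfl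
    have hgv : (DU F V).v 0 0 g' = 0 := by
      refine (QuotientAddGroup.eq_zero_iff _).2 (mem_NU_of_pb_jU F ?_)
      refine ((hom F (jU V).left (Over.w (jU V)) 0).next_fn_d' g).trans ((congrArg _ hg).trans ?_)
      rw [germs_eq]
      exact d'_germFam F (baseSp V) V (fun z : V => z.2) t
    have hgW : (DU F V).single 0 0 g' ∈ (DU F V).W 0 := fun p q h => Bicx.single_mem_W 0 0 g' p q h
    let c₂ := c₁ - (DU F V).tot ((DU F V).single 0 0 g')
    have hc₂ : c₂ ∈ (DU F V).W 1 := sub_mem hc₁ (Bicx.tot_mem_W hgW)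
    have hc₂0 : c₂ 0 1 = 0 := by
      change c₁ 0 1 - _ = 0
      rw [Bicx.tot_single_v, hgv, smul_zero, hc₁0, sub_zero]
    have hψc₂ : (ψU F R V).map c₂ = 0 := by
      rw [map_sub, Bicx.Hom.map_tot, Bicx.Hom.map_single, hψg, ← e', ← map_sub]
      refine (congrArg _ (funext fun p => funext fun q => ?_)).trans (map_zero _)
      by_cases hpq : p + q = 0
      · obtain ⟨rfl, rfl⟩ : p = 0 ∧ q = 0 := by omega
        simp
      · change b' p q - (DR F R V).single 0 0 (b' 0 0) p q = 0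
        rw [hb' p q hpq, Bicx.single_mem_W 0 0 _ p q hpq, sub_zero]
    obtain ⟨c', hc', e₂⟩ := Bicx.eq_single_add_shift hc₂
    rw [hc₂0, Bicx.single_zero, zero_add] at e₂
    have hd' : (DU F V).tail.tot c' = 0 := by
      refine Bicx.shift_injective (D := DU F V) ?_
      rw [← Bicx.tot_shift, ← e₂, map_zero]
      exact (map_sub _ _ _).trans (by rw [hd₁, Bicx.tot_tot, sub_zero])
    have hψc' : (TotSurj.tailHom (ψU F R V)).map c' = 0 := by
      refine Bicx.shift_injective (D := DR F R V) ?_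
      rw [← TotSurj.map_shift, ← e₂, hψc₂, map_zero]
    have hc'0 := (ψU_tail_colQis F R V).totInj_zero (hc' 0 rfl) hd' hψc'
    refine ⟨V, le_rfl, (DU F V).single 0 0 g', hsV, hgW, ?_⟩
    rw [hc'0, map_zero] at e₂
    rw [← sub_eq_zero]
    have : c₁ = (DU F V).tot ((DU F V).single 0 0 g') := sub_eq_zero.1 e₂
    rw [← this]
    refine sub_eq_zero.2 (funext fun p => funext fun q => ?_)
    rw [Bicx.Hom.map_apply]
    induction c₁ p q using QuotientAddGroup.induction_on with
    | _ z => rfl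
  | succ m =>
    obtain ⟨W, j, w, hsW, hw⟩ := exists_push_eq R hac m (b' 0 (m + 1)) ha hsV
    let c₂ := (resD F j).map c₁
    let b₂ := (resR F R j).map b' - (DR F R W).tot ((DR F R W).single 0 m w)
    have hwW : (DR F R W).single 0 m w ∈ (DR F R W).W m := fun p q h =>
      Bicx.single_mem_W (D := DR F R W) 0 m w p q (by omega)
    have hb₂ : b₂ ∈ (DR F R W).W (m + 1) :=
      sub_mem (Bicx.Hom.map_mem_W _ hb') (Bicx.tot_mem_W hwW)
    have hb₂0 : b₂ 0 (m + 1) = 0 := by
      change (resR F R j).f 0 (m + 1) (b' 0 (m + 1)) - _ = 0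
      rw [Bicx.tot_single_v, pow_zero, one_smul]
      exact sub_eq_zero.2 hw.symm
    have hc₂ : c₂ ∈ (DU F W).W (m + 1 + 1) := Bicx.Hom.map_mem_W _ hc₁
    have hc₂0 : c₂ 0 (m + 1 + 1) = 0 := by
      change (resD F j).f 0 (m + 1 + 1) (c₁ 0 (m + 1 + 1)) = 0
      rw [hc₁0, map_zero]
    have he₂ : (ψU F R W).map c₂ = (DR F R W).tot b₂ := by
      rw [map_sub, Bicx.tot_tot, sub_zero, ← Bicx.Hom.map_tot, e', ψU_res_map]
    obtain ⟨c', hc', e₂⟩ := Bicx.eq_single_add_shift hc₂
    rw [hc₂0, Bicx.single_zero, zero_add] at e₂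
    obtain ⟨b'', hb'', e₃⟩ := Bicx.eq_single_add_shift hb₂
    rw [hb₂0, Bicx.single_zero, zero_add] at e₃
    have hd' : (DU F W).tail.tot c' = 0 := by
      refine Bicx.shift_injective (D := DU F W) ?_
      rw [← Bicx.tot_shift, ← e₂, map_zero, ← Bicx.Hom.map_tot, hd₁, map_zero]
    have hψ : (TotSurj.tailHom (ψU F R W)).map c' = (DR F R W).tail.tot b'' := by
      refine Bicx.shift_injective (D := DR F R W) ?_
      rw [← TotSurj.map_shift, ← e₂, he₂, ← Bicx.tot_shift, ← e₃]
    obtain ⟨b, hb, e⟩ := (ψU_tail_colQis F R W).totInj (m + 2) m 0 c' b'' (by omega) (hc' _ rfl)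
      (hb'' _ rfl) (Bicx.fil_zero _) (Bicx.fil_zero _) hd' hψ
    refine ⟨W, j, (DU F W).shift b, hsW, Bicx.shift_mem_W hb, ?_⟩
    rw [Bicx.tot_shift, e, ← e₂]

include hunit hac in
/-- Descent gives exactness above every open. -/
theorem totExact_of_descent : TotExact F := by
  let R : InjectiveResolution ((pull (Y := Y)).obj F) := InjectiveResolution.of _
  refine totExact_of_locExact F ?_
  intro U s hs
  refine ⟨?_, ?_⟩
  · intro c hc hd
    exact locExact_zero (F := F) R hunit (U := U) (s := s) hs c hc hd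
  · intro n c hc hd
    exact locExact_succ (F := F) R hunit hac (U := U) (s := s) hs n c hc hd

end Resolution

/-- **Cohomological descent is exactness of the total complexes above the opens of the base.** -/
theorem isCohDescentTop_iff :
    _root_.FibDesc.IsCohDescentTop Y ↔ ∀ F : CohTop.Ab (S Y), TotExact F := by
  refine ⟨fun h F => ?_, isCohDescentTop_of_totExact⟩
  haveI := isContinuous_eps Y
  haveI := isContinuous_incl Y
  haveI := isCocontinuous_incl Y
  haveI hP := preservesFiniteLimits_pull (Y := Y)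
  haveI : PreservesFiniteColimits (pull (Y := Y)) :=
    PreservesColimitsOfSize.preservesFiniteColimits.{0, 0} _
  letI := HasDerivedCategory.standard (_root_.FibDesc.BaseSh (Fam Y) (Top Y) AddCommGrpCat.{u})
  letI := HasDerivedCategory.standard (Sh Y)
  obtain ⟨_, _, _, _, _, _, hbij⟩ := h
  haveI := Converse.isIso_unit (P := pull (Y := Y)) hbij (adj (Y := Y))
  exact totExact_of_descent inferInstance (Converse.acyc (P := pull (Y := Y)) hbij (adj (Y := Y)) F)

end Groth.Agent.Lib.FibDesc.TotExactIff
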