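import Groth.Agent.Lib.FibDesc.TotExactIff
import Groth.Agent.Lib.FibDesc.BaseChangeLv

/-!
# Moving exactness of the augmented descent bicomplexes along maps of simplicial spaces and of bases
-/

set_option autoImplicit false
set_option linter.style.haveILetI false

universe u

open CategoryTheory Limits TopologicalSpace Opposite Simplicial Topology

namespace Groth.Agent.Lib.FibDesc.Transfer

open Groth.Agent.H30.Gode Groth.Agent.H30.E1

/-- The total complex is exact, and injective in degree zero. -/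
def ExactTot (D : Bicx.{u}) : Prop :=
  (∀ c, c ∈ D.W 0 → D.tot c = 0 → c = 0) ∧
    ∀ n c, c ∈ D.W (n + 1) → D.tot c = 0 → ∃ b, b ∈ D.W n ∧ D.tot b = c

section Bij

variable {D D' : Bicx.{u}} (φ : Bicx.Hom D D') (hφ : ∀ p q, Function.Bijective (φ.f p q))
include hφ

lemma map_injective : Function.Injective φ.map := fun _ _ e =>
  funext fun p => funext fun q => (hφ p q).1 (congrFun (congrFun e p) q)

lemma exists_map_eq {n : ℕ} {c' : D'.G} (hc : c' ∈ D'.W n) : ∃ c ∈ D.W n, φ.map c = c' :=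
  ⟨fun p q => ((hφ p q).2 (c' p q)).choose,
    fun p q h => (hφ p q).1 (((hφ p q).2 (c' p q)).choose_spec.trans ((hc p q h).trans (map_zero _).symm)),
    funext fun p => funext fun q => ((hφ p q).2 (c' p q)).choose_spec⟩

theorem exactTot_iff : ExactTot D ↔ ExactTot D' := by
  constructor
  · refine fun h => ⟨fun c hc hd => ?_, fun n c hc hd => ?_⟩
    · obtain ⟨c, hc', rfl⟩ := exists_map_eq φ hφ hc
      rw [h.1 c hc' (map_injective φ hφ (by rw [φ.map_tot, hd, map_zero])), map_zero]
    · obtain ⟨c, hc', rfl⟩ := exists_map_eq φ hφ hc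
      obtain ⟨b, hb, rfl⟩ := h.2 n c hc' (map_injective φ hφ (by rw [φ.map_tot, hd, map_zero]))
      exact ⟨φ.map b, φ.map_mem_W hb, (φ.map_tot b).symm⟩
  · refine fun h => ⟨fun c hc hd => ?_, fun n c hc hd => ?_⟩
    · exact map_injective φ hφ
        ((h.1 _ (φ.map_mem_W hc) (by rw [← φ.map_tot, hd, map_zero])).trans (map_zero _).symm)
    · obtain ⟨b, hb, e⟩ := h.2 n _ (φ.map_mem_W hc) (by rw [← φ.map_tot, hd, map_zero])
      obtain ⟨b, hb', rfl⟩ := exists_map_eq φ hφ hb
      exact ⟨b, hb', map_injective φ hφ ((φ.map_tot b).trans e)⟩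

end Bij

/-- Quotient bicomplexes with the same subgroups under a surjective morphism. -/
theorem exactTot_quot_iff {D D' : Bicx.{u}} {N : ∀ p q, AddSubgroup (D.X p q)}
    {N' : ∀ p q, AddSubgroup (D'.X p q)} (hN : D.Stable N) (hN' : D'.Stable N') (φ : Bicx.Hom D D')
    (hs : ∀ p q, Function.Surjective (φ.f p q)) (hiff : ∀ p q x, φ.f p q x ∈ N' p q ↔ x ∈ N p q) :
    ExactTot (D.quot hN) ↔ ExactTot (D'.quot hN') := by
  let comp : Bicx.Hom D (D'.quot hN') :=
    { f := fun p q => (QuotientAddGroup.mk' (N' p q)).comp (φ.f p q)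
      fh := fun p q x => congrArg (QuotientAddGroup.mk' (N' (p + 1) q)) (φ.fh p q x)
      fv := fun p q x => congrArg (QuotientAddGroup.mk' (N' p (q + 1))) (φ.fv p q x) }
  refine exactTot_iff (Bicx.quotLift hN comp fun p q x hx =>
    (QuotientAddGroup.eq_zero_iff _).2 ((hiff p q x).2 hx)) fun p q => ⟨?_, fun y => ?_⟩
  · refine (injective_iff_map_eq_zero _).2 fun x hx => ?_
    induction x using QuotientAddGroup.induction_on with
    | _ x =>
      exact (QuotientAddGroup.eq_zero_iff x).2 ((hiff p q x).1 ((QuotientAddGroup.eq_zero_iff _).1 hx))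
  · obtain ⟨y, rfl⟩ := QuotientAddGroup.mk'_surjective (N' p q) y
    obtain ⟨x, rfl⟩ := hs p q y
    exact ⟨QuotientAddGroup.mk' (N p q) x, rfl⟩

variable {S : TopCat.{u}} (F : CohTop.Ab S) (K : SimplicialObject (Over S)) (B : Over S)
  (a : K _⦋0⦌ ⟶ B) (ha : K.δ 0 ≫ a = K.δ (1 : Fin 2) ≫ a)

/-- The families vanishing on an open. -/
noncomputable def NB (U : Opens S) : ∀ p q, AddSubgroup ((bicx F K B a ha).X p q) :=
  fun _ q => ⨅ t : U, vanish F q t.1

variable {F K B a ha} in
lemma mem_NB {U : Opens S} {p q : ℕ} {x : (bicx F K B a ha).X p q} :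
    x ∈ NB F K B a ha U p q ↔ ∀ t ∈ U, x ∈ vanish F q t :=
  ⟨fun h t ht => AddSubgroup.mem_iInf.1 h ⟨t, ht⟩, fun h => AddSubgroup.mem_iInf.2 fun t => h t.1 t.2⟩

theorem stable_NB (U : Opens S) : (bicx F K B a ha).Stable (NB F K B a ha U) where
  h p q _ hx := mem_NB.2 fun t ht => aH_vanish p q _ (mem_NB.1 hx t ht)
  v _ _ _ hx := mem_NB.2 fun t ht => dl_vanish U.isOpen (mem_NB.1 hx) t ht

/-- The families on an open. -/
noncomputable abbrev BQ (U : Opens S) : Bicx.{u} := (bicx F K B a ha).quot (stable_NB F K B a ha U)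

/-- Exactness for a simplicial space augmented to its base. -/
def TE (U : Opens S) : Prop :=
  ExactTot (BQ F K (Over.mk (𝟙 S)) (Groth.Agent.H30.Gode.toBase K) (toBase_cond K) U)

lemma totExact_iff {Y : Site.AugSp.{u}} (F : CohTop.Ab (Site.S Y)) :
    Proper.TotExact F ↔ ∀ U, TE F (Rows.simp Y) U := Iff.rfl

/-- Descent of a map through exactness above the opens. -/
theorem isCohDescentMap_iff {X S : TopCat.{u}} (f : X ⟶ S) :
    _root_.FibDesc.IsCohDescentMap f ↔ ∀ (F : CohTop.Ab S) U, TE F (nerve f) U :=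
  TotExactIff.isCohDescentTop_iff (Y := _root_.FibDesc.cechAug f)

section Maps

variable {F K B a} {K' : SimplicialObject (Over S)} {B' : Over S} {a' : K' _⦋0⦌ ⟶ B'}
  (ha' : K'.δ 0 ≫ a' = K'.δ (1 : Fin 2) ≫ a')
  (ι : K' ⟶ K) (ιB : B' ⟶ B) (hι : ι.app (op ⦋0⦌) ≫ a = a' ≫ ιB)

/-- The maps of spaces. -/
abbrev mapT : ∀ p, aT K' B' p ⟶ aT K B p
  | 0 => ιB
  | p + 1 => ι.app (op ⦋p⦌)

include hι in
lemma pb_mapT_aH : ∀ p q (x : (lv F (aT K B p).hom q).Fn),
    pb F q (mapT ι ιB (p + 1)) (aH F K B a p q x) =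
      aH F K' B' a' p q (pb F q (mapT ι ιB p) x)
  | 0, q, x => by
    change pb F q (ι.app (op ⦋0⦌)) (pb F q a x) = pb F q a' (pb F q ιB x)
    rw [pb_comp, pb_comp, hι]
  | p + 1, q, x => by
    change pb F q (ι.app (op ⦋p + 1⦌)) ((row F K q).d p (p + 1) x) =
      (row F K' q).d p (p + 1) (pb F q (ι.app (op ⦋p⦌)) x)
    rw [row_d_apply, row_d_apply, map_sum]
    refine Finset.sum_congr rfl fun i _ => ?_
    rw [map_zsmul]
    refine congrArg _ ((pb_comp F q _ _ x).trans (Eq.trans ?_ (pb_comp F q _ _ x).symm))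
    exact congrArg (fun g => pb F q g x) (ι.naturality (SimplexCategory.δ i).op).symm

/-- The morphism of bicomplexes of a map of augmented simplicial spaces. -/
noncomputable def mapHom : Bicx.Hom (bicx F K B a ha) (bicx F K' B' a' ha') where
  f p q := pb F q (mapT ι ιB p)
  fh p q x := pb_mapT_aH ι ιB hι p q x
  fv p q x := (hom F (mapT ι ιB p).left (Over.w (mapT ι ιB p)) q).next_fn_d' x

include hι in
/-- Invariance under open embeddings covering the part over the open. -/
theorem exactTot_iff_map (U : Opens S) (he : ∀ p, IsOpenEmbedding (mapT ι ιB p).left)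
    (hc : ∀ p (y : (aT K B p).left), (aT K B p).hom y ∈ U →
      ∃ y' : (aT K' B' p).left, (mapT ι ιB p).left y' = y) :
    ExactTot (BQ F K B a ha U) ↔ ExactTot (BQ F K' B' a' ha' U) := by
  refine exactTot_quot_iff _ _ (mapHom ha ha' ι ιB hι)
    (fun p q => pb_surjective (F := F) (q := q) (mapT ι ιB p) (he p)) fun p q x => ?_
  refine ⟨fun h => mem_NB.2 fun t ht y hy => ?_, fun h => mem_NB.2 fun t ht => ?_⟩
  · subst hy
    obtain ⟨y', rfl⟩ := hc p y ht
    refine (hom_bijective F (mapT ι ιB p).left (Over.w (mapT ι ιB p)) (he p) q y').1 (Eq.trans ?_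
      (map_zero _).symm)
    exact mem_NB.1 h _ ht y' (ConcreteCategory.congr_hom (Over.w (mapT ι ιB p)) y').symm
  · exact pb_vanish _ (mem_NB.1 h t ht)

end Maps

/-- Invariance under isomorphisms of simplicial spaces. -/
theorem te_iff_of_iso {K' : SimplicialObject (Over S)} (e : K' ≅ K) (U : Opens S) :
    TE F K U ↔ TE F K' U := by
  have hb : ∀ n, IsOpenEmbedding (e.hom.app n).left ∧ Function.Surjective (e.hom.app n).left :=
    fun n => ⟨(TopCat.homeoOfIso ((Over.forget S).mapIso (e.app n))).isOpenEmbedding,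
      (TopCat.homeoOfIso ((Over.forget S).mapIso (e.app n))).surjective⟩
  refine exactTot_iff_map (toBase_cond K) (toBase_cond K') e.hom (𝟙 _) ?_ U (fun p => ?_) fun p y _ => ?_
  · exact Over.OverMorphism.ext (Over.w (e.hom.app (op ⦋0⦌)))
  · cases p with
    | zero => exact IsOpenEmbedding.id
    | succ p => exact (hb (op ⦋p⦌)).1
  · cases p with
    | zero => exact ⟨y, rfl⟩
    | succ p => exact (hb (op ⦋p⦌)).2 y

section Base

variable {S' : TopCat.{u}} (g : S' ⟶ S) (K₁ : SimplicialObject (Over S')) (B₁ : Over S')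
  (a₁ : K₁ _⦋0⦌ ⟶ B₁) (ha₁ : K₁.δ 0 ≫ a₁ = K₁.δ (1 : Fin 2) ≫ a₁)

/-- A simplicial space over `S'` seen over `S`. -/
noncomputable abbrev over : SimplicialObject (Over S) := K₁ ⋙ Over.map g

include ha₁ in
lemma over_cond : (over g K₁).δ 0 ≫ (Over.map g).map a₁ = (over g K₁).δ (1 : Fin 2) ≫ (Over.map g).map a₁ :=
  ((Over.map g).map_comp _ _).symm.trans
    ((congrArg (Over.map g).map ha₁).trans ((Over.map g).map_comp _ _))

/-- The comparison of families. -/
noncomputable def bcF : ∀ p q,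
    (lv F (aT (over g K₁) ((Over.map g).obj B₁) p).hom q).Fn →+
      (lv (BaseChangeLv.F' g F) (aT K₁ B₁ p).hom q).Fn
  | 0, q => BaseChangeLv.bc g F B₁ q
  | p + 1, q => BaseChangeLv.bc g F (K₁ _⦋p⦌) q

lemma bcF_h : ∀ p q x, bcF F g K₁ B₁ (p + 1) q
    (aH F (over g K₁) ((Over.map g).obj B₁) ((Over.map g).map a₁) p q x) =
      aH (BaseChangeLv.F' g F) K₁ B₁ a₁ p q (bcF F g K₁ B₁ p q x)
  | 0, q, x => BaseChangeLv.bc_pb g F a₁ q x
  | p + 1, q, x => by
    change BaseChangeLv.bc g F (K₁ _⦋p + 1⦌) q ((row F (over g K₁) q).d p (p + 1) x) =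
      (row (BaseChangeLv.F' g F) K₁ q).d p (p + 1) (BaseChangeLv.bc g F (K₁ _⦋p⦌) q x)
    rw [row_d_apply, row_d_apply, map_sum]
    refine Finset.sum_congr rfl fun i _ => ?_
    rw [map_zsmul]
    exact congrArg _ (BaseChangeLv.bc_pb g F (K₁.δ i) q x)

/-- The morphism of bicomplexes. -/
noncomputable def bcBicx : Bicx.Hom
    (bicx F (over g K₁) ((Over.map g).obj B₁) ((Over.map g).map a₁) (over_cond g K₁ B₁ a₁ ha₁))
    (bicx (BaseChangeLv.F' g F) K₁ B₁ a₁ ha₁) where
  f := bcF F g K₁ B₁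
  fh := bcF_h F g K₁ B₁ a₁
  fv p q x := match p with
    | 0 => BaseChangeLv.bc_d g F B₁ q x
    | p + 1 => BaseChangeLv.bc_d g F (K₁ _⦋p⦌) q x

/-- Change of the base. -/
theorem exactTot_iff_base (U : Opens S) :
    ExactTot (BQ F (over g K₁) ((Over.map g).obj B₁) ((Over.map g).map a₁)
        (over_cond g K₁ B₁ a₁ ha₁) U) ↔
      ExactTot (BQ (BaseChangeLv.F' g F) K₁ B₁ a₁ ha₁ ((Opens.map g).obj U)) := by
  refine exactTot_quot_iff _ _ (bcBicx F g K₁ B₁ a₁ ha₁) (fun p q => ?_) fun p q x => ?_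
  · cases p with
    | zero => exact (BaseChangeLv.bc_bijective g F B₁ q).2
    | succ p => exact (BaseChangeLv.bc_bijective g F (K₁ _⦋p⦌) q).2
  · cases p with
    | zero =>
      exact ⟨fun h => mem_NB.2 fun t ht y hy => (BaseChangeLv.bc_apply_eq_zero_iff g F B₁ q x y).1
          (mem_NB.1 h (B₁.hom y) (show g (B₁.hom y) ∈ U from hy.symm ▸ ht) y rfl),
        fun h => mem_NB.2 fun t ht y hy => (BaseChangeLv.bc_apply_eq_zero_iff g F B₁ q x y).2
          (mem_NB.1 h (g t) ht y (congrArg g hy))⟩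
    | succ p =>
      exact ⟨fun h => mem_NB.2 fun t ht y hy =>
          (BaseChangeLv.bc_apply_eq_zero_iff g F (K₁ _⦋p⦌) q x y).1
          (mem_NB.1 h ((K₁ _⦋p⦌).hom y) (show g ((K₁ _⦋p⦌).hom y) ∈ U from hy.symm ▸ ht) y rfl),
        fun h => mem_NB.2 fun t ht y hy => (BaseChangeLv.bc_apply_eq_zero_iff g F (K₁ _⦋p⦌) q x y).2
          (mem_NB.1 h (g t) ht y (congrArg g hy))⟩

end Base

section Nerve

variable {X S' : TopCat.{u}} (u : X ⟶ S) (g : S' ⟶ S) (m : ℕ)

/-- The fibre power. -/
noncomputable abbrev Pw {X S : TopCat.{u}} (u : X ⟶ S) (m : ℕ) : TopCat.{u} :=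
  widePullback S (fun _ : Fin (m + 1) => X) (fun _ => u)

/-- Its structure map. -/
noncomputable abbrev pwBase {X S : TopCat.{u}} (u : X ⟶ S) (m : ℕ) : Pw u m ⟶ S :=
  WidePullback.base (fun _ : Fin (m + 1) => u)

/-- Its projections. -/
noncomputable abbrev pwπ {X S : TopCat.{u}} (u : X ⟶ S) (m : ℕ) (i : Fin (m + 1)) : Pw u m ⟶ X :=
  WidePullback.π (fun _ : Fin (m + 1) => u) i

/-- The base change of a fibre power. -/
noncomputable abbrev PwC : TopCat.{u} := pullback (pwBase u m) g

lemma pwc_cond (i : Fin (m + 1)) :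
    (pullback.fst (pwBase u m) g ≫ pwπ u m i) ≫ u = pullback.snd (pwBase u m) g ≫ g := by
  rw [Category.assoc, WidePullback.π_arrow]
  exact pullback.condition

/-- To the fibre power of the base change. -/
noncomputable def pwHom : PwC u g m ⟶ Pw (pullback.snd u g) m :=
  WidePullback.lift (pullback.snd (pwBase u m) g)
    (fun i => pullback.lift (pullback.fst (pwBase u m) g ≫ pwπ u m i)
      (pullback.snd (pwBase u m) g) (pwc_cond u g m i))
    (fun _ => pullback.lift_snd _ _ _)

lemma pw_cond (i : Fin (m + 1)) :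
    (pwπ (pullback.snd u g) m i ≫ pullback.fst u g) ≫ u = pwBase (pullback.snd u g) m ≫ g := by
  rw [Category.assoc, pullback.condition, ← Category.assoc, WidePullback.π_arrow]

/-- Back. -/
noncomputable def pwInv : Pw (pullback.snd u g) m ⟶ PwC u g m :=
  pullback.lift
    (WidePullback.lift (pwBase (pullback.snd u g) m ≫ g)
      (fun i => pwπ (pullback.snd u g) m i ≫ pullback.fst u g) (fun i => pw_cond u g m i))
    (pwBase (pullback.snd u g) m) (WidePullback.lift_base _ _ _ _)

lemma pwHom_π_fst (i : Fin (m + 1)) :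
    pwHom u g m ≫ pwπ (pullback.snd u g) m i ≫ pullback.fst u g =
      pullback.fst (pwBase u m) g ≫ pwπ u m i := by
  rw [pwHom, WidePullback.lift_π_assoc, pullback.lift_fst]

lemma pwHom_π_snd (i : Fin (m + 1)) :
    pwHom u g m ≫ pwπ (pullback.snd u g) m i ≫ pullback.snd u g = pullback.snd (pwBase u m) g := by
  rw [pwHom, WidePullback.lift_π_assoc, pullback.lift_snd]

lemma pwHom_base : pwHom u g m ≫ pwBase (pullback.snd u g) m = pullback.snd (pwBase u m) g :=
  WidePullback.lift_base _ _ _ _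

lemma pwInv_fst_π (i : Fin (m + 1)) :
    pwInv u g m ≫ pullback.fst (pwBase u m) g ≫ pwπ u m i =
      pwπ (pullback.snd u g) m i ≫ pullback.fst u g := by
  rw [pwInv, pullback.lift_fst_assoc, WidePullback.lift_π]

lemma pwInv_fst_base :
    pwInv u g m ≫ pullback.fst (pwBase u m) g ≫ pwBase u m = pwBase (pullback.snd u g) m ≫ g := by
  rw [pwInv, pullback.lift_fst_assoc, WidePullback.lift_base]

lemma pwInv_snd : pwInv u g m ≫ pullback.snd (pwBase u m) g = pwBase (pullback.snd u g) m :=
  pullback.lift_snd _ _ _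

lemma pwHom_inv : pwHom u g m ≫ pwInv u g m = 𝟙 _ := by
  apply pullback.hom_ext
  · apply WidePullback.hom_ext
    · intro j
      simp only [Category.assoc, Category.id_comp]
      rw [pwInv_fst_π, pwHom_π_fst]
    · simp only [Category.assoc, Category.id_comp]
      rw [pwInv_fst_base, ← Category.assoc, pwHom_base, pullback.condition]
  · rw [Category.assoc, pwInv_snd, pwHom_base, Category.id_comp]

lemma pwInv_hom : pwInv u g m ≫ pwHom u g m = 𝟙 _ := by
  apply WidePullback.hom_ext
  · intro j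
    apply pullback.hom_ext
    · simp only [Category.assoc, Category.id_comp]
      rw [pwHom_π_fst, pwInv_fst_π]
    · simp only [Category.assoc, Category.id_comp]
      rw [pwHom_π_snd, pwInv_snd, WidePullback.π_arrow]
  · rw [Category.assoc, pwHom_base, pwInv_snd, Category.id_comp]

/-- The fibre powers of a base change are the base changes of the fibre powers. -/
noncomputable def nervePullbackIso :
    nerve u ⋙ Over.pullback g ≅ nerve (pullback.snd u g) :=
  NatIso.ofComponents (fun n => Over.isoMk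
    { hom := pwHom u g n.unop.len
      inv := pwInv u g n.unop.len
      hom_inv_id := pwHom_inv u g n.unop.len
      inv_hom_id := pwInv_hom u g n.unop.len } (pwHom_base u g n.unop.len))
    (fun {n k} f => by
      apply Over.OverMorphism.ext
      let θ : Pw u n.unop.len ⟶ Pw u k.unop.len := ((nerve u).map f).left
      let θ' : Pw (pullback.snd u g) n.unop.len ⟶ Pw (pullback.snd u g) k.unop.len :=
        ((nerve (pullback.snd u g)).map f).left
      let φ : PwC u g n.unop.len ⟶ PwC u g k.unop.len :=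
        pullback.lift (pullback.fst _ _ ≫ θ) (pullback.snd _ _) (by
          rw [Category.assoc, show θ ≫ pwBase u k.unop.len = pwBase u n.unop.len from
            WidePullback.lift_base _ _ _ _]
          exact pullback.condition)
      change φ ≫ pwHom u g k.unop.len = pwHom u g n.unop.len ≫ θ'
      have hθ' : ∀ j, θ' ≫ pwπ (pullback.snd u g) k.unop.len j =
          pwπ (pullback.snd u g) n.unop.len (f.unop.toOrderHom j) := fun j =>
        WidePullback.lift_π _ _ _ _ _
      have hθ : ∀ j, θ ≫ pwπ u k.unop.len j = pwπ u n.unop.len (f.unop.toOrderHom j) := fun j =>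
        WidePullback.lift_π _ _ _ _ _
      apply WidePullback.hom_ext
      · intro j
        apply pullback.hom_ext
        · simp only [Category.assoc]
          rw [pwHom_π_fst, reassoc_of% (hθ' j), pwHom_π_fst, pullback.lift_fst_assoc, Category.assoc, hθ]
        · simp only [Category.assoc]
          rw [pwHom_π_snd, reassoc_of% (hθ' j), pwHom_π_snd, pullback.lift_snd]
      · rw [Category.assoc, Category.assoc, pwHom_base, show θ' ≫ pwBase (pullback.snd u g) k.unop.len =
          pwBase (pullback.snd u g) n.unop.len from WidePullback.lift_base _ _ _ _, pwHom_base,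
          pullback.lift_snd])

end Nerve

end Groth.Agent.Lib.FibDesc.Transfer
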