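import Groth.Agent.Lib.FibDesc.Transfer

/-!
# Tricomplexes: exactness through the slices
-/

set_option autoImplicit false

universe u

open CategoryTheory

namespace Groth.Agent.Lib.FibDesc.Tri

open Groth.Agent.H30.E1 Transfer

/-- A first octant tricomplex with commuting squares. -/
structure Tri where
  X : ℕ → ℕ → ℕ → AddCommGrpCat.{u}
  ha : ∀ a b q, X a b q →+ X (a + 1) b q
  hb : ∀ a b q, X a b q →+ X a (b + 1) q
  v : ∀ a b q, X a b q →+ X a b (q + 1)
  haa : ∀ a b q x, ha (a + 1) b q (ha a b q x) = 0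
  hbb : ∀ a b q x, hb a (b + 1) q (hb a b q x) = 0
  vv : ∀ a b q x, v a b (q + 1) (v a b q x) = 0
  cab : ∀ a b q x, ha a (b + 1) q (hb a b q x) = hb (a + 1) b q (ha a b q x)
  cav : ∀ a b q x, ha a b (q + 1) (v a b q x) = v (a + 1) b q (ha a b q x)
  cbv : ∀ a b q x, hb a b (q + 1) (v a b q x) = v a (b + 1) q (hb a b q x)

variable (T : Tri.{u})

/-- The slices with fixed first index. -/
@[simps] def Tri.slice (a : ℕ) : Bicx.{u} where
  X := T.X a
  h := T.hb a
  v := T.v a
  hh := T.hbb a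
  vv := T.vv a
  comm := T.cbv a

/-- The first differential between slices. -/
def Tri.δ (a : ℕ) : Bicx.Hom (T.slice a) (T.slice (a + 1)) where
  f := T.ha a
  fh := T.cab a
  fv := T.cav a

/-- The transposed tricomplex. -/
@[simps] def Tri.transp : Tri.{u} where
  X b a q := T.X a b q
  ha b a q := T.hb a b q
  hb b a q := T.ha a b q
  v b a q := T.v a b q
  haa b a q := T.hbb a b q
  hbb b a q := T.haa a b q
  vv b a q := T.vv a b q
  cab b a q x := (T.cab a b q x).symm
  cav b a q := T.cbv a b q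
  cbv b a q := T.cav a b q

/-- All trigraded families. -/
abbrev Tri.G : Type u := ∀ a, (T.slice a).G

/-- The part of the total differential in the first direction. -/
def Tri.dA : T.G →+ T.G where
  toFun c := fun
    | 0 => 0
    | a + 1 => (T.δ a).map (c a)
  map_zero' := by funext a; cases a <;> simp
  map_add' c c' := by funext a; cases a <;> simp

/-- The part of the total differential in the slices. -/
def Tri.dS : T.G →+ T.G where
  toFun c a := ((-1 : ℤ) ^ a) • (T.slice a).tot (c a)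
  map_zero' := by funext a; simp
  map_add' c c' := by funext a; simp [smul_add]

/-- The total differential. -/
def Tri.tot : T.G →+ T.G := T.dA + T.dS

variable {T}

lemma tot_zero (c : T.G) : T.tot c 0 = (T.slice 0).tot (c 0) := by
  simp [Tri.tot, Tri.dA, Tri.dS]

lemma tot_succ (c : T.G) (a : ℕ) :
    T.tot c (a + 1) = (T.δ a).map (c a) + ((-1 : ℤ) ^ (a + 1)) • (T.slice (a + 1)).tot (c (a + 1)) :=
  rfl

lemma δ_δ (a : ℕ) (x : (T.slice a).G) : (T.δ (a + 1)).map ((T.δ a).map x) = 0 :=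
  funext fun b => funext fun q => T.haa a b q (x b q)

lemma tot_tot (c : T.G) : T.tot (T.tot c) = 0 := by
  funext a
  match a with
  | 0 => rw [tot_zero, tot_zero, Bicx.tot_tot]; rfl
  | 1 =>
    rw [tot_succ, tot_zero, tot_succ]
    simp [Bicx.Hom.map_tot, Bicx.tot_tot]
  | a + 2 =>
    rw [tot_succ, tot_succ, tot_succ]
    simp [Bicx.Hom.map_tot, Bicx.tot_tot, δ_δ, pow_succ]

variable (T) in
/-- The families of total degree `n`. -/
def Tri.W (n : ℕ) : AddSubgroup T.G where
  carrier := {c | ∀ a b q, a + b + q ≠ n → c a b q = 0}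
  zero_mem' := fun _ _ _ _ => rfl
  add_mem' h h' := fun a b q e => by simp [h a b q e, h' a b q e]
  neg_mem' h := fun a b q e => by simp [h a b q e]

variable (T) in
/-- The families supported in first indices at least `k`. -/
def Tri.Fil (k : ℕ) : AddSubgroup T.G where
  carrier := {c | ∀ a, a < k → c a = 0}
  zero_mem' := fun _ _ => rfl
  add_mem' h h' := fun a e => by simp [h a e, h' a e]
  neg_mem' h := fun a e => by simp [h a e]

lemma slice_mem_W {c : T.G} {n : ℕ} (hc : c ∈ T.W n) {a j : ℕ} (h : a + j = n) :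
    c a ∈ (T.slice a).W j := fun b q e => hc a b q (by omega)

lemma slice_eq_zero {c : T.G} {n : ℕ} (hc : c ∈ T.W n) {a : ℕ} (h : n < a) : c a = 0 :=
  funext fun b => funext fun q => hc a b q (by omega)

lemma tot_mem_W {c : T.G} {n : ℕ} (hc : c ∈ T.W n) : T.tot c ∈ T.W (n + 1) := by
  intro a b q h
  cases a with
  | zero =>
    rw [tot_zero]
    exact Bicx.tot_mem_W (slice_mem_W hc (zero_add n)) b q (by omega)
  | succ a =>
    rw [tot_succ, Pi.add_apply, Pi.add_apply, Pi.smul_apply, Pi.smul_apply, Bicx.Hom.map_apply,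
      hc a b q (by omega), map_zero, zero_add]
    by_cases ha : a + 1 ≤ n
    · rw [Bicx.tot_mem_W (slice_mem_W hc (Nat.add_sub_cancel' ha)) b q (by omega), smul_zero]
    · rw [slice_eq_zero hc (by omega), map_zero]
      exact smul_zero _

lemma single_mem_W {k j n : ℕ} (h : k + j = n) {x : (T.slice k).G} (hx : x ∈ (T.slice k).W j) :
    Pi.single k x ∈ T.W n := by
  intro a b q e
  rcases eq_or_ne a k with rfl | ha
  · rw [Pi.single_eq_same]; exact hx b q (by omega)
  · rw [Pi.single_eq_of_ne ha]; rfl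

lemma single_mem_Fil (k : ℕ) (x : (T.slice k).G) : Pi.single k x ∈ T.Fil k :=
  fun a ha => by rw [Pi.single_eq_of_ne (show a ≠ k from ha.ne)]

lemma tot_single_self (k : ℕ) (x : (T.slice k).G) :
    T.tot (Pi.single k x) k = ((-1 : ℤ) ^ k) • (T.slice k).tot x := by
  cases k with
  | zero => rw [tot_zero, Pi.single_eq_same, pow_zero, one_smul]
  | succ k => rw [tot_succ, Pi.single_eq_same, Pi.single_eq_of_ne (by omega), map_zero, zero_add]

lemma tot_mem_Fil {c : T.G} {k : ℕ} (hc : c ∈ T.Fil k) : T.tot c ∈ T.Fil k := by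
  intro a ha
  cases a with
  | zero => rw [tot_zero, hc 0 ha, map_zero]
  | succ a => rw [tot_succ, hc a (by omega), hc (a + 1) ha, map_zero, map_zero, smul_zero, add_zero]

lemma smul_sgn {A : Type*} [AddCommGroup A] (k : ℕ) (x : A) :
    ((-1 : ℤ) ^ k) • ((-1 : ℤ) ^ k) • x = x := by
  rw [smul_smul, ← pow_add, Even.neg_one_pow ⟨k, rfl⟩, one_smul]

lemma slice_cocycle {c : T.G} {k : ℕ} (hc : c ∈ T.Fil k) (hd : T.tot c = 0) :
    (T.slice k).tot (c k) = 0 := by
  cases k with
  | zero => rw [← tot_zero, hd]; rfl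
  | succ k =>
    have h := congrFun hd (k + 1)
    rw [tot_succ, hc k (Nat.lt_succ_self k), map_zero, zero_add] at h
    have := congrArg (((-1 : ℤ) ^ (k + 1)) • ·) h
    simpa [smul_sgn] using this

lemma fil_succ {c : T.G} {k : ℕ} (hc : c ∈ T.Fil k) (h : c k = 0) : c ∈ T.Fil (k + 1) := fun a ha => by
  rcases Nat.lt_succ_iff_lt_or_eq.1 ha with ha | rfl
  · exact hc a ha
  · exact h

theorem eq_zero_of_slices {k : ℕ} (hex : k = 0 → ExactTot (T.slice 0)) {c : T.G} (hc : c ∈ T.W 0)
    (hF : c ∈ T.Fil k) (hd : T.tot c = 0) : c = 0 := by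
  funext a
  rcases Nat.eq_zero_or_pos a with rfl | ha
  · rcases Nat.eq_zero_or_pos k with rfl | hk
    · exact (hex rfl).1 _ (slice_mem_W hc rfl) (slice_cocycle hF hd)
    · exact hF 0 hk
  · exact slice_eq_zero hc ha

/-- Exactness from exact slices. -/
theorem exists_tot_eq : ∀ (m n k : ℕ) (c : T.G), n + 2 ≤ m + k → (∀ a, k ≤ a → ExactTot (T.slice a)) →
    c ∈ T.W (n + 1) → c ∈ T.Fil k → T.tot c = 0 → ∃ b, b ∈ T.W n ∧ b ∈ T.Fil k ∧ T.tot b = c
  | 0, n, k, c, hk, _, hc, hF, _ => ⟨0, zero_mem _, zero_mem _, by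
      rw [map_zero]
      funext a
      by_cases ha : a < k
      · exact (hF a ha).symm
      · exact (slice_eq_zero hc (by omega)).symm⟩
  | m + 1, n, k, c, hk, hex, hc, hF, hd => by
    by_cases hkn : n + 1 < k
    · refine ⟨0, zero_mem _, zero_mem _, ?_⟩
      rw [map_zero]
      funext a
      by_cases ha : a < k
      · exact (hF a ha).symm
      · exact (slice_eq_zero hc (by omega)).symm
    have hs := slice_cocycle hF hd
    by_cases hkn' : k = n + 1
    · subst hkn'
      have h0 := (hex _ le_rfl).1 _ (slice_mem_W hc (j := 0) rfl) hs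
      obtain ⟨b, hb, hbF, e⟩ := exists_tot_eq m n (n + 1 + 1) c (by omega)
        (fun a ha => hex a (by omega)) hc (fil_succ hF h0) hd
      exact ⟨b, hb, fun a ha => hbF a (by omega), e⟩
    obtain ⟨j, hj⟩ : ∃ j, k + (j + 1) = n + 1 := ⟨n - k, by omega⟩
    obtain ⟨z, hz, hze⟩ := (hex k le_rfl).2 j (c k) (slice_mem_W hc hj) hs
    let b₀ : T.G := Pi.single k (((-1 : ℤ) ^ k) • z)
    have hb₀ : b₀ ∈ T.W n := single_mem_W (j := j) (by omega) (zsmul_mem hz _)
    have h0 : (c - T.tot b₀) k = 0 := by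
      rw [Pi.sub_apply, tot_single_self, map_zsmul, smul_sgn, hze, sub_self]
    obtain ⟨b, hb, hbF, e⟩ := exists_tot_eq m n (k + 1) (c - T.tot b₀) (by omega)
      (fun a ha => hex a (by omega)) (sub_mem hc (tot_mem_W hb₀))
      (fil_succ (sub_mem hF (tot_mem_Fil (single_mem_Fil k _))) h0)
      (by rw [map_sub, hd, tot_tot, sub_zero])
    refine ⟨b + b₀, add_mem hb hb₀,
      add_mem (fun a ha => hbF a (by omega)) (single_mem_Fil k _), ?_⟩
    rw [map_add, e, sub_add_cancel]

/-- The sign of transposition. -/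
def τ : T.G →+ T.transp.G where
  toFun c := fun b a q => ((-1 : ℤ) ^ (a * b)) • c a b q
  map_zero' := by funext b a q; exact smul_zero _
  map_add' c c' := by funext b a q; exact smul_add _ _ _

lemma τ_apply (c : T.G) (b a q : ℕ) : τ c b a q = ((-1 : ℤ) ^ (a * b)) • c a b q := rfl

lemma τ_τ (c : T.G) : τ (T := T.transp) (τ c) = c := by
  funext a b q
  change ((-1 : ℤ) ^ (b * a)) • ((-1 : ℤ) ^ (a * b)) • c a b q = c a b q
  rw [mul_comm, smul_sgn]

lemma τ_mem_W {c : T.G} {n : ℕ} (hc : c ∈ T.W n) : τ c ∈ T.transp.W n := fun b a q h => by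
  rw [τ_apply, hc a b q (by omega)]
  exact smul_zero _

variable (T) in
/-- The first component of the total differential. -/
def Tri.tA (c : T.G) : ∀ a b q, T.X a b q
  | 0, _, _ => 0
  | a + 1, b, q => T.ha a b q (c a b q)

variable (T) in
/-- The second component of the total differential. -/
def Tri.tB (c : T.G) : ∀ a b q, T.X a b q
  | _, 0, _ => 0
  | a, b + 1, q => T.hb a b q (c a b q)

variable (T) in
/-- The third component of the total differential. -/
def Tri.tV (c : T.G) : ∀ a b q, T.X a b q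
  | _, _, 0 => 0
  | a, b, q + 1 => T.v a b q (c a b q)

lemma slice_tot_apply (c : T.G) (a b q : ℕ) :
    (T.slice a).tot (c a) b q = T.tB c a b q + ((-1 : ℤ) ^ b) • T.tV c a b q := by
  rcases b with _ | b <;> rcases q with _ | q <;>
    simp [Bicx.tot_apply, Tri.tB, Tri.tV] <;> rfl

lemma dA_apply (c : T.G) (a b q : ℕ) : T.dA c a b q = T.tA c a b q := by
  cases a <;> rfl

lemma tot_eq (c : T.G) (a b q : ℕ) : T.tot c a b q =
    T.tA c a b q + ((-1 : ℤ) ^ a) • T.tB c a b q + ((-1 : ℤ) ^ (a + b)) • T.tV c a b q := by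
  have h : T.tot c a b q = T.dA c a b q + ((-1 : ℤ) ^ a) • ((T.slice a).tot (c a) b q) := rfl
  rw [h, dA_apply, slice_tot_apply]
  refine (congrArg (T.tA c a b q + ·) ((smul_add _ _ _).trans
    (congrArg _ (smul_smul _ _ _)))).trans ?_
  rw [← pow_add]
  exact (add_assoc _ _ _).symm

lemma neg_one_pow_of_even {m n : ℕ} (h : Even (m + n)) : ((-1 : ℤ) ^ m) = (-1) ^ n := by
  rw [neg_one_pow_eq_ite, neg_one_pow_eq_ite]
  rw [Nat.even_add] at h
  simp [h]

lemma τ_tA (c : T.G) : ∀ a b q, ((-1 : ℤ) ^ (a * b)) • ((-1 : ℤ) ^ a) • T.tB c a b q =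
    T.transp.tA (τ c) b a q
  | a, 0, q => (congrArg _ (smul_zero _)).trans (smul_zero _)
  | a, b + 1, q => by
    refine (smul_smul _ _ _).trans (Eq.trans ?_ (map_zsmul (T.hb a b q) _ _).symm)
    refine congrArg (fun s : ℤ => s • T.hb a b q (c a b q)) ?_
    rw [← pow_add]
    exact neg_one_pow_of_even ⟨a * b + a, by ring⟩

lemma τ_tB (c : T.G) : ∀ a b q, ((-1 : ℤ) ^ (a * b)) • T.tA c a b q =
    ((-1 : ℤ) ^ b) • T.transp.tB (τ c) b a q
  | 0, b, q => (smul_zero _).trans (smul_zero _).symm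
  | a + 1, b, q => by
    refine Eq.trans ?_ (congrArg (fun z => ((-1 : ℤ) ^ b) • z) (map_zsmul (T.ha a b q) _ _).symm)
    refine Eq.trans ?_ (smul_smul _ _ _).symm
    refine congrArg (fun s : ℤ => s • T.ha a b q (c a b q)) ?_
    rw [← pow_add]
    exact neg_one_pow_of_even ⟨a * b + b, by ring⟩

lemma τ_tV (c : T.G) : ∀ a b q, ((-1 : ℤ) ^ (a * b)) • ((-1 : ℤ) ^ (a + b)) • T.tV c a b q =
    ((-1 : ℤ) ^ (b + a)) • T.transp.tV (τ c) b a q
  | a, b, 0 => ((congrArg _ (smul_zero _)).trans (smul_zero _)).trans (smul_zero _).symm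
  | a, b, q + 1 => by
    refine Eq.trans ?_ (congrArg (fun z => ((-1 : ℤ) ^ (b + a)) • z) (map_zsmul (T.v a b q) _ _).symm)
    refine (smul_smul _ _ _).trans (Eq.trans ?_ (smul_smul _ _ _).symm)
    refine congrArg (fun s : ℤ => s • T.v a b q (c a b q)) ?_
    ring

lemma τ_tot (c : T.G) : τ (T.tot c) = T.transp.tot (τ c) := by
  funext b a q
  refine (congrArg (fun z => ((-1 : ℤ) ^ (a * b)) • z) (tot_eq c a b q)).trans ?_
  refine Eq.trans ?_ (tot_eq (T := T.transp) (τ c) b a q).symm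
  refine (smul_add _ _ _).trans ?_
  refine (congrArg₂ (fun x y : T.X a b q => x + y) (smul_add _ _ _) (τ_tV c a b q)).trans ?_
  refine congrArg (fun x : T.transp.X b a q => x + ((-1 : ℤ) ^ (b + a)) • T.transp.tV (τ c) b a q) ?_
  exact (congrArg₂ (fun x y : T.X a b q => x + y) (τ_tB c a b q) (τ_tA c a b q)).trans (add_comm _ _)

/-- A remaining slice is exact. -/
theorem exactTot_slice_zero (hA : ∀ a, ExactTot (T.slice a))
    (hB : ∀ b, ExactTot (T.transp.slice (b + 1))) : ExactTot (T.transp.slice 0) := by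
  let T' := T.transp
  have htot : ∀ n c, c ∈ T'.W (n + 1) → T'.tot c = 0 → ∃ b, b ∈ T'.W n ∧ T'.tot b = c := by
    intro n c hc hd
    obtain ⟨b, hb, -, e⟩ := exists_tot_eq (T := T) (n + 2) n 0 (τ (T := T') c) le_rfl
      (fun a _ => hA a) (τ_mem_W (T := T') hc) (fun a h => absurd h (Nat.not_lt_zero a))
      ((τ_tot (T := T') c).symm.trans ((congrArg _ hd).trans (map_zero _)))
    exact ⟨τ b, τ_mem_W hb, by rw [← τ_tot, e]; exact τ_τ (T := T') c⟩
  have htot0 : ∀ c, c ∈ T'.W 0 → T'.tot c = 0 → c = 0 := by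
    intro c hc hd
    have h := eq_zero_of_slices (T := T) (fun _ => hA 0) (c := τ (T := T') c) (τ_mem_W (T := T') hc)
      (fun a h => absurd h (Nat.not_lt_zero a))
      ((τ_tot (T := T') c).symm.trans ((congrArg _ hd).trans (map_zero _)))
    exact (τ_τ (T := T') c).symm.trans ((congrArg _ h).trans (map_zero _))
  have hfil : ∀ (x : (T'.slice 0).G), (T'.slice 0).tot x = 0 → T'.tot (Pi.single 0 x) ∈ T'.Fil 1 :=
    fun x hx a ha => by
      obtain rfl : a = 0 := by omega
      rw [tot_single_self, hx, smul_zero]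
  refine ⟨fun x hx hd => ?_, fun n x hx hd => ?_⟩
  · have hW : Pi.single 0 x ∈ T'.W 0 := single_mem_W (j := 0) rfl hx
    have h1 : T'.tot (Pi.single 0 x) = 0 := by
      have hF := hfil x hd
      have hc := tot_mem_W hW
      have h0 := (hB 0).1 _ (slice_mem_W hc (j := 0) rfl) (slice_cocycle hF (tot_tot _))
      funext a
      rcases a with _ | _ | a
      · exact hF 0 zero_lt_one
      · exact h0
      · exact slice_eq_zero hc (by omega)
    have := congrFun (htot0 _ hW h1) 0
    rw [Pi.single_eq_same] at this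
    exact this
  · have hW : Pi.single 0 x ∈ T'.W (n + 1) := single_mem_W (zero_add _) hx
    obtain ⟨c₁, hc₁, hF₁, e₁⟩ := exists_tot_eq (T := T') (n + 2) (n + 1) 1 (T'.tot (Pi.single 0 x))
      le_rfl (fun a ha => (Nat.sub_add_cancel ha) ▸ hB (a - 1)) (tot_mem_W hW) (hfil x hd) (tot_tot _)
    obtain ⟨b, hb, e⟩ := htot n (Pi.single 0 x - c₁) (sub_mem hW hc₁)
      (by rw [map_sub, e₁, sub_self])
    refine ⟨b 0, slice_mem_W hb (zero_add n), ?_⟩
    rw [← tot_zero, e, Pi.sub_apply, Pi.single_eq_same, hF₁ 0 zero_lt_one, sub_zero]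

/-- The quotient by stable subgroups. -/
def Tri.quot (T : Tri.{u}) (N : ∀ a b q, AddSubgroup (T.X a b q))
    (hs : ∀ a, (T.slice a).Stable (N a))
    (ht : ∀ b, (T.transp.slice b).Stable fun a q => N a b q) : Tri.{u} where
  X a b q := AddCommGrpCat.of (T.X a b q ⧸ N a b q)
  ha a b q := ((T.transp.slice b).quot (ht b)).h a q
  hb a b q := ((T.slice a).quot (hs a)).h b q
  v a b q := ((T.slice a).quot (hs a)).v b q
  haa a b q := ((T.transp.slice b).quot (ht b)).hh a q
  hbb a b q := ((T.slice a).quot (hs a)).hh b q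
  vv a b q := ((T.slice a).quot (hs a)).vv b q
  cab a b q x := by
    induction x using QuotientAddGroup.induction_on with
    | _ x => exact congrArg (QuotientAddGroup.mk' (N (a + 1) (b + 1) q)) (T.cab a b q x)
  cav a b q := ((T.transp.slice b).quot (ht b)).comm a q
  cbv a b q := ((T.slice a).quot (hs a)).comm b q

end Groth.Agent.Lib.FibDesc.Tri
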